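import Cfsg.Agent.H129.WData

/-!
# Data of the torus of order `q⁴ - q² + 1` of `³D₄(q)` (helper129)
-/

set_option autoImplicit false

namespace Cfsg.Agent.H129.DataD4C

open Cfsg.Agent.H129.TorusTw Cfsg.Agent.H129.WData Cfsg.Agent.ChevalleyStructure.CoxeterGeomTypes
open Cfsg.Lie Cfsg.Lie.ChevalleyDatum

/-- the Cartan matrix -/
def Am : Mat 4 := ![![2, -1, 0, 0],
    ![-1, 2, -1, -1],
    ![0, -1, 2, 0],
    ![0, -1, 0, 2]]

/-- the partial products -/
def chain : List (Fin 4 × Mat 4) := [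
    (0, ![![0, 1, 0, 0],
      ![-1, -1, 0, 0],
      ![1, 1, 1, 0],
      ![1, 1, 0, 1]]),
    (1, ![![1, 1, 0, 0],
      ![0, -1, 0, 0],
      ![0, 1, 1, 0],
      ![0, 1, 0, 1]])]

/-- the permutation of the simple roots -/
def pi : Fin 4 → Fin 4 := ![2, 1, 3, 0]

/-- the matrix of `θ` -/
def Th : Mat 4 := ![![1, 1, 1, 0],
    ![-1, -1, 0, 0],
    ![1, 1, 0, 1],
    ![0, 1, 0, 0]]

/-- the basis -/
def V : Mat 4 := ![![-1, -1, -1, 0],
    ![-1, -1, -1, -1],
    ![-1, -2, -1, -1],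
    ![0, -1, -1, -1]]

/-- the coordinates -/
def B : Mat 4 := ![![0, -1, 0, 1],
    ![0, 1, -1, 0],
    ![-1, 0, 1, -1],
    ![1, -1, 0, 0]]

/-- the polynomial -/
def c : Fin 4 → ℤ := ![1, 0, -1, 0]

/-- the representatives of the orbits of `θ` on the roots -/
def R : Fin 2 → Fin 4 → ℤ := ![![-1, -2, -1, -1],
    ![0, 0, 0, -1]]

/-- the values of the functional on the representatives -/
def G : Fin 2 → Fin 4 → ℤ := ![![0, 0, 1, 0],
    ![-1, 1, 0, 0]]

/-- predecessor -/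
def prv (r : ℕ) : ℕ := Nat.mod (Nat.shiftRight 0x1615120d09081714110c131000040b0603000f0e0a050200 (8 * r)) 256

/-- depth -/
def dep (r : ℕ) : ℕ := Nat.mod (Nat.shiftRight 0x60504040203070508070306000901020b0109080a0a0b00 (8 * r)) 256

theorem hA : ∀ i j, Am i j = cartanOf chevD4 4 i j := by decide +kernel

theorem chainOK : ChainOK Am chain := by decide +kernel

theorem hd_pi : ∀ j, hd chain (pi j) = Th j := by decide +kernel

theorem cycOK : CycOK 4 Th V B c := by decide +kernel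

theorem rootOK : RootOK chevD4 4 Th R prv dep := by decide +kernel

theorem coefOK : ∀ s i, ∑ j, R s j * B j i = G s i := by decide +kernel

theorem fN_eq (x : ℤ) : fN c x = 1 - x ^ 2 + x ^ 4 := by
  unfold fN c
  simp [Fin.sum_univ_succ]
  ring

theorem G_0 (x : ℤ) : Gq B x (R 0) = x ^ 2 := by
  rw [Gq_coef B x (R 0) (G 0) (coefOK 0)]
  unfold G
  simp [Fin.sum_univ_succ]
  try ring

theorem bez_0 (x : ℤ) : (1) * (1 - x ^ 2 + x ^ 4) + (1 - x ^ 2) * (x ^ 2) = 1 := by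
  ring

theorem G_1 (x : ℤ) : Gq B x (R 1) = -1 + x := by
  rw [Gq_coef B x (R 1) (G 1) (coefOK 1)]
  unfold G
  simp [Fin.sum_univ_succ]
  try ring

theorem bez_1 (x : ℤ) : (1) * (1 - x ^ 2 + x ^ 4) + (-x ^ 2 - x ^ 3) * (-1 + x) = 1 := by
  ring

/-- Common divisors of `f(x)` and the value of `Gq` on a representative. -/
theorem dvd_of_G {x r : ℤ} (h : r ∣ 1 - x ^ 2 + x ^ 4) (s : Fin 2) (hs : r ∣ Gq B x (R s)) :
    r ∣ 1 := by
  have key : ∀ {a b g y : ℤ}, a * (1 - x ^ 2 + x ^ 4) + b * g = y → r ∣ g → r ∣ y := fun e hg => by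
    rw [← e]
    exact dvd_add (h.mul_left _) (hg.mul_left _)
  fin_cases s
  · exact key (bez_0 x) (by rw [← G_0]; exact hs)
  · exact key (bez_1 x) (by rw [← G_1]; exact hs)

end Cfsg.Agent.H129.DataD4C
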