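import Cfsg.Agent.H129.WData

/-!
# Data of a torus of type E6 (helper129)
-/

set_option autoImplicit false

namespace Cfsg.Agent.H129.DataE6

open Cfsg.Agent.H129.TorusTw Cfsg.Agent.H129.WData Cfsg.Agent.ChevalleyStructure.CoxeterGeomTypes
open Cfsg.Lie Cfsg.Lie.ChevalleyDatum

/-- the Cartan matrix -/
def Am : Mat 6 := ![![2, 0, -1, 0, 0, 0],
    ![0, 2, 0, -1, 0, 0],
    ![-1, 0, 2, -1, 0, 0],
    ![0, -1, -1, 2, -1, 0],
    ![0, 0, 0, -1, 2, -1],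
    ![0, 0, 0, 0, -1, 2]]

/-- the partial products -/
def chain : List (Fin 6 × Mat 6) := [
    (0, ![![0, 0, 1, 0, 0, 0],
      ![1, 0, 1, 1, 1, 0],
      ![0, 1, 0, 1, 1, 0],
      ![-1, -1, -1, -1, -1, 0],
      ![1, 1, 1, 1, 1, 1],
      ![0, 0, 0, 0, -1, -1]]),
    (4, ![![1, 0, 1, 0, 0, 0],
      ![0, 0, 1, 1, 1, 0],
      ![0, 1, 0, 1, 1, 0],
      ![0, -1, -1, -1, -1, 0],
      ![0, 1, 1, 1, 1, 1],
      ![0, 0, 0, 0, -1, -1]]),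
    (2, ![![1, 0, 1, 0, 0, 0],
      ![0, 0, 1, 1, 0, 0],
      ![0, 1, 0, 1, 0, 0],
      ![0, -1, -1, -1, 0, 0],
      ![0, 1, 1, 1, 1, 1],
      ![0, 0, 0, 0, 0, -1]]),
    (5, ![![1, 0, 0, 0, 0, 0],
      ![0, 0, 0, 1, 0, 0],
      ![0, 1, 1, 1, 0, 0],
      ![0, -1, 0, -1, 0, 0],
      ![0, 1, 0, 1, 1, 1],
      ![0, 0, 0, 0, 0, -1]]),
    (1, ![![1, 0, 0, 0, 0, 0],
      ![0, 0, 0, 1, 0, 0],
      ![0, 1, 1, 1, 0, 0],
      ![0, -1, 0, -1, 0, 0],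
      ![0, 1, 0, 1, 1, 0],
      ![0, 0, 0, 0, 0, 1]]),
    (3, ![![1, 0, 0, 0, 0, 0],
      ![0, 1, 0, 1, 0, 0],
      ![0, 0, 1, 1, 0, 0],
      ![0, 0, 0, -1, 0, 0],
      ![0, 0, 0, 1, 1, 0],
      ![0, 0, 0, 0, 0, 1]])]

/-- the matrix of `θ` -/
def Th : Mat 6 := ![![0, 0, 1, 0, 0, 0],
    ![1, 0, 1, 1, 1, 0],
    ![0, 1, 0, 1, 1, 0],
    ![-1, -1, -1, -1, -1, 0],
    ![1, 1, 1, 1, 1, 1],
    ![0, 0, 0, 0, -1, -1]]

/-- the basis -/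
def V : Mat 6 := ![![-1, -1, -1, -1, 0, 0],
    ![0, 0, -1, -1, -1, 0],
    ![0, -1, 0, -1, -1, -1],
    ![-1, 0, -1, -1, 0, 0],
    ![1, 0, 0, 0, 0, 0],
    ![0, 0, 1, 0, 0, 0]]

/-- the coordinates -/
def B : Mat 6 := ![![0, 0, 0, 0, 1, 0],
    ![-1, 0, 0, 1, 0, 0],
    ![0, 0, 0, 0, 0, 1],
    ![0, 0, 0, -1, -1, -1],
    ![0, -1, 0, 1, 1, 0],
    ![1, 1, -1, -1, 0, 1]]

/-- the polynomial -/
def c : Fin 6 → ℤ := ![1, 1, 0, -1, 0, 1]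

/-- the representatives of the orbits of `θ` on the roots -/
def R : Fin 6 → Fin 6 → ℤ := ![![-1, -2, -2, -3, -2, -1],
    ![1, 1, 2, 2, 1, 0],
    ![-1, -1, -2, -2, -1, 0],
    ![0, 1, 0, 0, 0, 0],
    ![-1, -1, -1, -1, 0, 0],
    ![1, 1, 1, 1, 0, 0]]

/-- the values of the functional on the representatives -/
def G : Fin 6 → Fin 6 → ℤ := ![![1, 1, 1, 0, 0, 0],
    ![-1, -1, 0, 0, 0, 0],
    ![1, 1, 0, 0, 0, 0],
    ![-1, 0, 0, 1, 0, 0],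
    ![1, 0, 0, 0, 0, 0],
    ![-1, 0, 0, 0, 0, 0]]

/-- predecessor -/
def prv (r : ℕ) : ℕ := Nat.mod (Nat.shiftRight 0x45473e4200333734252000302e311c0d4346443b393c2c2a2d00403d4138353236231e281f29241115120f060a072f1a1d1b0b0e0c0301043a2b1619170027221310140005090000 (8 * r)) 256

/-- depth -/
def dep (r : ℕ) : ℕ := Nat.mod (Nat.shiftRight 0x6070507000602030b0400070103040401080802050802060500040103050909090b0a0a0a0a0b0309090503010a060b06020805080802010404030707000a0b09020600070b0100 (8 * r)) 256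

theorem hA : ∀ i j, Am i j = cartanOf chevE6 6 i j := by decide +kernel

theorem chainOK : ChainOK Am chain := by decide +kernel

theorem hd_eq : hd chain = Th := rfl

theorem cycOK : CycOK 6 Th V B c := by decide +kernel

theorem rootOK : RootOK chevE6 6 Th R prv dep := by decide +kernel

theorem coefOK : ∀ s i, ∑ j, R s j * B j i = G s i := by decide +kernel

theorem fN_eq (x : ℤ) : fN c x = 1 + x - x ^ 3 + x ^ 5 + x ^ 6 := by
  unfold fN c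
  simp [Fin.sum_univ_succ]
  ring

theorem G_0 (x : ℤ) : Gq B x (R 0) = 1 + x + x ^ 2 := by
  rw [Gq_coef B x (R 0) (G 0) (coefOK 0)]
  unfold G
  simp [Fin.sum_univ_succ]
  try ring

theorem bez_0 (x : ℤ) : (-x) * (1 - x ^ 2 + x ^ 4) + (2 - x - x ^ 2 + x ^ 3) * (1 + x + x ^ 2) = 2 := by
  ring

theorem G_1 (x : ℤ) : Gq B x (R 1) = -1 - x := by
  rw [Gq_coef B x (R 1) (G 1) (coefOK 1)]
  unfold G
  simp [Fin.sum_univ_succ]
  try ring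

theorem bez_1 (x : ℤ) : (1) * (1 - x ^ 2 + x ^ 4) + (-x ^ 2 + x ^ 3) * (-1 - x) = 1 := by
  ring

theorem G_2 (x : ℤ) : Gq B x (R 2) = 1 + x := by
  rw [Gq_coef B x (R 2) (G 2) (coefOK 2)]
  unfold G
  simp [Fin.sum_univ_succ]
  try ring

theorem bez_2 (x : ℤ) : (1) * (1 - x ^ 2 + x ^ 4) + (x ^ 2 - x ^ 3) * (1 + x) = 1 := by
  ring

theorem G_3 (x : ℤ) : Gq B x (R 3) = -1 + x ^ 3 := by
  rw [Gq_coef B x (R 3) (G 3) (coefOK 3)]
  unfold G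
  simp [Fin.sum_univ_succ]
  try ring

theorem bez_3 (x : ℤ) : (1 + x ^ 2) * (1 - x ^ 2 + x ^ 4) + (-1 - x ^ 3) * (-1 + x ^ 3) = 2 := by
  ring

theorem G_4 (x : ℤ) : Gq B x (R 4) = 1 := by
  rw [Gq_coef B x (R 4) (G 4) (coefOK 4)]
  unfold G
  simp [Fin.sum_univ_succ]
  try ring

theorem bez_4 (x : ℤ) : (0) * (1 - x ^ 2 + x ^ 4) + (1) * (1) = 1 := by
  ring

theorem G_5 (x : ℤ) : Gq B x (R 5) = -1 := by
  rw [Gq_coef B x (R 5) (G 5) (coefOK 5)]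
  unfold G
  simp [Fin.sum_univ_succ]
  try ring

theorem bez_5 (x : ℤ) : (0) * (1 - x ^ 2 + x ^ 4) + (-1) * (-1) = 1 := by
  ring

/-- Common divisors of `f(x)` and the value of `Gq` on a representative. -/
theorem dvd_of_G {x r : ℤ} (h : r ∣ 1 - x ^ 2 + x ^ 4) (s : Fin 6) (hs : r ∣ Gq B x (R s)) :
    r ∣ 1 ∨ r ∣ 2 := by
  have key : ∀ {a b g y : ℤ}, a * (1 - x ^ 2 + x ^ 4) + b * g = y → r ∣ g → r ∣ y := fun e hg => by
    rw [← e]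
    exact dvd_add (h.mul_left _) (hg.mul_left _)
  fin_cases s
  · exact Or.inr (key (bez_0 x) (by rw [← G_0]; exact hs))
  · exact Or.inl (key (bez_1 x) (by rw [← G_1]; exact hs))
  · exact Or.inl (key (bez_2 x) (by rw [← G_2]; exact hs))
  · exact Or.inr (key (bez_3 x) (by rw [← G_3]; exact hs))
  · exact Or.inl (key (bez_4 x) (by rw [← G_4]; exact hs))
  · exact Or.inl (key (bez_5 x) (by rw [← G_5]; exact hs))

end Cfsg.Agent.H129.DataE6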