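import Cfsg.Agent.H129.StCover
import Cfsg.Agent.H129.UntwData

/-!
# Self-centralising cyclic tori of E₆(q), E₇(q), non-trivial centre (helper129)
-/

set_option autoImplicit false
set_option linter.unusedSectionVars false

namespace Cfsg.Agent.H129.UntwTwo

open CoxeterSystem Cfsg Cfsg.Lie Cfsg.Lie.ChevalleyDatum
open Cfsg.Agent.ChevalleyStructure Cfsg.Agent.ChevalleyStructure.Elts Cfsg.Agent.ChevalleyStructure.CoxeterGeom
  Cfsg.Agent.ChevalleyStructure.CoxeterGeomTypes Cfsg.Agent.ChevalleyStructure.NPerm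
open Cfsg.Agent.Tits.Roots Cfsg.Agent.Tits.Core Cfsg.Agent.Nodes Cfsg.Agent.Nodes.Reps Cfsg.Agent.Nodes.BNOf
  Cfsg.Agent.Nodes.RGDChev
open Cfsg.Agent.KFacts.RgdChevCoord Cfsg.Agent.GpExc.Field Cfsg.Agent.BpExc.Fr Cfsg.Agent.BpExc.LangFr
  Cfsg.Agent.BpExc.TowChev Cfsg.Agent.BpExc
open Cfsg.Agent.H129.TorusChar Cfsg.Agent.H129.TorusCent Cfsg.Agent.H129.TorusTw Cfsg.Agent.H129.TorusMain
  Cfsg.Agent.H129.TorusUntw Cfsg.Agent.H129.WData Cfsg.Agent.H129.StCover
open Cfsg.Agent.ChevalleyStructure.StTorus (eval_eq_one)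

universe u

variable {D : ChevalleyDatum} {l : ℕ} {M : CoxeterMatrix (Fin l)} (hp : IsType D l M)
  {W : Type*} [Group W] (cs : CoxeterSystem M W)

include cs in
/-- The `d`-th powers of the fixed points lie in the image of the finite group. -/
theorem fix_pow_range {k : Type u} [Field k] [IsAlgClosed k] {p e : ℕ} [Fact p.Prime] [CharP k p] {F : Type u}
    [Field F] [Fintype F] (f : F →+* k) (hq : Fintype.card F = p ^ e) {d : ℕ} {B : Fin l → Fin l → ℤ}
    (hB : InvC D l d B) (hd : d ≠ 0) {y : ↥(D.group k)} (hy : phi D k p e y = y) :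
    y ^ d ∈ (emb hp.inList f).range := by
  obtain ⟨x, t, ht, rfl⟩ := fix_split hp f hq hy
  have hf : phi D k p e t = t := by
    rw [map_mul, phi_emb hp f hq] at hy
    exact mul_left_cancel hy
  have key : ∀ n : ℕ, ∃ x' : ↥(D.group F), (emb hp.inList f x * t) ^ n = emb hp.inList f x' * t ^ n := by
    intro n
    induction n with
    | zero => exact ⟨1, by simp⟩
    | succ n ih =>
      obtain ⟨x', hx'⟩ := ih
      have hfn : phi D k p e (t ^ n) = t ^ n := by rw [map_pow, hf]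
      have h1 := Emb.conj_mem_range (F := F) (hD := hp.inList) (f := f) (φ := iterateFrobenius k p e)
        (fun t => by rw [iterateFrobenius_def, hq]) (σ := phi D k p e) coe_phi hfn
        (n := emb hp.inList f x) ⟨x, rfl⟩
      obtain ⟨x'', hx''⟩ := h1
      refine ⟨x' * x'', ?_⟩
      rw [pow_succ, hx', map_mul, hx'', pow_succ]
      group
  obtain ⟨x', hx'⟩ := key d
  rw [hx']
  exact mul_mem ⟨x', rfl⟩ (fix_pow hp cs f hq hB hd ht hf)

/-- Generation of the twisted torus. -/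
theorem mem_zpowers_of {k : Type u} [Field k] {θ : (Fin l → ℤ) →+ (Fin l → ℤ)} {V B : Fin l → Fin l → ℤ}
    {c : Fin l → ℤ} (h : Cyc l θ V B c) (hl : 0 < l) {q N : ℕ} (hN : fN c q = N) (hN0 : N ≠ 0) {t : ↥(D.group k)}
    (ht : t ∈ TT D k) {u : k} (hu : IsPrimitiveRoot u N) (h3 : ∀ x, cX hp t x = u ^ Gq B q x)
    {s : ↥(D.group k)} (hs : s ∈ TT D k) (hsθ : ∀ x, cX hp s (θ x) = cX hp s x ^ q) : s ∈ Subgroup.zpowers t := by
  have : NeZero N := ⟨hN0⟩
  have h4 := h.zpow_fN (isMC_cX hp hs) hl hsθ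
  rw [hN, zpow_natCast] at h4
  obtain ⟨n, -, hn⟩ := hu.eq_pow_of_pow_eq_one h4
  have e : s = t ^ n := by
    refine cX_inj hp hs (pow_mem ht n) fun i => ?_
    rw [cX_pow hp ht, h.eq_zpow (isMC_cX hp hs) hl hsθ, h3, ← hn,
      ← zpow_natCast, ← zpow_natCast, ← zpow_mul, ← zpow_mul, mul_comm]
  rw [e]
  exact Subgroup.npow_mem_zpowers t n

/-- **The main theorem for the untwisted groups with non-trivial centre of the simply connected group.** -/
theorem untw_two [Finite W] (hl : 0 < l) {F : Type u} [Field F] [Fintype F] {q : ℕ} (hq : Fintype.card F = q)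
    {d : ℕ} (hd : d.Prime) {B' : Fin l → Fin l → ℤ} (hB : InvC D l d B') (hdq : d ∣ q - 1)
    (hPhi : ∃ Φ : (Fin D.rank → (AlgebraicClosure F)ˣ) →* D.SteinbergGroup (AlgebraicClosure F), IsPhi Φ)
    {kv : Fin D.rank → ℤ} {i0 : Fin D.rank} (hk0 : kv i0 = 1)
    (hkv : ∀ s < D.nroots, (d : ℤ) ∣ ∑ i : Fin D.rank, kv i * D.cartan i s)
    {Bc : Fin D.rank → Fin D.rank → ℤ}
    (hBc : ∀ i m : Fin D.rank, ∑ j : Fin D.rank, D.cartan i (D.simple j) * Bc j m = if i = m then (d : ℤ) else 0)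
    (w : W) {V B : Fin l → Fin l → ℤ} {c : Fin l → ℤ}
    (h : Cyc l (theta hp cs w (AddEquiv.refl (Fin l → ℤ))) V B c) {N r : ℕ} (hfN : fN c (q : ℤ) = N)
    (hqN : q.Coprime N) (hr : r.Prime) (hrW : ¬ r ∣ Nat.card W) (hrN : d * r ∣ N)
    (hC : ∀ a, IsRoot cs hp.isCartan a → (r : ℤ) ∣ Gq B (q : ℤ) a → ¬ (N : ℤ) ∣ 2 * d * Gq B (q : ℤ) a)
    (hO : Orth hp cs {a | IsRoot cs hp.isCartan a ∧ (r : ℤ) ∣ Gq B (q : ℤ) a}) :
    ∃ H : Subgroup ↥(D.group F), IsCyclic ↥H ∧ Nat.card ↥H = N / d ∧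
      Subgroup.centralizer (H : Set ↥(D.group F)) = H := by
  obtain ⟨p, e, hpF, hpc, hpk, he, rfl, hk⟩ := exists_closure hq
  obtain ⟨Φ, hΦ⟩ := hPhi
  have hpN : ¬ p ∣ N := fun h1 => by
    have h2 : p ∣ Nat.gcd (p ^ e) N := Nat.dvd_gcd (dvd_pow_self p he.ne') h1
    rw [hqN] at h2
    exact hpF.out.one_lt.ne' (Nat.dvd_one.1 h2)
  have hpd : ¬ p ∣ d := fun h1 => hpN (h1.trans ((Dvd.intro r rfl).trans hrN))
  -- the centre
  have hdk : ((d : ℕ) : AlgebraicClosure F) ≠ 0 := by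
    rw [Ne, CharP.cast_eq_zero_iff (AlgebraicClosure F) p]
    exact hpd
  have : NeZero ((d : ℕ) : AlgebraicClosure F) := ⟨hdk⟩
  have : NeZero d := ⟨hd.ne_zero⟩
  obtain ⟨ζ, hζ⟩ := HasEnoughRootsOfUnity.exists_primitiveRoot (AlgebraicClosure F) d
  have hζ0 : ζ ≠ 0 := hζ.ne_zero hd.ne_zero
  set ω : (AlgebraicClosure F)ˣ := Units.mk0 ζ hζ0 with hω
  have hωd : ω ^ d = 1 := Units.ext (by rw [Units.val_pow_eq_pow_val]; exact hζ.pow_eq_one)
  have hc : ∀ s < D.nroots, ∏ i : Fin D.rank, (ω ^ kv i) ^ D.cartan i s = 1 := by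
    intro s hs
    obtain ⟨a, ha⟩ := hkv s hs
    rw [Finset.prod_congr rfl fun i _ => (zpow_mul ω (kv i) (D.cartan i s)).symm, prod_zpow_sum, ha, zpow_mul,
      zpow_natCast, hωd, one_zpow]
  have hc1 : (fun i => ω ^ kv i : Fin D.rank → (AlgebraicClosure F)ˣ) ≠ 1 := by
    intro h1
    have h2 := congrFun h1 i0
    simp only [hk0, zpow_one, Pi.one_apply] at h2
    have h3 : ζ = 1 := congrArg Units.val h2
    rw [h3] at hζ
    exact hd.one_lt.ne' (hζ.eq_orderOf.trans orderOf_one)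
  have hfix : ∀ b : Fin D.rank → (AlgebraicClosure F)ˣ, (∀ s < D.nroots, ∏ i : Fin D.rank, b i ^ D.cartan i s = 1) →
      ∀ i, b i ^ p ^ e = b i := by
    intro b hb i
    have h1 := eval_eq_one (fun i j : Fin D.rank => D.cartan i (D.simple j)) (fun j => Bc j i)
      (fun m => if m = i then (d : ℤ) else 0) (fun m => hBc m i) b
      (fun j => hb (D.simple j) (simple_lt hp.inList j.2))
    rw [Finset.prod_eq_single i] at h1
    · rw [if_pos rfl, zpow_natCast] at h1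
      obtain ⟨a, ha⟩ := hdq
      have h2 : p ^ e = d * a + 1 := by
        have : 0 < p ^ e := Nat.pow_pos hpF.out.pos
        omega
      rw [h2, pow_succ, pow_mul, h1, one_pow, one_mul]
    · intro j _ hj; rw [if_neg hj, zpow_zero]
    · intro hi; exact absurd (Finset.mem_univ _) hi
  have hnsys := nsys_of_locFin hp cs hk p
  have hN0 : N ≠ 0 := fun h0 => hpN (by rw [h0]; exact dvd_zero p)
  refine exists_cyclic (k := AlgebraicClosure F) hp cs hl hk (hN := hnsys) he isFrob_phi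
    (fr_phi hp cs) hB hd.ne_zero w h hfN hpN (d := d) (r := r)
    (e0 := emb hp.inList (algebraMap F (AlgebraicClosure F)))
    (emb_injective hp.inList _) (phi_emb hp _ hq) hr hrW hrN hC hO ?_
  intro n z t u hn hz ht hτ hu hcX s hs
  refine hS_of_prime hd ?_ ?_ hs
  · rw [← conj_pow]
    exact fix_pow_range hp cs _ hq hB hd.ne_zero (conj_fixed hz hτ (Subgroup.mem_zpowers t))
  · exact not_mem_range hp cs hΦ _ hq hc hc1 hfix hn hz fun s hs hs' =>
      mem_zpowers_of hp h hl hfN hN0 ht hu hcX hs ((tau_iff hp cs hk isFrob_phi (fr_phi hp cs) hn hs).1 hs')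

end Cfsg.Agent.H129.UntwTwo
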