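import Cfsg.Agent.H129.RealT
import Cfsg.Agent.H129.TwT
import Cfsg.Agent.H129.DataTE6c

/-!
# Real elements of odd prime order in `³D₄(q)` and `²E₆(q)` (helper129)
-/

set_option autoImplicit false
set_option linter.unusedSectionVars false

namespace Cfsg.Agent.H129.RealTw

open Cfsg Cfsg.Lie Cfsg.Agent.H129 Cfsg.Agent.Nodes.RGDChev Cfsg.Agent.H129.TorusTw Cfsg.Agent.H101.RO
  Cfsg.Agent.H129.RealT

universe u

variable {K : Type u} [Field K] [Fintype K] {q : ℕ}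

/-- `³D₄(q)` : the torus of order `q⁴ - q² + 1`. -/
theorem realOdd_D4 (hq : IsPrimePow q) (hK : Fintype.card K = q ^ 3) : RealOdd ↥(twistedD4 K q) := by
  have hq2 : 2 ≤ q := hq.two_le
  have h0 : q ^ 2 ≤ q ^ 4 := Nat.pow_le_pow_right (by omega) (by norm_num)
  have hN : ((q ^ 4 - q ^ 2 + 1 : ℕ) : ℤ) = 1 - (q : ℤ) ^ 2 + (q : ℤ) ^ 4 := by
    push_cast [Nat.cast_sub h0]; ring
  obtain ⟨r, hr, hrq, hr2, hr3, hr5, hr7⟩ := S2373.exists_prime hq2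
  have hrN : r ∣ q ^ 4 - q ^ 2 + 1 := by
    have h1 := hrq
    rw [← hN] at h1
    exact Int.natCast_dvd_natCast.1 h1
  have hrW := TwD4Cyc.not_dvd_W hr hr2 hr3
  have hG : ∀ s, ¬ (r : ℤ) ∣ Gq DataD4C.B (q : ℤ) (DataD4C.R s) := by
    intro s hs
    have h1 := DataD4C.dvd_of_G hrq s hs
    exact hr.one_lt.ne' (Nat.dvd_one.1 (by exact_mod_cast h1))
  obtain ⟨T, h1, h3, h5, h6⟩ := TwT.tri_T hq hK DataD4C.hA DataD4C.chainOK DataD4C.hd_pi DataD4C.cycOK DataD4C.rootOK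
    DataD4C.chain2OK DataD4C.hd2_eq (N := q ^ 4 - q ^ 2 + 1)
    (by rw [DataD4C.fN_eq, hN]) (UntwData.coprime_of_eq (a := -(q : ℤ) + (q : ℤ) ^ 3) (by rw [hN]; ring))
  refine of_T h1 hr hr2 (by rw [h3]; exact hrN) (by
    rw [h3]
    refine (Nat.even_sub h0 |>.2 ?_).add_one
    simp [Nat.even_pow]) (h5 r hr hrW hG) (h6 r hr hrN hrW hG) (j := 2) ?_
  have h7 : (r : ℤ) ∣ (((q ^ 3) ^ 2 + 1 : ℕ) : ℤ) := by
    push_cast
    have e : ((q : ℤ) ^ 3) ^ 2 + 1 = (1 - (q : ℤ) ^ 2 + (q : ℤ) ^ 4) * (q ^ 2 + 1) := by ring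
    rw [e]
    exact hrq.mul_right _
  exact Int.natCast_dvd_natCast.1 h7

/-- `²E₆(q)` : the torus of order `(q⁴ - q² + 1)(q² - q + 1)/(3, q + 1)`. -/
theorem realOdd_E6 (hq : IsPrimePow q) (hK : Fintype.card K = q ^ 2) : RealOdd ↥(twistedE6 K q) := by
  have hq2 : 2 ≤ q := hq.two_le
  have h0 : q ^ 2 ≤ q ^ 4 := Nat.pow_le_pow_right (by omega) (by norm_num)
  have hle : q ≤ q ^ 2 := by nlinarith
  have hN : (((q ^ 4 - q ^ 2 + 1) * (q ^ 2 - q + 1) : ℕ) : ℤ) =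
      1 - (q : ℤ) + (q : ℤ) ^ 3 - (q : ℤ) ^ 5 + (q : ℤ) ^ 6 := by
    push_cast [Nat.cast_sub h0, Nat.cast_sub hle]; ring
  obtain ⟨r, hr, hrq, hr2, hr3, hr5, hr7⟩ := S2373.exists_prime hq2
  have hr12 : r ∣ q ^ 4 - q ^ 2 + 1 := by
    have hN : ((q ^ 4 - q ^ 2 + 1 : ℕ) : ℤ) = 1 - (q : ℤ) ^ 2 + (q : ℤ) ^ 4 := by
      push_cast [Nat.cast_sub h0]; ring
    have h1 := hrq
    rw [← hN] at h1
    exact Int.natCast_dvd_natCast.1 h1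
  have hrW : ¬ r ∣ Nat.card CoxeterMatrix.E₆.Group := by
    rw [TwT.card_W6, show (51840 : ℕ) = 2 ^ 7 * 3 ^ 4 * 5 ^ 1 * 7 ^ 0 by norm_num]
    exact not_dvd_of hr hr2 hr3 hr5 hr7
  have hG : ∀ s, ¬ (r : ℤ) ∣ Gq DataTE6c.B (q : ℤ) (DataTE6c.R s) := by
    intro s hs
    rcases DataTE6c.dvd_of_G hrq s hs with h1 | h1
    · exact hr.one_lt.ne' (Nat.dvd_one.1 (by exact_mod_cast h1))
    · exact hr2 ((Nat.prime_dvd_prime_iff_eq hr Nat.prime_two).1 (by exact_mod_cast h1))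
  have hg : Nat.gcd 3 (q + 1) = 1 ∨ Nat.gcd 3 (q + 1) = 3 :=
    (Nat.dvd_prime Nat.prime_three).1 (Nat.gcd_dvd_left 3 (q + 1))
  obtain ⟨T, h1, h3, h4, h5, h6⟩ := TwT.flip_T hq hK DataTE6c.hA DataTE6c.chainOK DataTE6c.hd_pi DataTE6c.cycOK
    DataTE6c.rootOK DataTE6c.chain2OK DataTE6c.hd2_eq (N := (q ^ 4 - q ^ 2 + 1) * (q ^ 2 - q + 1))
    (by rw [DataTE6c.fN_eq, hN]) (UntwData.coprime_of_eq (a := -1 + (q : ℤ) ^ 2 - (q : ℤ) ^ 4 + (q : ℤ) ^ 5)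
      (by rw [hN]; ring))
  have hrd : ¬ r ∣ Nat.gcd 3 (q + 1) := fun h =>
    hr3 ((Nat.prime_dvd_prime_iff_eq hr Nat.prime_three).1 (h.trans (Nat.gcd_dvd_left _ _)))
  refine of_T h1 hr hr2 (dvd_of_dvd_mul hr (hr12.mul_right _) hrd h4) (odd_of_dvd h3 ?_)
    (h5 r hr hrW hG) (h6 r hr (hr12.mul_right _) hrW hG) (j := 3 / Nat.gcd 3 (q + 1)) ?_
  · refine Nat.odd_mul.2 ⟨?_, ?_⟩
    · refine (Nat.even_sub h0 |>.2 ?_).add_one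
      simp [Nat.even_pow]
    · refine (Nat.even_sub hle |>.2 ?_).add_one
      simp [Nat.even_pow]
  · have h7 : (r : ℤ) ∣ ((q ^ 6 + 1 : ℕ) : ℤ) := by
      push_cast
      have e : (q : ℤ) ^ 6 + 1 = (1 - (q : ℤ) ^ 2 + (q : ℤ) ^ 4) * (q ^ 2 + 1) := by ring
      rw [e]
      exact hrq.mul_right _
    have h8 := Int.natCast_dvd_natCast.1 h7
    have e2 : ((q ^ 2) ^ Nat.gcd 3 (q + 1)) ^ (3 / Nat.gcd 3 (q + 1)) = q ^ 6 := by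
      rcases hg with h | h
      · rw [h]; norm_num; ring
      · rw [h]; norm_num; ring
    rw [e2]
    exact h8

end Cfsg.Agent.H129.RealTw
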