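import Cfsg.Agent.H182.CentRow
import Cfsg.Agent.S0588

/-!
# The isolated Hall subgroups of the finite simple groups: assembly of S2377 (helper129)

* `Row S` : every prime divisor not connected to `2` has `HasCyc`, or `HasCC` if `S` is one of the exceptions;
* `main` : the conclusion of S2377 from `Row`.
-/

set_option autoImplicit false
set_option linter.unusedSectionVars false

namespace Cfsg.Agent.H129.Isolated

open Cfsg Subgroup
open Cfsg.Agent.H94.PG Cfsg.Agent.H182.Cent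

/-- the exceptional groups -/
def Exc (S : Type*) [Group S] : Prop :=
  (∃ (F : Type) (_ : Field F) (_ : Fintype F), Fintype.card F = 4 ∧
      Nonempty (S ≃* Matrix.ProjectiveSpecialLinearGroup (Fin 3) F)) ∨
    (∃ (F : Type) (_ : Field F) (_ : Fintype F), Odd (Fintype.card F) ∧ ¬ (Fintype.card F).Prime ∧
      Nonempty (S ≃* Matrix.ProjectiveSpecialLinearGroup (Fin 2) F))

/-- the row of a simple group -/
def Row (S : Type*) [Group S] : Prop :=
  ∀ r : ℕ, r.Prime → r ∣ Nat.card S → ¬ Conn S r 2 → HasCyc S r ∨ (HasCC S r ∧ Exc S)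

theorem Row.of_hasCyc {S : Type*} [Group S] (h : ∀ r : ℕ, r.Prime → r ∣ Nat.card S → ¬ Conn S r 2 → HasCyc S r) :
    Row S := fun r hr hd hn => Or.inl (h r hr hd hn)

theorem Row.of_near {S : Type*} [Group S]
    (h : ∀ r : ℕ, r.Prime → r ∣ Nat.card S → ¬ H564.NearTwo.Near S r → HasCyc S r) : Row S :=
  fun r hr hd hn => Or.inl (h r hr hd fun h' => hn h'.conn)

theorem Exc.congr {S H : Type*} [Group S] [Group H] (e : S ≃* H) (h : Exc S) : Exc H := by
  rcases h with ⟨F, i1, i2, h1, ⟨f⟩⟩ | ⟨F, i1, i2, h1, h2, ⟨f⟩⟩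
  · exact Or.inl ⟨F, i1, i2, h1, ⟨e.symm.trans f⟩⟩
  · exact Or.inr ⟨F, i1, i2, h1, h2, ⟨e.symm.trans f⟩⟩

theorem Row.congr {S H : Type*} [Group S] [Group H] (e : S ≃* H) (h : Row S) : Row H := by
  intro r hr hd hn
  rcases h r hr (by rwa [Nat.card_congr e.toEquiv]) (by rwa [conn_congr e]) with h1 | ⟨h1, h2⟩
  · exact Or.inl (h1.congr e)
  · exact Or.inr ⟨h1.congr e, h2.congr e⟩

variable {S : Type*} [Group S] [Finite S]

/-- the adjacency relation of the statement -/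
theorem rel_iff : (fun a b : ℕ => a.Prime ∧ b.Prime ∧ a ≠ b ∧ ∃ g : S, orderOf g = a * b) = Adj S := by
  funext a b
  apply propext
  constructor
  · rintro ⟨ha, hb, hne, g, hg⟩
    have ha0 := ha.ne_zero
    have hb0 := hb.ne_zero
    refine ⟨ha, hb, hne, g ^ b, g ^ a, ?_, ?_, (Commute.refl g).pow_pow b a⟩
    · rw [orderOf_pow' g hb0, hg, Nat.gcd_eq_right (Dvd.intro_left a rfl), Nat.mul_div_cancel _ hb.pos]
    · rw [orderOf_pow' g ha0, hg, Nat.gcd_eq_right (Dvd.intro b rfl), Nat.mul_div_cancel_left _ ha.pos]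
  · rintro ⟨ha, hb, hne, x, y, hx, hy, hxy⟩
    refine ⟨ha, hb, hne, x * y, ?_⟩
    have hco : (orderOf x).Coprime (orderOf y) := by rw [hx, hy]; exact (Nat.coprime_primes ha hb).2 hne
    rw [hxy.orderOf_mul_eq_mul_orderOf_of_coprime hco, hx, hy]

/-- **The structure given by a CC-subgroup.** -/
theorem of_CC {T : Subgroup S} {r : ℕ} (hr : r.Prime) (hd : r ∣ Nat.card ↥T) (hcomm : ∀ a ∈ T, ∀ b ∈ T, Commute a b)
    (hT : ∀ y ∈ T, y ≠ 1 → centralizer ({y} : Set S) ≤ T) :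
    ∃ n : ℕ, (∃ g : S, orderOf g = n) ∧
      (∀ g : S, g ≠ 1 → (∀ p ∈ (orderOf g).primeFactors, Conn S r p) → orderOf g ∣ n) ∧
      IsMulCommutative ↥T ∧ (Nat.card ↥T).Coprime T.index ∧
      (∀ p : ℕ, p.Prime → (p ∣ Nat.card ↥T ↔ (p ∣ Nat.card S ∧ Conn S r p))) ∧
      (IsCyclic ↥T → Nat.card ↥T = n) := by
  have hcm : IsMulCommutative ↥T := ⟨⟨fun a b => Subtype.ext (hcomm a a.2 b b.2).eq⟩⟩
  let ci : CommGroup ↥T := { (inferInstance : Group ↥T) with mul_comm := fun a b => Subtype.ext (hcomm a a.2 b b.2).eq }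
  obtain ⟨t, ht⟩ : ∃ t : ↥T, orderOf t = Monoid.exponent ↥T :=
    Monoid.exists_orderOf_eq_exponent (G := ↥T) Monoid.ExponentExists.of_finite
  refine ⟨Monoid.exponent ↥T, ⟨t, by rw [Subgroup.orderOf_coe, ht]⟩, ?_, hcm, S0588.result T hT, ?_, ?_⟩
  · intro g hg1 hg
    have h1 : orderOf g ≠ 1 := fun h => hg1 (orderOf_eq_one_iff.1 h)
    obtain ⟨p, hp, hpd⟩ := Nat.exists_prime_and_dvd h1
    have hg0 : orderOf g ≠ 0 := (orderOf_pos g).ne'
    have h2 : Conn S r p := hg p (Nat.mem_primeFactors.2 ⟨hp, hpd, hg0⟩)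
    have h3 : p ∣ Nat.card ↥T := (prime_iff hr hd hcomm hT hp).2 ⟨hpd.trans (orderOf_dvd_natCard g), h2⟩
    have ho := orderOf_pow_orderOf_div hg0 hpd
    obtain ⟨h, hh⟩ := exists_conj_mem hT hp h3 (u := g ^ (orderOf g / p)) (k := 1) (by rw [pow_one, ho])
    have hne : h * g ^ (orderOf g / p) * h⁻¹ ≠ 1 := by
      intro e
      have e1 : g ^ (orderOf g / p) = 1 := by
        have : g ^ (orderOf g / p) = h⁻¹ * (h * g ^ (orderOf g / p) * h⁻¹) * h := by group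
        rw [this, e]; group
      rw [e1, orderOf_one] at ho
      exact hp.one_lt.ne ho
    have h4 : h * g * h⁻¹ ∈ T := by
      apply hT _ hh hne
      rw [mem_centralizer_singleton_iff]
      have e1 : g * g ^ (orderOf g / p) = g ^ (orderOf g / p) * g := (Commute.self_pow g _).eq
      calc h * g * h⁻¹ * (h * g ^ (orderOf g / p) * h⁻¹) = h * (g * g ^ (orderOf g / p)) * h⁻¹ := by group
        _ = h * (g ^ (orderOf g / p) * g) * h⁻¹ := by rw [e1]
        _ = h * g ^ (orderOf g / p) * h⁻¹ * (h * g * h⁻¹) := by group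
    have h5 : orderOf (h * g * h⁻¹) = orderOf g :=
      orderOf_injective (MulAut.conj h).toMonoidHom (MulAut.conj h).injective g
    rw [← h5, ← Subgroup.orderOf_mk _ h4]
    exact Monoid.order_dvd_exponent _
  · intro p hp
    exact prime_iff hr hd hcomm hT hp
  · intro hc
    rw [IsCyclic.exponent_eq_card]

/-- **S2377 from the row.** -/
theorem main (hrow : Row S) (r : ℕ) (hr : r.Prime) (hrS : r ∣ Nat.card S)
    (h2 : ¬ Relation.ReflTransGen (fun a b : ℕ => a.Prime ∧ b.Prime ∧ a ≠ b ∧ ∃ g : S, orderOf g = a * b) r 2) :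
    ∃ (n : ℕ) (T : Subgroup S), (∃ g : S, orderOf g = n) ∧
      (∀ g : S, g ≠ 1 → (∀ p ∈ (orderOf g).primeFactors, Relation.ReflTransGen (fun a b : ℕ => a.Prime ∧ b.Prime ∧ a ≠ b ∧ ∃ g : S, orderOf g = a * b) r p) → orderOf g ∣ n) ∧
      IsMulCommutative ↥T ∧ (Nat.card ↥T).Coprime T.index ∧
      (∀ p : ℕ, p.Prime → (p ∣ Nat.card ↥T ↔ (p ∣ Nat.card S ∧ Relation.ReflTransGen (fun a b : ℕ => a.Prime ∧ b.Prime ∧ a ≠ b ∧ ∃ g : S, orderOf g = a * b) r p))) ∧
      ((IsCyclic ↥T ∧ Nat.card ↥T = n) ∨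
        (∃ (F : Type) (_ : Field F) (_ : Fintype F), Fintype.card F = 4 ∧ Nonempty (S ≃* Matrix.ProjectiveSpecialLinearGroup (Fin 3) F)) ∨
        (∃ (F : Type) (_ : Field F) (_ : Fintype F), Odd (Fintype.card F) ∧ ¬ (Fintype.card F).Prime ∧
          Nonempty (S ≃* Matrix.ProjectiveSpecialLinearGroup (Fin 2) F))) := by
  rw [rel_iff] at h2 ⊢
  rcases hrow r hr hrS h2 with ⟨T, h1, hc, hT⟩ | ⟨⟨T, h1, hcomm, hT⟩, he⟩
  · obtain ⟨n, h3, h4, h5, h6, h7, h8⟩ := of_CC hr h1 (fun a ha b hb => by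
      have := (IsCyclic.commGroup (α := ↥T)).mul_comm ⟨a, ha⟩ ⟨b, hb⟩
      exact congrArg Subtype.val this) hT
    exact ⟨n, T, h3, h4, h5, h6, h7, Or.inl ⟨hc, h8 hc⟩⟩
  · obtain ⟨n, h3, h4, h5, h6, h7, -⟩ := of_CC hr h1 hcomm hT
    exact ⟨n, T, h3, h4, h5, h6, h7, Or.inr he⟩

end Cfsg.Agent.H129.Isolated
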