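import Cfsg.Agent.H129.CycExc
import Cfsg.Agent.H129.Isolated
import Cfsg.Agent.H378.TwRowsF

/-!
# `HasCyc` for the twisted exceptional groups, the rows of the exceptional groups (helper129)
-/

set_option autoImplicit false
set_option linter.unusedSectionVars false

namespace Cfsg.Agent.H129.IsoTw

open Cfsg Cfsg.Lie Subgroup
open Cfsg.Agent.H94.PG Cfsg.Agent.H564.NearTwo Cfsg.Agent.H182.Cent Cfsg.Agent.H129 Cfsg.Agent.H129.CycT
open Cfsg.Agent.H129.Isolated Cfsg.Agent.H129.CycExc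
open Cfsg.Agent.H378 Cfsg.Agent.H378.ExcAdj Cfsg.Agent.H378.CycTab Cfsg.Agent.H378.ExcNear Cfsg.Agent.H378.RegFin Cfsg.Agent.H378.AdjTab

universe u

variable {F : Type u} [Field F] [Fintype F] {q : ℕ}

/-- `q^4 - q^2 + 1` as a natural number -/
theorem exists_N12 {q : ℕ} (hq2 : 1 ≤ q) : ∃ N : ℕ, (N : ℤ) = 1 - (q : ℤ) ^ 2 + (q : ℤ) ^ 4 := by
  refine exists_nat ?_
  have h1 : (1 : ℤ) ≤ q := by exact_mod_cast hq2
  have e : 1 - (q : ℤ) ^ 2 + (q : ℤ) ^ 4 = 1 + (q : ℤ) ^ 2 * ((q : ℤ) ^ 2 - 1) := by ring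
  rw [e]
  have h2 : 0 ≤ (q : ℤ) ^ 2 * ((q : ℤ) ^ 2 - 1) := mul_nonneg (by positivity) (by nlinarith)
  linarith

theorem dvd_N12 {q N r : ℕ} (hr : r.Prime) (hN : (N : ℤ) = 1 - (q : ℤ) ^ 2 + (q : ℤ) ^ 4) (h : od q r = 12) : r ∣ N := by
  have h1 := dvd12 hr h
  rw [pv12] at h1
  have h2 : (r : ℤ) ∣ (N : ℤ) := by
    rw [hN]
    have e : 1 - (q : ℤ) ^ 2 + (q : ℤ) ^ 4 = (q : ℤ) ^ 4 - (q : ℤ) ^ 2 + 1 := by ring
    rw [e]
    exact h1
  exact Int.natCast_dvd_natCast.1 h2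

theorem hasCyc_3D4 (hq : IsPrimePow q) (hK : Fintype.card F = q ^ 3) {r : ℕ} (hr : r.Prime)
    (hd : r ∣ Nat.card ↥(twistedD4 F q)) (hn : ¬ Near ↥(twistedD4 F q) r) : HasCyc ↥(twistedD4 F q) r := by
  refine CycAt.hasCyc hr ?_ (TwRows.good2_3D4 hq hK r hr hd hn)
  have h := (TwRows.near_3D4 hq hK hr hd).resolve_left hn
  obtain ⟨N, hN⟩ := exists_N12 hq.one_lt.le
  exact (exact_tD4_12 hq hK hN).cycAt hr (dvd_N12 hr hN h)

theorem hasCyc_2E6 (hq : IsPrimePow q) (hK : Fintype.card F = q ^ 2) {r : ℕ} (hr : r.Prime)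
    (hd : r ∣ Nat.card ↥(twistedE6 F q)) (hn : ¬ Near ↥(twistedE6 F q) r) : HasCyc ↥(twistedE6 F q) r := by
  refine CycAt.hasCyc hr ?_ (TwRows.good2_2E6 hq hK r hr hd hn)
  rcases (TwRows.near_2E6 hq hK hr hd).resolve_left hn with h | ⟨h, rfl | rfl⟩
  · have h1 := dvd18 hr h
    rw [pv18] at h1
    have hq2 := hq.two_le
    obtain ⟨N, hN⟩ := exists_nat (z := 1 - (q : ℤ) ^ 3 + (q : ℤ) ^ 6) (by
      have h1 : (1 : ℤ) ≤ (q : ℤ) ^ 3 := by exact_mod_cast Nat.one_le_pow _ _ (by omega)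
      have e : 1 - (q : ℤ) ^ 3 + (q : ℤ) ^ 6 = 1 + (q : ℤ) ^ 3 * ((q : ℤ) ^ 3 - 1) := by ring
      rw [e]
      have h2 : 0 ≤ (q : ℤ) ^ 3 * ((q : ℤ) ^ 3 - 1) := mul_nonneg (by linarith) (by linarith)
      linarith)
    refine at_tE6_18 hq hK hN hr ?_ (ne_of_od hr h (by norm_num) (by norm_num))
    have h2 : (r : ℤ) ∣ (N : ℤ) := by
      rw [hN]
      have e : 1 - (q : ℤ) ^ 3 + (q : ℤ) ^ 6 = (q : ℤ) ^ 6 - (q : ℤ) ^ 3 + 1 := by ring
      rw [e]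
      exact h1
    exact Int.natCast_dvd_natCast.1 h2
  · subst h
    exact at_tE6_12 hq hK (N := 13) (by norm_num) hr dvd_rfl (by norm_num)
  · subst h
    exact at_tE6_8 hq hK (N := 17) (by norm_num) hr dvd_rfl (by norm_num)

theorem _root_.Cfsg.Agent.H129.CycT.CycExact.hasCyc {G : Type*} [Group G] {m r : ℕ} (h : CycExact G m) (hr : r ∣ m) :
    HasCyc G r := by
  obtain ⟨T, h1, h2, h3⟩ := h
  exact ⟨T, h2 ▸ hr, h1, fun y hy hy1 => (h3 y hy hy1).le⟩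

theorem hasCyc_2F4 {m : ℕ} (hm : 1 ≤ m) (hK : Fintype.card F = 2 ^ (2 * m + 1)) {r : ℕ} (hr : r.Prime)
    (hd : r ∣ Nat.card ↥(twistedF4 F (2 ^ m))) (hn : ¬ Near ↥(twistedF4 F (2 ^ m)) r) :
    HasCyc ↥(twistedF4 F (2 ^ m)) r := by
  have h := (TwRowsF.near_2F4 hm hK hr hd).resolve_left hn
  have hle : twistedF4 F (2 ^ m) ≤ chevF4.group F := TwRowsF.genSubgroup_le_group Cfsg.Agent.BpExc.RowsUntw.f4T.inList _
  obtain ⟨N, hN⟩ := exists_N12 (q := Nat.card F) Finite.card_pos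
  exact hasCyc_of_injective (Subgroup.inclusion hle) (Subgroup.inclusion_injective _) hr hd
    ((exact_F4_12 Nat.card_eq_fintype_card.symm hN).hasCyc (dvd_N12 hr hN h))

/-! ### the rows -/

theorem row_isoChevG2 {G : Type*} [Group G] (h : IsoChevG2 G) : Row G := by
  obtain ⟨F, _, _, -, ⟨e⟩⟩ := h
  exact Row.congr e.symm (Row.of_near fun r hr hd hn => hasCyc_G2 F hr hd hn)

theorem row_isoF4 {G : Type*} [Group G] (h : IsoF4 G) : Row G := by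
  obtain ⟨F, _, _, ⟨e⟩⟩ := h
  exact Row.congr e.symm (Row.of_near fun r hr hd hn => hasCyc_F4 F hr hd hn)

theorem row_isoChevE6 {G : Type*} [Group G] (h : IsoChevE6 G) : Row G := by
  obtain ⟨F, _, _, ⟨e⟩⟩ := h
  exact Row.congr e.symm (Row.of_near fun r hr hd hn => hasCyc_E6 F hr hd hn)

theorem row_isoE7 {G : Type*} [Group G] (h : IsoE7 G) : Row G := by
  obtain ⟨F, _, _, ⟨e⟩⟩ := h
  exact Row.congr e.symm (Row.of_near fun r hr hd hn => hasCyc_E7 F hr hd hn)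

theorem row_isoE8 {G : Type*} [Group G] (h : IsoE8 G) : Row G := by
  obtain ⟨F, _, _, ⟨e⟩⟩ := h
  exact Row.congr e.symm (Row.of_near fun r hr hd hn => hasCyc_E8 F hr hd hn)

theorem row_iso3D4 {G : Type*} [Group G] (h : Iso3D4 G) : Row G := by
  obtain ⟨K, _, _, q, hq, hK, ⟨e⟩⟩ := h
  exact Row.congr e.symm (Row.of_near fun r hr hd hn => hasCyc_3D4 hq hK hr hd hn)

theorem row_iso2E6 {G : Type*} [Group G] (h : Iso2E6 G) : Row G := by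
  obtain ⟨K, _, _, q, hq, hK, ⟨e⟩⟩ := h
  exact Row.congr e.symm (Row.of_near fun r hr hd hn => hasCyc_2E6 hq hK hr hd hn)

theorem row_iso2F4 {G : Type*} [Group G] (h : Iso2F4 G) : Row G := by
  obtain ⟨K, _, _, m, hm, hK, ⟨e⟩⟩ := h
  exact Row.congr e.symm (Row.of_near fun r hr hd hn => hasCyc_2F4 hm hK hr hd hn)

end Cfsg.Agent.H129.IsoTw
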