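import Cfsg.Agent.H129.WData

/-!
# Data of the torus of order `Φ₁₅(q)` of `E₈(q)` (helper129)
-/

set_option autoImplicit false

namespace Cfsg.Agent.H129.DataE8a

open Cfsg.Agent.H129.TorusTw Cfsg.Agent.H129.WData Cfsg.Agent.ChevalleyStructure.CoxeterGeomTypes
open Cfsg.Lie Cfsg.Lie.ChevalleyDatum

/-- the Cartan matrix -/
def Am : Mat 8 := ![![2, 0, -1, 0, 0, 0, 0, 0],
    ![0, 2, 0, -1, 0, 0, 0, 0],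
    ![-1, 0, 2, -1, 0, 0, 0, 0],
    ![0, -1, -1, 2, -1, 0, 0, 0],
    ![0, 0, 0, -1, 2, -1, 0, 0],
    ![0, 0, 0, 0, -1, 2, -1, 0],
    ![0, 0, 0, 0, 0, -1, 2, -1],
    ![0, 0, 0, 0, 0, 0, -1, 2]]

/-- the partial products -/
def chain : List (Fin 8 × Mat 8) := [
    (0, ![![0, 1, 0, 1, 0, 0, 0, 0],
      ![0, 1, 1, 1, 1, 0, 0, 0],
      ![1, 0, 1, 1, 1, 0, 0, 0],
      ![0, 0, 0, 0, 0, 1, 0, 0],
      ![0, 0, 0, 0, 0, 0, 1, 0],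
      ![0, 0, 0, 0, 0, 0, 0, 1],
      ![-1, -1, -1, -1, -1, -1, -1, -1],
      ![0, 0, -1, -1, 0, 0, 0, 0]]),
    (1, ![![0, 1, 0, 1, 0, 0, 0, 0],
      ![1, 1, 1, 1, 1, 0, 0, 0],
      ![0, 0, 1, 1, 1, 0, 0, 0],
      ![0, 0, 0, 0, 0, 1, 0, 0],
      ![0, 0, 0, 0, 0, 0, 1, 0],
      ![0, 0, 0, 0, 0, 0, 0, 1],
      ![0, -1, -1, -1, -1, -1, -1, -1],
      ![-1, 0, -1, -1, 0, 0, 0, 0]]),
    (2, ![![0, 0, 0, 1, 0, 0, 0, 0],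
      ![1, 0, 1, 1, 1, 0, 0, 0],
      ![0, 1, 1, 1, 1, 0, 0, 0],
      ![0, 0, 0, 0, 0, 1, 0, 0],
      ![0, 0, 0, 0, 0, 0, 1, 0],
      ![0, 0, 0, 0, 0, 0, 0, 1],
      ![0, 0, -1, -1, -1, -1, -1, -1],
      ![-1, -1, -1, -1, 0, 0, 0, 0]]),
    (3, ![![0, 0, 1, 1, 0, 0, 0, 0],
      ![1, 0, 1, 1, 1, 0, 0, 0],
      ![0, 1, 0, 1, 1, 0, 0, 0],
      ![0, 0, 0, 0, 0, 1, 0, 0],
      ![0, 0, 0, 0, 0, 0, 1, 0],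
      ![0, 0, 0, 0, 0, 0, 0, 1],
      ![0, 0, 0, -1, -1, -1, -1, -1],
      ![-1, -1, -1, -1, 0, 0, 0, 0]]),
    (4, ![![0, 0, 1, 0, 0, 0, 0, 0],
      ![1, 0, 1, 1, 1, 0, 0, 0],
      ![0, 1, 0, 1, 1, 0, 0, 0],
      ![0, 0, 0, 0, 0, 1, 0, 0],
      ![0, 0, 0, 0, 0, 0, 1, 0],
      ![0, 0, 0, 0, 0, 0, 0, 1],
      ![0, 0, 0, 0, -1, -1, -1, -1],
      ![-1, -1, -1, -1, 0, 0, 0, 0]]),
    (5, ![![0, 0, 1, 0, 0, 0, 0, 0],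
      ![1, 0, 1, 1, 0, 0, 0, 0],
      ![0, 1, 0, 1, 0, 0, 0, 0],
      ![0, 0, 0, 0, 1, 1, 0, 0],
      ![0, 0, 0, 0, 0, 0, 1, 0],
      ![0, 0, 0, 0, 0, 0, 0, 1],
      ![0, 0, 0, 0, 0, -1, -1, -1],
      ![-1, -1, -1, -1, -1, 0, 0, 0]]),
    (6, ![![0, 0, 1, 0, 0, 0, 0, 0],
      ![1, 0, 1, 1, 0, 0, 0, 0],
      ![0, 1, 0, 1, 0, 0, 0, 0],
      ![0, 0, 0, 0, 1, 0, 0, 0],
      ![0, 0, 0, 0, 0, 1, 1, 0],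
      ![0, 0, 0, 0, 0, 0, 0, 1],
      ![0, 0, 0, 0, 0, 0, -1, -1],
      ![-1, -1, -1, -1, -1, -1, 0, 0]]),
    (7, ![![0, 0, 1, 0, 0, 0, 0, 0],
      ![1, 0, 1, 1, 0, 0, 0, 0],
      ![0, 1, 0, 1, 0, 0, 0, 0],
      ![0, 0, 0, 0, 1, 0, 0, 0],
      ![0, 0, 0, 0, 0, 1, 0, 0],
      ![0, 0, 0, 0, 0, 0, 1, 1],
      ![0, 0, 0, 0, 0, 0, 0, -1],
      ![-1, -1, -1, -1, -1, -1, -1, 0]]),
    (0, ![![0, 0, 1, 0, 0, 0, 0, 0],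
      ![1, 0, 1, 1, 0, 0, 0, 0],
      ![0, 1, 0, 1, 0, 0, 0, 0],
      ![0, 0, 0, 0, 1, 0, 0, 0],
      ![0, 0, 0, 0, 0, 1, 0, 0],
      ![0, 0, 0, 0, 0, 0, 1, 0],
      ![0, 0, 0, 0, 0, 0, 0, 1],
      ![-1, -1, -1, -1, -1, -1, -1, -1]]),
    (1, ![![1, 0, 1, 0, 0, 0, 0, 0],
      ![0, 0, 1, 1, 0, 0, 0, 0],
      ![0, 1, 0, 1, 0, 0, 0, 0],
      ![0, 0, 0, 0, 1, 0, 0, 0],
      ![0, 0, 0, 0, 0, 1, 0, 0],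
      ![0, 0, 0, 0, 0, 0, 1, 0],
      ![0, 0, 0, 0, 0, 0, 0, 1],
      ![0, -1, -1, -1, -1, -1, -1, -1]]),
    (2, ![![1, 0, 1, 0, 0, 0, 0, 0],
      ![0, 1, 1, 1, 0, 0, 0, 0],
      ![0, 0, 0, 1, 0, 0, 0, 0],
      ![0, 0, 0, 0, 1, 0, 0, 0],
      ![0, 0, 0, 0, 0, 1, 0, 0],
      ![0, 0, 0, 0, 0, 0, 1, 0],
      ![0, 0, 0, 0, 0, 0, 0, 1],
      ![0, 0, -1, -1, -1, -1, -1, -1]]),
    (3, ![![1, 0, 0, 0, 0, 0, 0, 0],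
      ![0, 1, 0, 1, 0, 0, 0, 0],
      ![0, 0, 1, 1, 0, 0, 0, 0],
      ![0, 0, 0, 0, 1, 0, 0, 0],
      ![0, 0, 0, 0, 0, 1, 0, 0],
      ![0, 0, 0, 0, 0, 0, 1, 0],
      ![0, 0, 0, 0, 0, 0, 0, 1],
      ![0, 0, 0, -1, -1, -1, -1, -1]]),
    (4, ![![1, 0, 0, 0, 0, 0, 0, 0],
      ![0, 1, 0, 0, 0, 0, 0, 0],
      ![0, 0, 1, 0, 0, 0, 0, 0],
      ![0, 0, 0, 1, 1, 0, 0, 0],
      ![0, 0, 0, 0, 0, 1, 0, 0],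
      ![0, 0, 0, 0, 0, 0, 1, 0],
      ![0, 0, 0, 0, 0, 0, 0, 1],
      ![0, 0, 0, 0, -1, -1, -1, -1]]),
    (5, ![![1, 0, 0, 0, 0, 0, 0, 0],
      ![0, 1, 0, 0, 0, 0, 0, 0],
      ![0, 0, 1, 0, 0, 0, 0, 0],
      ![0, 0, 0, 1, 0, 0, 0, 0],
      ![0, 0, 0, 0, 1, 1, 0, 0],
      ![0, 0, 0, 0, 0, 0, 1, 0],
      ![0, 0, 0, 0, 0, 0, 0, 1],
      ![0, 0, 0, 0, 0, -1, -1, -1]]),
    (6, ![![1, 0, 0, 0, 0, 0, 0, 0],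
      ![0, 1, 0, 0, 0, 0, 0, 0],
      ![0, 0, 1, 0, 0, 0, 0, 0],
      ![0, 0, 0, 1, 0, 0, 0, 0],
      ![0, 0, 0, 0, 1, 0, 0, 0],
      ![0, 0, 0, 0, 0, 1, 1, 0],
      ![0, 0, 0, 0, 0, 0, 0, 1],
      ![0, 0, 0, 0, 0, 0, -1, -1]]),
    (7, ![![1, 0, 0, 0, 0, 0, 0, 0],
      ![0, 1, 0, 0, 0, 0, 0, 0],
      ![0, 0, 1, 0, 0, 0, 0, 0],
      ![0, 0, 0, 1, 0, 0, 0, 0],
      ![0, 0, 0, 0, 1, 0, 0, 0],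
      ![0, 0, 0, 0, 0, 1, 0, 0],
      ![0, 0, 0, 0, 0, 0, 1, 1],
      ![0, 0, 0, 0, 0, 0, 0, -1]])]

/-- the matrix of `θ` -/
def Th : Mat 8 := ![![0, 1, 0, 1, 0, 0, 0, 0],
    ![0, 1, 1, 1, 1, 0, 0, 0],
    ![1, 0, 1, 1, 1, 0, 0, 0],
    ![0, 0, 0, 0, 0, 1, 0, 0],
    ![0, 0, 0, 0, 0, 0, 1, 0],
    ![0, 0, 0, 0, 0, 0, 0, 1],
    ![-1, -1, -1, -1, -1, -1, -1, -1],
    ![0, 0, -1, -1, 0, 0, 0, 0]]

/-- the basis -/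
def V : Mat 8 := ![![-1, -1, -1, -1, -1, -1, -1, 0],
    ![0, -1, -1, -2, -1, 0, 0, 0],
    ![-1, -1, -2, -2, -2, -2, -1, 0],
    ![-1, -1, -2, -3, -2, -1, -1, -1],
    ![-1, -1, -1, -2, -2, -2, -1, 0],
    ![0, -1, -1, -2, -1, -1, -1, -1],
    ![0, 0, 0, 0, -1, -1, 0, 0],
    ![0, 0, 0, 0, 0, 0, -1, -1]]

/-- the coordinates -/
def B : Mat 8 := ![![-1, 1, 1, -1, 0, 0, 0, 1],
    ![-2, 0, 1, 0, 1, -1, -1, 1],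
    ![0, 0, -1, 0, 1, 0, 0, 0],
    ![1, 0, 0, 0, -1, 0, 1, 0],
    ![0, -1, 0, 0, 0, 1, -1, -1],
    ![0, 1, 0, 0, 0, -1, 0, 1],
    ![1, -1, -1, 1, -1, 1, 1, -2],
    ![-1, 1, 1, -1, 1, -1, -1, 1]]

/-- the polynomial -/
def c : Fin 8 → ℤ := ![1, -1, 0, 1, -1, 1, 0, -1]

/-- the representatives of the orbits of `θ` on the roots -/
def R : Fin 16 → Fin 8 → ℤ := ![![0, 0, 0, 1, 1, 1, 1, 1],
    ![0, 0, 0, -1, -1, -1, -1, -1],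
    ![1, 2, 2, 3, 2, 1, 1, 0],
    ![-2, -2, -4, -5, -4, -3, -2, -1],
    ![2, 2, 3, 4, 3, 2, 2, 1],
    ![0, 0, 0, 1, 1, 1, 0, 0],
    ![-2, -2, -3, -4, -3, -2, -2, -1],
    ![0, 0, 0, -1, -1, -1, 0, 0],
    ![-1, -2, -2, -3, -3, -2, -2, -1],
    ![1, 1, 1, 1, 1, 1, 1, 0],
    ![-1, -1, -2, -3, -2, -2, -1, -1],
    ![-1, -1, -2, -3, -2, -1, -1, -1],
    ![0, 0, 1, 1, 1, 1, 0, 0],
    ![0, 0, -1, -1, -1, -1, 0, 0],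
    ![0, 0, 0, 1, 0, 0, 0, 0],
    ![0, 0, 0, -1, 0, 0, 0, 0]]

/-- the values of the functional on the representatives -/
def G : Fin 16 → Fin 8 → ℤ := ![![1, 0, 0, 0, -1, 0, 0, -1],
    ![-1, 0, 0, 0, 1, 0, 0, 1],
    ![-1, -1, 0, 0, 0, 0, 0, 0],
    ![0, 0, 1, 1, 0, 0, 0, 0],
    ![-1, 0, 0, -1, 0, 0, 0, 0],
    ![1, 0, 0, 0, -1, 0, 0, 0],
    ![1, 0, 0, 1, 0, 0, 0, 0],
    ![-1, 0, 0, 0, 1, 0, 0, 0],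
    ![1, 1, 0, 0, 0, 0, 1, 1],
    ![-1, 0, 0, 0, 0, 0, 0, 0],
    ![0, -1, 0, 1, 0, 1, 0, -1],
    ![0, 0, 0, 1, 0, 0, 0, 0],
    ![1, 0, -1, 0, 0, 0, 0, 0],
    ![-1, 0, 1, 0, 0, 0, 0, 0],
    ![1, 0, 0, 0, -1, 0, 1, 0],
    ![-1, 0, 0, 0, 1, 0, -1, 0]]

/-- predecessor -/
def prv (r : ℕ) : ℕ := Nat.mod (Nat.shiftRight 0xedecebeae2cce3dbe8dcc200b9b8e9eee1d6d2cfcdefe7e6e5e4d7d3d0ceb2afaeab00a9e0dfdeddc8c5c3bfbdba9c999895949375726e69c9c6c4c0bebba6a5a4a376006f6a4e8a8988875d385edad9d8d5d4d1b5b3b0ac908f8e8d63b6b4b1ada2649f9d0096774700ca00c100a09e9b978483827f7e7b7471706d6c6b5854514f002e002500a878590052508b4d423e3b398c6261605f433f3c3a1e1b1a17161591b79268676665a185807c794c4b4a4934312f2b292686817d7a5c5b5a5756533532002c00271211100f46454441403d211f00180b0a09080022201d190e01063736002d1307000c230d05040302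 (8 * r)) 256

/-- depth -/
def dep (r : ℕ) : ℕ := Nat.mod (Nat.shiftRight 0x50c040b030a0702030904000602080d09020c080106040a05010607060b0705070a00090e0a030d0e08070306030906020c050e05020501040904070d06050404060a00090e08010e040303050907050b070808050e0501070c0b040d0a08060b0a030c09000d0302000b000a0006080608010b01070902020904010e0108030804000d000d0002030d00020c0a0a0b0608020d0b0b0c070d050e020b01070b030709050b03040e01080c090c0a060c0405090d07010104010702080e0c0c0e060c030d000e000e0d030c0e090d0a070d0a0b0e000601050a02060e080c020b0d0a02080004090100090a030b040c05 (8 * r)) 256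

theorem hA : ∀ i j, Am i j = cartanOf chevE8 8 i j := by decide +kernel

theorem chainOK : ChainOK Am chain := by decide +kernel

theorem hd_eq : hd chain = Th := rfl

theorem cycOK : CycOK 8 Th V B c := by decide +kernel

theorem rootOK : RootOK chevE8 8 Th R prv dep := by decide +kernel

theorem coefOK : ∀ s i, ∑ j, R s j * B j i = G s i := by decide +kernel

theorem fN_eq (x : ℤ) : fN c x = 1 - x + x ^ 3 - x ^ 4 + x ^ 5 - x ^ 7 + x ^ 8 := by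
  unfold fN c
  simp [Fin.sum_univ_succ]
  ring

theorem G_0 (x : ℤ) : Gq B x (R 0) = 1 - x ^ 4 - x ^ 7 := by
  rw [Gq_coef B x (R 0) (G 0) (coefOK 0)]
  unfold G
  simp [Fin.sum_univ_succ]
  try ring

theorem bez_0 (x : ℤ) : (x + x ^ 4) * (1 - x + x ^ 3 - x ^ 4 + x ^ 5 - x ^ 7 + x ^ 8) + (1 - x + x ^ 2 - x ^ 4 + x ^ 5) * (1 - x ^ 4 - x ^ 7) = 1 := by
  ring

theorem G_1 (x : ℤ) : Gq B x (R 1) = -1 + x ^ 4 + x ^ 7 := by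
  rw [Gq_coef B x (R 1) (G 1) (coefOK 1)]
  unfold G
  simp [Fin.sum_univ_succ]
  try ring

theorem bez_1 (x : ℤ) : (x + x ^ 4) * (1 - x + x ^ 3 - x ^ 4 + x ^ 5 - x ^ 7 + x ^ 8) + (-1 + x - x ^ 2 + x ^ 4 - x ^ 5) * (-1 + x ^ 4 + x ^ 7) = 1 := by
  ring

theorem G_2 (x : ℤ) : Gq B x (R 2) = -1 - x := by
  rw [Gq_coef B x (R 2) (G 2) (coefOK 2)]
  unfold G
  simp [Fin.sum_univ_succ]
  try ring

theorem bez_2 (x : ℤ) : (1) * (1 - x + x ^ 3 - x ^ 4 + x ^ 5 - x ^ 7 + x ^ 8) + (-x + x ^ 2 - x ^ 4 + 2 * x ^ 5 - 2 * x ^ 6 + x ^ 7) * (-1 - x) = 1 := by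
  ring

theorem G_3 (x : ℤ) : Gq B x (R 3) = x ^ 2 + x ^ 3 := by
  rw [Gq_coef B x (R 3) (G 3) (coefOK 3)]
  unfold G
  simp [Fin.sum_univ_succ]
  try ring

theorem bez_3 (x : ℤ) : (1 + x + x ^ 2) * (1 - x + x ^ 3 - x ^ 4 + x ^ 5 - x ^ 7 + x ^ 8) + (-x ^ 3 + x ^ 4 - x ^ 5 + x ^ 6 - x ^ 7) * (x ^ 2 + x ^ 3) = 1 := by
  ring

theorem G_4 (x : ℤ) : Gq B x (R 4) = -1 - x ^ 3 := by
  rw [Gq_coef B x (R 4) (G 4) (coefOK 4)]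
  unfold G
  simp [Fin.sum_univ_succ]
  try ring

theorem bez_4 (x : ℤ) : (x ^ 2) * (1 - x + x ^ 3 - x ^ 4 + x ^ 5 - x ^ 7 + x ^ 8) + (-1 + x ^ 2 - x ^ 6 + x ^ 7) * (-1 - x ^ 3) = 1 := by
  ring

theorem G_5 (x : ℤ) : Gq B x (R 5) = 1 - x ^ 4 := by
  rw [Gq_coef B x (R 5) (G 5) (coefOK 5)]
  unfold G
  simp [Fin.sum_univ_succ]
  try ring

theorem bez_5 (x : ℤ) : (1) * (1 - x + x ^ 3 - x ^ 4 + x ^ 5 - x ^ 7 + x ^ 8) + (x - x ^ 3 + x ^ 4) * (1 - x ^ 4) = 1 := by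
  ring

theorem G_6 (x : ℤ) : Gq B x (R 6) = 1 + x ^ 3 := by
  rw [Gq_coef B x (R 6) (G 6) (coefOK 6)]
  unfold G
  simp [Fin.sum_univ_succ]
  try ring

theorem bez_6 (x : ℤ) : (x ^ 2) * (1 - x + x ^ 3 - x ^ 4 + x ^ 5 - x ^ 7 + x ^ 8) + (1 - x ^ 2 + x ^ 6 - x ^ 7) * (1 + x ^ 3) = 1 := by
  ring

theorem G_7 (x : ℤ) : Gq B x (R 7) = -1 + x ^ 4 := by
  rw [Gq_coef B x (R 7) (G 7) (coefOK 7)]
  unfold G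
  simp [Fin.sum_univ_succ]
  try ring

theorem bez_7 (x : ℤ) : (1) * (1 - x + x ^ 3 - x ^ 4 + x ^ 5 - x ^ 7 + x ^ 8) + (-x + x ^ 3 - x ^ 4) * (-1 + x ^ 4) = 1 := by
  ring

theorem G_8 (x : ℤ) : Gq B x (R 8) = 1 + x + x ^ 6 + x ^ 7 := by
  rw [Gq_coef B x (R 8) (G 8) (coefOK 8)]
  unfold G
  simp [Fin.sum_univ_succ]
  try ring

theorem bez_8 (x : ℤ) : (1 + x + x ^ 2 + x ^ 3 + x ^ 4) * (1 - x + x ^ 3 - x ^ 4 + x ^ 5 - x ^ 7 + x ^ 8) + (-x ^ 3 + x ^ 4 - x ^ 5) * (1 + x + x ^ 6 + x ^ 7) = 1 := by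
  ring

theorem G_9 (x : ℤ) : Gq B x (R 9) = -1 := by
  rw [Gq_coef B x (R 9) (G 9) (coefOK 9)]
  unfold G
  simp [Fin.sum_univ_succ]
  try ring

theorem bez_9 (x : ℤ) : (0) * (1 - x + x ^ 3 - x ^ 4 + x ^ 5 - x ^ 7 + x ^ 8) + (-1) * (-1) = 1 := by
  ring

theorem G_10 (x : ℤ) : Gq B x (R 10) = -x + x ^ 3 + x ^ 5 - x ^ 7 := by
  rw [Gq_coef B x (R 10) (G 10) (coefOK 10)]
  unfold G
  simp [Fin.sum_univ_succ]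
  try ring

theorem bez_10 (x : ℤ) : (1 + x ^ 2 - x ^ 6) * (1 - x + x ^ 3 - x ^ 4 + x ^ 5 - x ^ 7 + x ^ 8) + (-1 + x - x ^ 2 - x ^ 5 + x ^ 6 - x ^ 7) * (-x + x ^ 3 + x ^ 5 - x ^ 7) = 1 := by
  ring

theorem G_11 (x : ℤ) : Gq B x (R 11) = x ^ 3 := by
  rw [Gq_coef B x (R 11) (G 11) (coefOK 11)]
  unfold G
  simp [Fin.sum_univ_succ]
  try ring

theorem bez_11 (x : ℤ) : (1 + x + x ^ 2) * (1 - x + x ^ 3 - x ^ 4 + x ^ 5 - x ^ 7 + x ^ 8) + (-x ^ 2 - x ^ 7) * (x ^ 3) = 1 := by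
  ring

theorem G_12 (x : ℤ) : Gq B x (R 12) = 1 - x ^ 2 := by
  rw [Gq_coef B x (R 12) (G 12) (coefOK 12)]
  unfold G
  simp [Fin.sum_univ_succ]
  try ring

theorem bez_12 (x : ℤ) : (1) * (1 - x + x ^ 3 - x ^ 4 + x ^ 5 - x ^ 7 + x ^ 8) + (x + x ^ 4 - x ^ 5 + x ^ 6) * (1 - x ^ 2) = 1 := by
  ring

theorem G_13 (x : ℤ) : Gq B x (R 13) = -1 + x ^ 2 := by
  rw [Gq_coef B x (R 13) (G 13) (coefOK 13)]
  unfold G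
  simp [Fin.sum_univ_succ]
  try ring

theorem bez_13 (x : ℤ) : (1) * (1 - x + x ^ 3 - x ^ 4 + x ^ 5 - x ^ 7 + x ^ 8) + (-x - x ^ 4 + x ^ 5 - x ^ 6) * (-1 + x ^ 2) = 1 := by
  ring

theorem G_14 (x : ℤ) : Gq B x (R 14) = 1 - x ^ 4 + x ^ 6 := by
  rw [Gq_coef B x (R 14) (G 14) (coefOK 14)]
  unfold G
  simp [Fin.sum_univ_succ]
  try ring

theorem bez_14 (x : ℤ) : (-x ^ 2 - x ^ 3) * (1 - x + x ^ 3 - x ^ 4 + x ^ 5 - x ^ 7 + x ^ 8) + (1 + x ^ 2 + x ^ 5) * (1 - x ^ 4 + x ^ 6) = 1 := by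
  ring

theorem G_15 (x : ℤ) : Gq B x (R 15) = -1 + x ^ 4 - x ^ 6 := by
  rw [Gq_coef B x (R 15) (G 15) (coefOK 15)]
  unfold G
  simp [Fin.sum_univ_succ]
  try ring

theorem bez_15 (x : ℤ) : (-x ^ 2 - x ^ 3) * (1 - x + x ^ 3 - x ^ 4 + x ^ 5 - x ^ 7 + x ^ 8) + (-1 - x ^ 2 - x ^ 5) * (-1 + x ^ 4 - x ^ 6) = 1 := by
  ring

/-- Common divisors of `f(x)` and the value of `Gq` on a representative. -/
theorem dvd_of_G {x r : ℤ} (h : r ∣ 1 - x + x ^ 3 - x ^ 4 + x ^ 5 - x ^ 7 + x ^ 8) (s : Fin 16) (hs : r ∣ Gq B x (R s)) :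
    r ∣ 1 := by
  have key : ∀ {a b g y : ℤ}, a * (1 - x + x ^ 3 - x ^ 4 + x ^ 5 - x ^ 7 + x ^ 8) + b * g = y → r ∣ g → r ∣ y := fun e hg => by
    rw [← e]
    exact dvd_add (h.mul_left _) (hg.mul_left _)
  fin_cases s
  · exact key (bez_0 x) (by rw [← G_0]; exact hs)
  · exact key (bez_1 x) (by rw [← G_1]; exact hs)
  · exact key (bez_2 x) (by rw [← G_2]; exact hs)
  · exact key (bez_3 x) (by rw [← G_3]; exact hs)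
  · exact key (bez_4 x) (by rw [← G_4]; exact hs)
  · exact key (bez_5 x) (by rw [← G_5]; exact hs)
  · exact key (bez_6 x) (by rw [← G_6]; exact hs)
  · exact key (bez_7 x) (by rw [← G_7]; exact hs)
  · exact key (bez_8 x) (by rw [← G_8]; exact hs)
  · exact key (bez_9 x) (by rw [← G_9]; exact hs)
  · exact key (bez_10 x) (by rw [← G_10]; exact hs)
  · exact key (bez_11 x) (by rw [← G_11]; exact hs)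
  · exact key (bez_12 x) (by rw [← G_12]; exact hs)
  · exact key (bez_13 x) (by rw [← G_13]; exact hs)
  · exact key (bez_14 x) (by rw [← G_14]; exact hs)
  · exact key (bez_15 x) (by rw [← G_15]; exact hs)

end Cfsg.Agent.H129.DataE8a
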