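import Cfsg.Agent.H129.WData

/-!
# Data of the torus of order `Φ₂₀(q)` of `E₈(q)` (helper129)
-/

set_option autoImplicit false

namespace Cfsg.Agent.H129.DataE8b

open Cfsg.Agent.H129.TorusTw Cfsg.Agent.H129.WData Cfsg.Agent.ChevalleyStructure.CoxeterGeomTypes
open Cfsg.Lie Cfsg.Lie.ChevalleyDatum

/-- the Cartan matrix -/
def Am : Mat 8 := ![![2, 0, -1, 0, 0, 0, 0, 0],
    ![0, 2, 0, -1, 0, 0, 0, 0],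
    ![-1, 0, 2, -1, 0, 0, 0, 0],
    ![0, -1, -1, 2, -1, 0, 0, 0],
    ![0, 0, 0, -1, 2, -1, 0, 0],
    ![0, 0, 0, 0, -1, 2, -1, 0],
    ![0, 0, 0, 0, 0, -1, 2, -1],
    ![0, 0, 0, 0, 0, 0, -1, 2]]

/-- the partial products -/
def chain : List (Fin 8 × Mat 8) := [
    (3, ![![0, 1, 0, 1, 1, 1, 1, 0],
      ![1, 0, 1, 1, 1, 1, 1, 0],
      ![0, -1, -1, -2, -1, -1, -1, 0],
      ![0, 1, 1, 2, 1, 0, 0, 0],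
      ![0, 0, 0, -1, -1, 0, 0, 0],
      ![-1, -1, -1, -1, 0, 0, 0, 0],
      ![1, 1, 1, 2, 1, 1, 1, 1],
      ![0, 0, 0, 0, 0, 0, -1, -1]]),
    (6, ![![0, 1, 0, 1, 1, 1, 1, 0],
      ![1, 0, 1, 1, 1, 1, 1, 0],
      ![0, -1, -1, -1, -1, -1, -1, 0],
      ![0, 1, 1, 1, 1, 0, 0, 0],
      ![0, 0, 0, 0, -1, 0, 0, 0],
      ![-1, -1, -1, -1, 0, 0, 0, 0],
      ![1, 1, 1, 1, 1, 1, 1, 1],
      ![0, 0, 0, 0, 0, 0, -1, -1]]),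
    (5, ![![0, 1, 0, 1, 1, 1, 0, 0],
      ![1, 0, 1, 1, 1, 1, 0, 0],
      ![0, -1, -1, -1, -1, -1, 0, 0],
      ![0, 1, 1, 1, 1, 0, 0, 0],
      ![0, 0, 0, 0, -1, 0, 0, 0],
      ![-1, -1, -1, -1, 0, 0, 0, 0],
      ![1, 1, 1, 1, 1, 1, 1, 1],
      ![0, 0, 0, 0, 0, 0, 0, -1]]),
    (0, ![![0, 1, 0, 1, 1, 0, 0, 0],
      ![1, 0, 1, 1, 1, 0, 0, 0],
      ![0, -1, -1, -1, -1, 0, 0, 0],
      ![0, 1, 1, 1, 1, 1, 0, 0],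
      ![0, 0, 0, 0, -1, -1, 0, 0],
      ![-1, -1, -1, -1, 0, 0, 0, 0],
      ![1, 1, 1, 1, 1, 1, 1, 1],
      ![0, 0, 0, 0, 0, 0, 0, -1]]),
    (7, ![![0, 1, 0, 1, 1, 0, 0, 0],
      ![0, 0, 1, 1, 1, 0, 0, 0],
      ![-1, -1, -1, -1, -1, 0, 0, 0],
      ![1, 1, 1, 1, 1, 1, 0, 0],
      ![0, 0, 0, 0, -1, -1, 0, 0],
      ![0, -1, -1, -1, 0, 0, 0, 0],
      ![0, 1, 1, 1, 1, 1, 1, 1],
      ![0, 0, 0, 0, 0, 0, 0, -1]]),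
    (1, ![![0, 1, 0, 1, 1, 0, 0, 0],
      ![0, 0, 1, 1, 1, 0, 0, 0],
      ![-1, -1, -1, -1, -1, 0, 0, 0],
      ![1, 1, 1, 1, 1, 1, 0, 0],
      ![0, 0, 0, 0, -1, -1, 0, 0],
      ![0, -1, -1, -1, 0, 0, 0, 0],
      ![0, 1, 1, 1, 1, 1, 1, 0],
      ![0, 0, 0, 0, 0, 0, 0, 1]]),
    (2, ![![0, 0, 0, 1, 1, 0, 0, 0],
      ![0, 1, 1, 1, 1, 0, 0, 0],
      ![-1, 0, -1, -1, -1, 0, 0, 0],
      ![1, 0, 1, 1, 1, 1, 0, 0],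
      ![0, 0, 0, 0, -1, -1, 0, 0],
      ![0, 0, -1, -1, 0, 0, 0, 0],
      ![0, 0, 1, 1, 1, 1, 1, 0],
      ![0, 0, 0, 0, 0, 0, 0, 1]]),
    (4, ![![0, 0, 1, 1, 1, 0, 0, 0],
      ![0, 1, 0, 1, 1, 0, 0, 0],
      ![-1, 0, -1, -1, -1, 0, 0, 0],
      ![1, 0, 1, 1, 1, 1, 0, 0],
      ![0, 0, 0, 0, -1, -1, 0, 0],
      ![0, 0, 0, -1, 0, 0, 0, 0],
      ![0, 0, 0, 1, 1, 1, 1, 0],
      ![0, 0, 0, 0, 0, 0, 0, 1]]),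
    (0, ![![0, 0, 1, 1, 0, 0, 0, 0],
      ![0, 1, 0, 1, 0, 0, 0, 0],
      ![-1, 0, -1, -1, 0, 0, 0, 0],
      ![1, 0, 1, 1, 1, 1, 0, 0],
      ![0, 0, 0, 0, 0, -1, 0, 0],
      ![0, 0, 0, -1, -1, 0, 0, 0],
      ![0, 0, 0, 1, 1, 1, 1, 0],
      ![0, 0, 0, 0, 0, 0, 0, 1]]),
    (3, ![![1, 0, 1, 1, 0, 0, 0, 0],
      ![0, 1, 0, 1, 0, 0, 0, 0],
      ![0, 0, -1, -1, 0, 0, 0, 0],
      ![0, 0, 1, 1, 1, 1, 0, 0],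
      ![0, 0, 0, 0, 0, -1, 0, 0],
      ![0, 0, 0, -1, -1, 0, 0, 0],
      ![0, 0, 0, 1, 1, 1, 1, 0],
      ![0, 0, 0, 0, 0, 0, 0, 1]]),
    (4, ![![1, 0, 1, 0, 0, 0, 0, 0],
      ![0, 1, 0, 0, 0, 0, 0, 0],
      ![0, 0, -1, 0, 0, 0, 0, 0],
      ![0, 0, 1, 1, 1, 1, 0, 0],
      ![0, 0, 0, 0, 0, -1, 0, 0],
      ![0, 0, 0, 0, -1, 0, 0, 0],
      ![0, 0, 0, 0, 1, 1, 1, 0],
      ![0, 0, 0, 0, 0, 0, 0, 1]]),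
    (2, ![![1, 0, 1, 0, 0, 0, 0, 0],
      ![0, 1, 0, 0, 0, 0, 0, 0],
      ![0, 0, -1, 0, 0, 0, 0, 0],
      ![0, 0, 1, 1, 1, 1, 0, 0],
      ![0, 0, 0, 0, -1, -1, 0, 0],
      ![0, 0, 0, 0, 1, 0, 0, 0],
      ![0, 0, 0, 0, 0, 1, 1, 0],
      ![0, 0, 0, 0, 0, 0, 0, 1]]),
    (5, ![![1, 0, 0, 0, 0, 0, 0, 0],
      ![0, 1, 0, 0, 0, 0, 0, 0],
      ![0, 0, 1, 0, 0, 0, 0, 0],
      ![0, 0, 0, 1, 1, 1, 0, 0],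
      ![0, 0, 0, 0, -1, -1, 0, 0],
      ![0, 0, 0, 0, 1, 0, 0, 0],
      ![0, 0, 0, 0, 0, 1, 1, 0],
      ![0, 0, 0, 0, 0, 0, 0, 1]]),
    (4, ![![1, 0, 0, 0, 0, 0, 0, 0],
      ![0, 1, 0, 0, 0, 0, 0, 0],
      ![0, 0, 1, 0, 0, 0, 0, 0],
      ![0, 0, 0, 1, 1, 0, 0, 0],
      ![0, 0, 0, 0, -1, 0, 0, 0],
      ![0, 0, 0, 0, 1, 1, 0, 0],
      ![0, 0, 0, 0, 0, 0, 1, 0],
      ![0, 0, 0, 0, 0, 0, 0, 1]])]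

/-- the matrix of `θ` -/
def Th : Mat 8 := ![![0, 1, 0, 1, 1, 1, 1, 0],
    ![1, 0, 1, 1, 1, 1, 1, 0],
    ![0, -1, -1, -2, -1, -1, -1, 0],
    ![0, 1, 1, 2, 1, 0, 0, 0],
    ![0, 0, 0, -1, -1, 0, 0, 0],
    ![-1, -1, -1, -1, 0, 0, 0, 0],
    ![1, 1, 1, 2, 1, 1, 1, 1],
    ![0, 0, 0, 0, 0, 0, -1, -1]]

/-- the basis -/
def V : Mat 8 := ![![0, -1, -1, -1, -1, -1, -1, 0],
    ![-1, 0, -1, -1, -1, -1, -1, -1],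
    ![0, -1, 0, -1, -1, -1, 0, 0],
    ![0, 0, -1, -1, -1, -1, -1, 0],
    ![0, 0, 0, 0, 0, 0, 0, -1],
    ![0, 0, 0, 0, 0, 0, 1, 1],
    ![1, 1, 1, 2, 1, 1, 0, 0],
    ![0, 1, 1, 2, 2, 1, 1, 0]]

/-- the coordinates -/
def B : Mat 8 := ![![0, -1, 0, 1, 1, 0, 0, 0],
    ![-1, 0, 0, 1, 0, 0, 0, 0],
    ![-1, 0, 1, 0, -1, -1, 0, 0],
    ![1, 1, 0, -1, 0, 1, 1, 0],
    ![0, -1, 0, 1, 0, -1, -1, 1],
    ![0, 0, -1, -1, 0, 0, 0, -1],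
    ![0, 0, 0, 0, 1, 1, 0, 0],
    ![0, 0, 0, 0, -1, 0, 0, 0]]

/-- the polynomial -/
def c : Fin 8 → ℤ := ![1, 0, -1, 0, 1, 0, -1, 0]

/-- the representatives of the orbits of `θ` on the roots -/
def R : Fin 12 → Fin 8 → ℤ := ![![-1, -1, -2, -2, -2, -2, -1, -1],
    ![-1, -2, -2, -3, -3, -3, -2, -1],
    ![-1, -1, -2, -2, -2, -2, -1, 0],
    ![-2, -2, -3, -4, -3, -3, -2, -1],
    ![-1, -1, -2, -2, -2, -2, -2, -1],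
    ![-1, -2, -3, -5, -4, -3, -2, -1],
    ![0, 0, 0, -1, -1, -1, 0, 0],
    ![0, -1, -1, -1, -1, -1, -1, -1],
    ![-1, -1, -1, -1, -1, -1, -1, -1],
    ![-1, -1, -2, -3, -2, -2, -1, 0],
    ![0, 0, 0, -1, -1, -1, -1, -1],
    ![0, -1, -1, -1, -1, -1, -1, 0]]

/-- the values of the functional on the representatives -/
def G : Fin 12 → Fin 8 → ℤ := ![![1, 1, 0, 0, 1, 1, 0, 0],
    ![1, 1, 1, 0, 0, 0, 0, 0],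
    ![1, 1, 0, 0, 0, 1, 0, 0],
    ![1, 1, 0, 0, 0, 0, -1, 0],
    ![1, 1, 0, 0, 0, 0, 0, 0],
    ![0, 0, 0, 1, 1, 0, -1, -1],
    ![-1, 0, 1, 1, 0, 0, 0, 0],
    ![1, 0, 0, 0, 1, 0, 0, 0],
    ![1, 1, 0, -1, 0, 0, 0, 0],
    ![0, 0, 0, 1, 0, 0, -1, 0],
    ![-1, 0, 1, 1, 0, -1, 0, 0],
    ![1, 0, 0, 0, 0, 0, 0, 0]]

/-- predecessor -/
def prv (r : ℕ) : ℕ := Nat.mod (Nat.shiftRight 0xeee9efebd8ece4e1d1ead4cdddcee7d9eddad6e0d7e5b7b0c7b1e6e2e8e3b3cab4c3aec4d5cfded091a1929a8e9bd2dfd3dbccdc9d8f9e98acc1adbaa9bb79657a70bdaabeb874968d979349946bb5cbb6c5afc685688682c8b2c9c283a7a2a8a45aa59f90a0994c9c7c667d7133bfabc0b980678177638b648c786e886f362f4430bc7e00890053a3564f5f504a954b474d486c2d2600006d69876a29402a39243a845ba65c5862597b373145007f758a76344635422e4357516052132314000000546155004e5e1f11201a2b412c3b253c0c070d003e283f380a180f191502000821122200051e0e0b031704000601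 (8 * r)) 256

/-- depth -/
def dep (r : ℕ) : ℕ := Nat.mod (Nat.shiftRight 0x70608070608050806090a040808070a090c070b050b090504060a0909090508060703080b070d09030d0a0706050a0a0a06090c08040c05080b0b050409050406020a070706030b080b060207010c0c0c0b070e04060b040a0a0e060509020c0305070d0d0d0c120f0a030a04030b080b0d09090c05040e040e0f021313030112010d0e000d00050802030303110f0d020c130f100400000e01100e0411010202020b110c100112010d101111000c100e0f130e0f0101120f020e120213100000000f101100030d13031101120d1110120f13131300100e0f13010f01110213001112120e001310120f121011121011 (8 * r)) 256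

theorem hA : ∀ i j, Am i j = cartanOf chevE8 8 i j := by decide +kernel

theorem chainOK : ChainOK Am chain := by decide +kernel

theorem hd_eq : hd chain = Th := rfl

theorem cycOK : CycOK 8 Th V B c := by decide +kernel

theorem rootOK : RootOK chevE8 8 Th R prv dep := by decide +kernel

theorem coefOK : ∀ s i, ∑ j, R s j * B j i = G s i := by decide +kernel

theorem fN_eq (x : ℤ) : fN c x = 1 - x ^ 2 + x ^ 4 - x ^ 6 + x ^ 8 := by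
  unfold fN c
  simp [Fin.sum_univ_succ]
  ring

theorem G_0 (x : ℤ) : Gq B x (R 0) = 1 + x + x ^ 4 + x ^ 5 := by
  rw [Gq_coef B x (R 0) (G 0) (coefOK 0)]
  unfold G
  simp [Fin.sum_univ_succ]
  try ring

theorem bez_0 (x : ℤ) : (1) * (1 - x ^ 2 + x ^ 4 - x ^ 6 + x ^ 8) + (x ^ 2 - x ^ 3) * (1 + x + x ^ 4 + x ^ 5) = 1 := by
  ring

theorem G_1 (x : ℤ) : Gq B x (R 1) = 1 + x + x ^ 2 := by
  rw [Gq_coef B x (R 1) (G 1) (coefOK 1)]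
  unfold G
  simp [Fin.sum_univ_succ]
  try ring

theorem bez_1 (x : ℤ) : (-1 - x) * (1 - x ^ 2 + x ^ 4 - x ^ 6 + x ^ 8) + (2 - x - 2 * x ^ 2 + 2 * x ^ 3 + x ^ 4 - 2 * x ^ 5 + x ^ 7) * (1 + x + x ^ 2) = 1 := by
  ring

theorem G_2 (x : ℤ) : Gq B x (R 2) = 1 + x + x ^ 5 := by
  rw [Gq_coef B x (R 2) (G 2) (coefOK 2)]
  unfold G
  simp [Fin.sum_univ_succ]
  try ring

theorem bez_2 (x : ℤ) : (2 - 2 * x + 4 * x ^ 2 - 3 * x ^ 3 + x ^ 4) * (1 - x ^ 2 + x ^ 4 - x ^ 6 + x ^ 8) + (3 - x - x ^ 2 + 2 * x ^ 3 - x ^ 4 - 3 * x ^ 5 + 3 * x ^ 6 - x ^ 7) * (1 + x + x ^ 5) = 5 := by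
  ring

theorem G_3 (x : ℤ) : Gq B x (R 3) = 1 + x - x ^ 6 := by
  rw [Gq_coef B x (R 3) (G 3) (coefOK 3)]
  unfold G
  simp [Fin.sum_univ_succ]
  try ring

theorem bez_3 (x : ℤ) : (6 - 2 * x + x ^ 2 + 2 * x ^ 3 - x ^ 4 - 2 * x ^ 5) * (1 - x ^ 2 + x ^ 4 - x ^ 6 + x ^ 8) + (-1 + 3 * x + 2 * x ^ 2 - 6 * x ^ 3 + 2 * x ^ 4 + 4 * x ^ 5 - x ^ 6 - 2 * x ^ 7) * (1 + x - x ^ 6) = 5 := by
  ring

theorem G_4 (x : ℤ) : Gq B x (R 4) = 1 + x := by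
  rw [Gq_coef B x (R 4) (G 4) (coefOK 4)]
  unfold G
  simp [Fin.sum_univ_succ]
  try ring

theorem bez_4 (x : ℤ) : (1) * (1 - x ^ 2 + x ^ 4 - x ^ 6 + x ^ 8) + (x ^ 2 - x ^ 3 + x ^ 6 - x ^ 7) * (1 + x) = 1 := by
  ring

theorem G_5 (x : ℤ) : Gq B x (R 5) = x ^ 3 + x ^ 4 - x ^ 6 - x ^ 7 := by
  rw [Gq_coef B x (R 5) (G 5) (coefOK 5)]
  unfold G
  simp [Fin.sum_univ_succ]
  try ring

theorem bez_5 (x : ℤ) : (1 + x ^ 2 - x ^ 6) * (1 - x ^ 2 + x ^ 4 - x ^ 6 + x ^ 8) + (x ^ 3 - x ^ 4 + x ^ 6 - x ^ 7) * (x ^ 3 + x ^ 4 - x ^ 6 - x ^ 7) = 1 := by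
  ring

theorem G_6 (x : ℤ) : Gq B x (R 6) = -1 + x ^ 2 + x ^ 3 := by
  rw [Gq_coef B x (R 6) (G 6) (coefOK 6)]
  unfold G
  simp [Fin.sum_univ_succ]
  try ring

theorem bez_6 (x : ℤ) : (4 + 3 * x + 2 * x ^ 2) * (1 - x ^ 2 + x ^ 4 - x ^ 6 + x ^ 8) + (-1 + 3 * x - 3 * x ^ 2 - x ^ 3 + 2 * x ^ 4 - x ^ 5 - x ^ 6 - 2 * x ^ 7) * (-1 + x ^ 2 + x ^ 3) = 5 := by
  ring

theorem G_7 (x : ℤ) : Gq B x (R 7) = 1 + x ^ 4 := by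
  rw [Gq_coef B x (R 7) (G 7) (coefOK 7)]
  unfold G
  simp [Fin.sum_univ_succ]
  try ring

theorem bez_7 (x : ℤ) : (1) * (1 - x ^ 2 + x ^ 4 - x ^ 6 + x ^ 8) + (x ^ 2 - x ^ 4) * (1 + x ^ 4) = 1 := by
  ring

theorem G_8 (x : ℤ) : Gq B x (R 8) = 1 + x - x ^ 3 := by
  rw [Gq_coef B x (R 8) (G 8) (coefOK 8)]
  unfold G
  simp [Fin.sum_univ_succ]
  try ring

theorem bez_8 (x : ℤ) : (3 - 3 * x + x ^ 2) * (1 - x ^ 2 + x ^ 4 - x ^ 6 + x ^ 8) + (2 + x + x ^ 2 - 2 * x ^ 3 + x ^ 4 + 3 * x ^ 5 - 3 * x ^ 6 + x ^ 7) * (1 + x - x ^ 3) = 5 := by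
  ring

theorem G_9 (x : ℤ) : Gq B x (R 9) = x ^ 3 - x ^ 6 := by
  rw [Gq_coef B x (R 9) (G 9) (coefOK 9)]
  unfold G
  simp [Fin.sum_univ_succ]
  try ring

theorem bez_9 (x : ℤ) : (1 + x ^ 2 - x ^ 3) * (1 - x ^ 2 + x ^ 4 - x ^ 6 + x ^ 8) + (1 - x ^ 2 + x ^ 3 + x ^ 4 - x ^ 5) * (x ^ 3 - x ^ 6) = 1 := by
  ring

theorem G_10 (x : ℤ) : Gq B x (R 10) = -1 + x ^ 2 + x ^ 3 - x ^ 5 := by
  rw [Gq_coef B x (R 10) (G 10) (coefOK 10)]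
  unfold G
  simp [Fin.sum_univ_succ]
  try ring

theorem bez_10 (x : ℤ) : (1 + x + x ^ 2 - x ^ 3 - x ^ 4) * (1 - x ^ 2 + x ^ 4 - x ^ 6 + x ^ 8) + (x - x ^ 3 + x ^ 5 - x ^ 6 - x ^ 7) * (-1 + x ^ 2 + x ^ 3 - x ^ 5) = 1 := by
  ring

theorem G_11 (x : ℤ) : Gq B x (R 11) = 1 := by
  rw [Gq_coef B x (R 11) (G 11) (coefOK 11)]
  unfold G
  simp [Fin.sum_univ_succ]
  try ring

theorem bez_11 (x : ℤ) : (0) * (1 - x ^ 2 + x ^ 4 - x ^ 6 + x ^ 8) + (1) * (1) = 1 := by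
  ring

/-- Common divisors of `f(x)` and the value of `Gq` on a representative. -/
theorem dvd_of_G {x r : ℤ} (h : r ∣ 1 - x ^ 2 + x ^ 4 - x ^ 6 + x ^ 8) (s : Fin 12) (hs : r ∣ Gq B x (R s)) :
    r ∣ 1 ∨ r ∣ 5 := by
  have key : ∀ {a b g y : ℤ}, a * (1 - x ^ 2 + x ^ 4 - x ^ 6 + x ^ 8) + b * g = y → r ∣ g → r ∣ y := fun e hg => by
    rw [← e]
    exact dvd_add (h.mul_left _) (hg.mul_left _)
  fin_cases s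
  · exact Or.inl (key (bez_0 x) (by rw [← G_0]; exact hs))
  · exact Or.inl (key (bez_1 x) (by rw [← G_1]; exact hs))
  · exact Or.inr (key (bez_2 x) (by rw [← G_2]; exact hs))
  · exact Or.inr (key (bez_3 x) (by rw [← G_3]; exact hs))
  · exact Or.inl (key (bez_4 x) (by rw [← G_4]; exact hs))
  · exact Or.inl (key (bez_5 x) (by rw [← G_5]; exact hs))
  · exact Or.inr (key (bez_6 x) (by rw [← G_6]; exact hs))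
  · exact Or.inl (key (bez_7 x) (by rw [← G_7]; exact hs))
  · exact Or.inr (key (bez_8 x) (by rw [← G_8]; exact hs))
  · exact Or.inl (key (bez_9 x) (by rw [← G_9]; exact hs))
  · exact Or.inl (key (bez_10 x) (by rw [← G_10]; exact hs))
  · exact Or.inl (key (bez_11 x) (by rw [← G_11]; exact hs))

end Cfsg.Agent.H129.DataE8b
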