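import Cfsg.Agent.H129.WData

/-!
# Data of the torus of order `Φ₂₄(q)` of `E₈(q)` (helper129)
-/

set_option autoImplicit false

namespace Cfsg.Agent.H129.DataE8c

open Cfsg.Agent.H129.TorusTw Cfsg.Agent.H129.WData Cfsg.Agent.ChevalleyStructure.CoxeterGeomTypes
open Cfsg.Lie Cfsg.Lie.ChevalleyDatum

/-- the Cartan matrix -/
def Am : Mat 8 := ![![2, 0, -1, 0, 0, 0, 0, 0],
    ![0, 2, 0, -1, 0, 0, 0, 0],
    ![-1, 0, 2, -1, 0, 0, 0, 0],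
    ![0, -1, -1, 2, -1, 0, 0, 0],
    ![0, 0, 0, -1, 2, -1, 0, 0],
    ![0, 0, 0, 0, -1, 2, -1, 0],
    ![0, 0, 0, 0, 0, -1, 2, -1],
    ![0, 0, 0, 0, 0, 0, -1, 2]]

/-- the partial products -/
def chain : List (Fin 8 × Mat 8) := [
    (4, ![![0, 1, 0, 1, 1, 0, 0, 0],
      ![-1, 0, 0, 0, 0, 0, 0, 0],
      ![0, -1, 0, 0, 0, 0, 0, 0],
      ![0, 0, -1, -1, -1, 0, 0, 0],
      ![1, 1, 2, 2, 2, 1, 0, 0],
      ![0, 0, 0, 0, 0, 0, 1, 1],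
      ![0, 0, 0, 0, -1, -1, -1, -1],
      ![0, 0, 0, 0, 1, 1, 1, 0]]),
    (0, ![![0, 1, 0, 1, 0, 0, 0, 0],
      ![-1, 0, 0, 0, 0, 0, 0, 0],
      ![0, -1, 0, 0, 0, 0, 0, 0],
      ![0, 0, -1, -1, 0, 0, 0, 0],
      ![1, 1, 2, 2, 1, 1, 0, 0],
      ![0, 0, 0, 0, 0, 0, 1, 1],
      ![0, 0, 0, 0, 0, -1, -1, -1],
      ![0, 0, 0, 0, 0, 1, 1, 0]]),
    (7, ![![0, 1, 0, 1, 0, 0, 0, 0],
      ![1, 0, 0, 0, 0, 0, 0, 0],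
      ![0, -1, 0, 0, 0, 0, 0, 0],
      ![-1, 0, -1, -1, 0, 0, 0, 0],
      ![1, 1, 2, 2, 1, 1, 0, 0],
      ![0, 0, 0, 0, 0, 0, 1, 1],
      ![0, 0, 0, 0, 0, -1, -1, -1],
      ![0, 0, 0, 0, 0, 1, 1, 0]]),
    (5, ![![0, 1, 0, 1, 0, 0, 0, 0],
      ![1, 0, 0, 0, 0, 0, 0, 0],
      ![0, -1, 0, 0, 0, 0, 0, 0],
      ![-1, 0, -1, -1, 0, 0, 0, 0],
      ![1, 1, 2, 2, 1, 1, 0, 0],
      ![0, 0, 0, 0, 0, 0, 1, 0],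
      ![0, 0, 0, 0, 0, -1, -1, 0],
      ![0, 0, 0, 0, 0, 1, 1, 1]]),
    (2, ![![0, 1, 0, 1, 0, 0, 0, 0],
      ![1, 0, 0, 0, 0, 0, 0, 0],
      ![0, -1, 0, 0, 0, 0, 0, 0],
      ![-1, 0, -1, -1, 0, 0, 0, 0],
      ![1, 1, 2, 2, 1, 0, 0, 0],
      ![0, 0, 0, 0, 0, 1, 1, 0],
      ![0, 0, 0, 0, 0, 0, -1, 0],
      ![0, 0, 0, 0, 0, 0, 1, 1]]),
    (6, ![![0, 1, 1, 1, 0, 0, 0, 0],
      ![1, 0, 1, 0, 0, 0, 0, 0],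
      ![0, -1, 0, 0, 0, 0, 0, 0],
      ![-1, 0, -1, -1, 0, 0, 0, 0],
      ![1, 1, 1, 2, 1, 0, 0, 0],
      ![0, 0, 0, 0, 0, 1, 1, 0],
      ![0, 0, 0, 0, 0, 0, -1, 0],
      ![0, 0, 0, 0, 0, 0, 1, 1]]),
    (1, ![![0, 1, 1, 1, 0, 0, 0, 0],
      ![1, 0, 1, 0, 0, 0, 0, 0],
      ![0, -1, 0, 0, 0, 0, 0, 0],
      ![-1, 0, -1, -1, 0, 0, 0, 0],
      ![1, 1, 1, 2, 1, 0, 0, 0],
      ![0, 0, 0, 0, 0, 1, 0, 0],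
      ![0, 0, 0, 0, 0, 0, 1, 0],
      ![0, 0, 0, 0, 0, 0, 0, 1]]),
    (3, ![![0, 0, 1, 1, 0, 0, 0, 0],
      ![1, 0, 1, 0, 0, 0, 0, 0],
      ![0, 1, 0, 0, 0, 0, 0, 0],
      ![-1, -1, -1, -1, 0, 0, 0, 0],
      ![1, 1, 1, 2, 1, 0, 0, 0],
      ![0, 0, 0, 0, 0, 1, 0, 0],
      ![0, 0, 0, 0, 0, 0, 1, 0],
      ![0, 0, 0, 0, 0, 0, 0, 1]]),
    (1, ![![0, 0, 1, 0, 0, 0, 0, 0],
      ![1, 0, 1, 1, 0, 0, 0, 0],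
      ![0, 1, 0, 1, 0, 0, 0, 0],
      ![-1, -1, -1, -1, 0, 0, 0, 0],
      ![1, 1, 1, 1, 1, 0, 0, 0],
      ![0, 0, 0, 0, 0, 1, 0, 0],
      ![0, 0, 0, 0, 0, 0, 1, 0],
      ![0, 0, 0, 0, 0, 0, 0, 1]]),
    (0, ![![0, 0, 1, 0, 0, 0, 0, 0],
      ![1, 1, 1, 1, 0, 0, 0, 0],
      ![0, 0, 0, 1, 0, 0, 0, 0],
      ![-1, 0, -1, -1, 0, 0, 0, 0],
      ![1, 0, 1, 1, 1, 0, 0, 0],
      ![0, 0, 0, 0, 0, 1, 0, 0],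
      ![0, 0, 0, 0, 0, 0, 1, 0],
      ![0, 0, 0, 0, 0, 0, 0, 1]]),
    (2, ![![1, 0, 1, 0, 0, 0, 0, 0],
      ![0, 1, 1, 1, 0, 0, 0, 0],
      ![0, 0, 0, 1, 0, 0, 0, 0],
      ![0, 0, -1, -1, 0, 0, 0, 0],
      ![0, 0, 1, 1, 1, 0, 0, 0],
      ![0, 0, 0, 0, 0, 1, 0, 0],
      ![0, 0, 0, 0, 0, 0, 1, 0],
      ![0, 0, 0, 0, 0, 0, 0, 1]]),
    (3, ![![1, 0, 0, 0, 0, 0, 0, 0],
      ![0, 1, 0, 1, 0, 0, 0, 0],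
      ![0, 0, 1, 1, 0, 0, 0, 0],
      ![0, 0, 0, -1, 0, 0, 0, 0],
      ![0, 0, 0, 1, 1, 0, 0, 0],
      ![0, 0, 0, 0, 0, 1, 0, 0],
      ![0, 0, 0, 0, 0, 0, 1, 0],
      ![0, 0, 0, 0, 0, 0, 0, 1]])]

/-- the matrix of `θ` -/
def Th : Mat 8 := ![![0, 1, 0, 1, 1, 0, 0, 0],
    ![-1, 0, 0, 0, 0, 0, 0, 0],
    ![0, -1, 0, 0, 0, 0, 0, 0],
    ![0, 0, -1, -1, -1, 0, 0, 0],
    ![1, 1, 2, 2, 2, 1, 0, 0],
    ![0, 0, 0, 0, 0, 0, 1, 1],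
    ![0, 0, 0, 0, -1, -1, -1, -1],
    ![0, 0, 0, 0, 1, 1, 1, 0]]

/-- the basis -/
def V : Mat 8 := ![![1, 0, 1, 1, 0, 0, 0, 0],
    ![0, 0, -1, 0, 0, 0, 0, 0],
    ![0, 1, 0, 0, 0, 0, 0, 0],
    ![-1, 0, 0, 0, 0, 0, 0, 0],
    ![0, -1, 0, -1, -1, 0, 0, 0],
    ![0, -1, -1, -1, -1, -1, 0, 0],
    ![0, 0, -1, -1, -1, -1, -1, -1],
    ![-1, 0, -1, -1, -1, -1, -1, 0]]

/-- the coordinates -/
def B : Mat 8 := ![![0, 0, 0, -1, 0, 0, 0, 0],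
    ![0, 0, 1, 0, 0, 0, 0, 0],
    ![0, -1, 0, 0, 0, 0, 0, 0],
    ![1, 1, 0, 1, 0, 0, 0, 0],
    ![-1, -1, -1, -1, -1, 0, 0, 0],
    ![0, 1, 0, 0, 1, -1, 0, 0],
    ![0, 0, 1, 1, 0, 1, 0, -1],
    ![0, 0, 0, -1, 0, 0, -1, 1]]

/-- the polynomial -/
def c : Fin 8 → ℤ := ![1, 0, 0, 0, -1, 0, 0, 0]

/-- the representatives of the orbits of `θ` on the roots -/
def R : Fin 10 → Fin 8 → ℤ := ![![0, 0, 0, 0, 1, 0, 0, 0],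
    ![0, 0, 0, 0, 1, 1, 0, 0],
    ![0, -1, 0, -1, 0, 0, 0, 0],
    ![0, 0, 0, -1, 0, 0, 0, 0],
    ![0, -1, -1, -1, 0, 0, 0, 0],
    ![0, 0, 0, 0, 1, 1, 1, 1],
    ![-1, -1, -1, -1, 0, 0, 0, 0],
    ![0, 0, -1, -1, 0, 0, 0, 0],
    ![-1, -1, -2, -2, -1, -1, 0, 0],
    ![-1, 0, -1, -1, 0, 0, 0, 0]]

/-- the values of the functional on the representatives -/
def G : Fin 10 → Fin 8 → ℤ := ![![-1, -1, -1, -1, -1, 0, 0, 0],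
    ![-1, 0, -1, -1, 0, -1, 0, 0],
    ![-1, -1, -1, -1, 0, 0, 0, 0],
    ![-1, -1, 0, -1, 0, 0, 0, 0],
    ![-1, 0, -1, -1, 0, 0, 0, 0],
    ![-1, 0, 0, -1, 0, 0, -1, 0],
    ![-1, 0, -1, 0, 0, 0, 0, 0],
    ![-1, 0, 0, -1, 0, 0, 0, 0],
    ![-1, 0, 0, 0, 0, 1, 0, 0],
    ![-1, 0, 0, 0, 0, 0, 0, 0]]

/-- predecessor -/
def prv (r : ℕ) : ℕ := Nat.mod (Nat.shiftRight 0xedefece6eedae7dfe8c9e0cbc8cae9ead3e1d5d2d4e3ebe5e2e4d7b6b2b4d9d6d8b5b7b3dcc0bcbededbddbfc1bda09c9e7f817e9fa19d80c6c2c4a6a8a5c5c7c3a78486835c858a8c89618b4662d0ccceabadaacfd1cdac90928f6791afb1aea2b0689597946d964bb9bbb8a3ba00780000999b987b7d757a72745754569a7c7779004c373436a400825b585a87004d413e400088605d5f43221e2045424421231f8da9008e66636500936c696b482c282a4a47492b2d296f004e50716e7051534f322e3012141131332f133c383a1719163b3d39180b0d0a040c1b1d1a0e1c05062527240f26071008150109030002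 (8 * r)) 256

/-- depth -/
def dep (r : ℕ) : ℕ := Nat.mod (Nat.shiftRight 0x607050408050705060307070305080604090805050409080608070403040a0909080805060402020a06090608020703050101010a0b0c080703070304020a0b09080a0e03010c030702010c01030a0609040b020a0b090f0a0b05010c0a0b09040c0e060b02010c010d0b09020c000700000a0b10110b061217050417160c0c130c000e1517010d000d0e1712020010151716000d111716031517160e17101512160f0d000d0e130f000d0f0216141517160e100f130f13140017160d0d0d110f130e14121512160e0e1012111414151516100f1013141214151011111415101214110f13130f121113111410111312 (8 * r)) 256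

theorem hA : ∀ i j, Am i j = cartanOf chevE8 8 i j := by decide +kernel

theorem chainOK : ChainOK Am chain := by decide +kernel

theorem hd_eq : hd chain = Th := rfl

theorem cycOK : CycOK 8 Th V B c := by decide +kernel

theorem rootOK : RootOK chevE8 8 Th R prv dep := by decide +kernel

theorem coefOK : ∀ s i, ∑ j, R s j * B j i = G s i := by decide +kernel

theorem fN_eq (x : ℤ) : fN c x = 1 - x ^ 4 + x ^ 8 := by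
  unfold fN c
  simp [Fin.sum_univ_succ]
  ring

theorem G_0 (x : ℤ) : Gq B x (R 0) = -1 - x - x ^ 2 - x ^ 3 - x ^ 4 := by
  rw [Gq_coef B x (R 0) (G 0) (coefOK 0)]
  unfold G
  simp [Fin.sum_univ_succ]
  try ring

theorem bez_0 (x : ℤ) : (-1 - 2 * x - x ^ 2) * (1 - x ^ 4 + x ^ 8) + (-2 + x ^ 2 + x ^ 3 + x ^ 4 - x ^ 5 - x ^ 6) * (-1 - x - x ^ 2 - x ^ 3 - x ^ 4) = 1 := by
  ring

theorem G_1 (x : ℤ) : Gq B x (R 1) = -1 - x ^ 2 - x ^ 3 - x ^ 5 := by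
  rw [Gq_coef B x (R 1) (G 1) (coefOK 1)]
  unfold G
  simp [Fin.sum_univ_succ]
  try ring

theorem bez_1 (x : ℤ) : (1 + x ^ 4) * (1 - x ^ 4 + x ^ 8) + (-1 + x ^ 2 + x ^ 3 - x ^ 4 - x ^ 5 + x ^ 7) * (-1 - x ^ 2 - x ^ 3 - x ^ 5) = 2 := by
  ring

theorem G_2 (x : ℤ) : Gq B x (R 2) = -1 - x - x ^ 2 - x ^ 3 := by
  rw [Gq_coef B x (R 2) (G 2) (coefOK 2)]
  unfold G
  simp [Fin.sum_univ_succ]
  try ring

theorem bez_2 (x : ℤ) : (1) * (1 - x ^ 4 + x ^ 8) + (-x ^ 4 + x ^ 5) * (-1 - x - x ^ 2 - x ^ 3) = 1 := by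
  ring

theorem G_3 (x : ℤ) : Gq B x (R 3) = -1 - x - x ^ 3 := by
  rw [Gq_coef B x (R 3) (G 3) (coefOK 3)]
  unfold G
  simp [Fin.sum_univ_succ]
  try ring

theorem bez_3 (x : ℤ) : (2 - x + 2 * x ^ 2) * (1 - x ^ 4 + x ^ 8) + (-1 + 2 * x ^ 2 - x ^ 3 - x ^ 4 - x ^ 6 + 2 * x ^ 7) * (-1 - x - x ^ 3) = 3 := by
  ring

theorem G_4 (x : ℤ) : Gq B x (R 4) = -1 - x ^ 2 - x ^ 3 := by
  rw [Gq_coef B x (R 4) (G 4) (coefOK 4)]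
  unfold G
  simp [Fin.sum_univ_succ]
  try ring

theorem bez_4 (x : ℤ) : (3 - x - 2 * x ^ 2) * (1 - x ^ 4 + x ^ 8) + (-x - 2 * x ^ 2 + x ^ 3 + 2 * x ^ 5 + x ^ 6 - 2 * x ^ 7) * (-1 - x ^ 2 - x ^ 3) = 3 := by
  ring

theorem G_5 (x : ℤ) : Gq B x (R 5) = -1 - x ^ 3 - x ^ 6 := by
  rw [Gq_coef B x (R 5) (G 5) (coefOK 5)]
  unfold G
  simp [Fin.sum_univ_succ]
  try ring

theorem bez_5 (x : ℤ) : (x - x ^ 3 + x ^ 4) * (1 - x ^ 4 + x ^ 8) + (-1 + x - x ^ 5 + x ^ 6) * (-1 - x ^ 3 - x ^ 6) = 1 := by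
  ring

theorem G_6 (x : ℤ) : Gq B x (R 6) = -1 - x ^ 2 := by
  rw [Gq_coef B x (R 6) (G 6) (coefOK 6)]
  unfold G
  simp [Fin.sum_univ_succ]
  try ring

theorem bez_6 (x : ℤ) : (1) * (1 - x ^ 4 + x ^ 8) + (-x ^ 4 + x ^ 6) * (-1 - x ^ 2) = 1 := by
  ring

theorem G_7 (x : ℤ) : Gq B x (R 7) = -1 - x ^ 3 := by
  rw [Gq_coef B x (R 7) (G 7) (coefOK 7)]
  unfold G
  simp [Fin.sum_univ_succ]
  try ring

theorem bez_7 (x : ℤ) : (1 - x) * (1 - x ^ 4 + x ^ 8) + (-1 - x + x ^ 3 + x ^ 5 - x ^ 6) * (-1 - x ^ 3) = 2 := by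
  ring

theorem G_8 (x : ℤ) : Gq B x (R 8) = -1 + x ^ 5 := by
  rw [Gq_coef B x (R 8) (G 8) (coefOK 8)]
  unfold G
  simp [Fin.sum_univ_succ]
  try ring

theorem bez_8 (x : ℤ) : (-x + x ^ 3 + x ^ 4) * (1 - x ^ 4 + x ^ 8) + (-1 - x + x ^ 3 + x ^ 4 - x ^ 6 - x ^ 7) * (-1 + x ^ 5) = 1 := by
  ring

theorem G_9 (x : ℤ) : Gq B x (R 9) = -1 := by
  rw [Gq_coef B x (R 9) (G 9) (coefOK 9)]
  unfold G
  simp [Fin.sum_univ_succ]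
  try ring

theorem bez_9 (x : ℤ) : (0) * (1 - x ^ 4 + x ^ 8) + (-1) * (-1) = 1 := by
  ring

/-- Common divisors of `f(x)` and the value of `Gq` on a representative. -/
theorem dvd_of_G {x r : ℤ} (h : r ∣ 1 - x ^ 4 + x ^ 8) (s : Fin 10) (hs : r ∣ Gq B x (R s)) :
    r ∣ 1 ∨ r ∣ 2 ∨ r ∣ 3 := by
  have key : ∀ {a b g y : ℤ}, a * (1 - x ^ 4 + x ^ 8) + b * g = y → r ∣ g → r ∣ y := fun e hg => by
    rw [← e]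
    exact dvd_add (h.mul_left _) (hg.mul_left _)
  fin_cases s
  · exact Or.inl (key (bez_0 x) (by rw [← G_0]; exact hs))
  · exact Or.inr (Or.inl (key (bez_1 x) (by rw [← G_1]; exact hs)))
  · exact Or.inl (key (bez_2 x) (by rw [← G_2]; exact hs))
  · exact Or.inr (Or.inr (key (bez_3 x) (by rw [← G_3]; exact hs)))
  · exact Or.inr (Or.inr (key (bez_4 x) (by rw [← G_4]; exact hs)))
  · exact Or.inl (key (bez_5 x) (by rw [← G_5]; exact hs))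
  · exact Or.inl (key (bez_6 x) (by rw [← G_6]; exact hs))
  · exact Or.inr (Or.inl (key (bez_7 x) (by rw [← G_7]; exact hs)))
  · exact Or.inl (key (bez_8 x) (by rw [← G_8]; exact hs))
  · exact Or.inl (key (bez_9 x) (by rw [← G_9]; exact hs))

end Cfsg.Agent.H129.DataE8c
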