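import Cfsg.Agent.H129.WData

/-!
# Data of a torus of type F4 (helper129)
-/

set_option autoImplicit false

namespace Cfsg.Agent.H129.DataF4

open Cfsg.Agent.H129.TorusTw Cfsg.Agent.H129.WData Cfsg.Agent.ChevalleyStructure.CoxeterGeomTypes
open Cfsg.Lie Cfsg.Lie.ChevalleyDatum

/-- the Cartan matrix -/
def Am : Mat 4 := ![![2, -1, 0, 0],
    ![-1, 2, -2, 0],
    ![0, -1, 2, -1],
    ![0, 0, -1, 2]]

/-- the partial products -/
def chain : List (Fin 4 × Mat 4) := [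
    (0, ![![1, 2, 1, 0],
      ![-1, -1, 0, 0],
      ![2, 2, 1, 1],
      ![-2, -2, -2, -1]]),
    (2, ![![1, 2, 1, 0],
      ![0, -1, 0, 0],
      ![0, 2, 1, 1],
      ![0, -2, -2, -1]]),
    (1, ![![1, 2, 1, 0],
      ![0, -1, -1, 0],
      ![0, 2, 2, 1],
      ![0, -2, -1, -1]]),
    (2, ![![1, 1, 1, 0],
      ![0, -1, -1, 0],
      ![0, 2, 2, 1],
      ![0, 0, -1, -1]]),
    (3, ![![1, 1, 0, 0],
      ![0, -1, 0, 0],
      ![0, 2, 1, 1],
      ![0, 0, 0, -1]]),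
    (1, ![![1, 1, 0, 0],
      ![0, -1, 0, 0],
      ![0, 2, 1, 0],
      ![0, 0, 0, 1]])]

/-- the matrix of `θ` -/
def Th : Mat 4 := ![![1, 2, 1, 0],
    ![-1, -1, 0, 0],
    ![2, 2, 1, 1],
    ![-2, -2, -2, -1]]

/-- the basis -/
def V : Mat 4 := ![![-1, -1, 0, 0],
    ![0, -1, -1, 0],
    ![-1, -1, -1, -1],
    ![0, -1, 0, 0]]

/-- the coordinates -/
def B : Mat 4 := ![![-1, 0, 0, 1],
    ![0, 0, 0, -1],
    ![0, -1, 0, 1],
    ![1, 1, -1, -1]]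

/-- the polynomial -/
def c : Fin 4 → ℤ := ![1, 0, 0, 0]

/-- the representatives of the orbits of `θ` on the roots -/
def R : Fin 6 → Fin 4 → ℤ := ![![-2, -4, -3, -2],
    ![-2, -4, -2, -1],
    ![-2, -3, -2, -1],
    ![-2, -2, -1, -1],
    ![-1, -2, -2, -1],
    ![-1, -1, -1, -1]]

/-- the values of the functional on the representatives -/
def G : Fin 6 → Fin 4 → ℤ := ![![0, 1, 2, 1],
    ![1, 1, 1, 1],
    ![1, 1, 1, 0],
    ![1, 0, 1, 0],
    ![0, 1, 1, 0],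
    ![0, 0, 1, 0]]

/-- predecessor -/
def prv (r : ℕ) : ℕ := Nat.mod (Nat.shiftRight 0x2e292b231719102c2527211c1214092d2f2a2822241e15200f1a110b0d07050002261b1d000e0800031f001800000600 (8 * r)) 256

/-- depth -/
def dep (r : ℕ) : ℕ := Nat.mod (Nat.shiftRight 0x40304040304020504050304030202050505060305060306020702010702010101060607000701000106000700000700 (8 * r)) 256

theorem hA : ∀ i j, Am i j = cartanOf chevF4 4 i j := by decide +kernel

theorem chainOK : ChainOK Am chain := by decide +kernel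

theorem hd_eq : hd chain = Th := rfl

theorem cycOK : CycOK 4 Th V B c := by decide +kernel

theorem rootOK : RootOK chevF4 4 Th R prv dep := by decide +kernel

theorem coefOK : ∀ s i, ∑ j, R s j * B j i = G s i := by decide +kernel

theorem fN_eq (x : ℤ) : fN c x = 1 + x ^ 4 := by
  unfold fN c
  simp [Fin.sum_univ_succ]
  ring

theorem G_0 (x : ℤ) : Gq B x (R 0) = x + 2 * x ^ 2 + x ^ 3 := by
  rw [Gq_coef B x (R 0) (G 0) (coefOK 0)]
  unfold G
  simp [Fin.sum_univ_succ]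
  try ring

theorem bez_0 (x : ℤ) : (2 - x ^ 2) * (1 + x ^ 4) + (x - 2 * x ^ 2 + x ^ 3) * (x + 2 * x ^ 2 + x ^ 3) = 2 := by
  ring

theorem G_1 (x : ℤ) : Gq B x (R 1) = 1 + x + x ^ 2 + x ^ 3 := by
  rw [Gq_coef B x (R 1) (G 1) (coefOK 1)]
  unfold G
  simp [Fin.sum_univ_succ]
  try ring

theorem bez_1 (x : ℤ) : (1) * (1 + x ^ 4) + (1 - x) * (1 + x + x ^ 2 + x ^ 3) = 2 := by
  ring

theorem G_2 (x : ℤ) : Gq B x (R 2) = 1 + x + x ^ 2 := by
  rw [Gq_coef B x (R 2) (G 2) (coefOK 2)]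
  unfold G
  simp [Fin.sum_univ_succ]
  try ring

theorem bez_2 (x : ℤ) : (-x) * (1 + x ^ 4) + (1 - x ^ 2 + x ^ 3) * (1 + x + x ^ 2) = 1 := by
  ring

theorem G_3 (x : ℤ) : Gq B x (R 3) = 1 + x ^ 2 := by
  rw [Gq_coef B x (R 3) (G 3) (coefOK 3)]
  unfold G
  simp [Fin.sum_univ_succ]
  try ring

theorem bez_3 (x : ℤ) : (1) * (1 + x ^ 4) + (1 - x ^ 2) * (1 + x ^ 2) = 2 := by
  ring

theorem G_4 (x : ℤ) : Gq B x (R 4) = x + x ^ 2 := by
  rw [Gq_coef B x (R 4) (G 4) (coefOK 4)]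
  unfold G
  simp [Fin.sum_univ_succ]
  try ring

theorem bez_4 (x : ℤ) : (2 + x) * (1 + x ^ 4) + (-1 + x - x ^ 2 - x ^ 3) * (x + x ^ 2) = 2 := by
  ring

theorem G_5 (x : ℤ) : Gq B x (R 5) = x ^ 2 := by
  rw [Gq_coef B x (R 5) (G 5) (coefOK 5)]
  unfold G
  simp [Fin.sum_univ_succ]
  try ring

theorem bez_5 (x : ℤ) : (1) * (1 + x ^ 4) + (-x ^ 2) * (x ^ 2) = 1 := by
  ring

/-- Common divisors of `f(x)` and the value of `Gq` on a representative. -/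
theorem dvd_of_G {x r : ℤ} (h : r ∣ 1 + x ^ 4) (s : Fin 6) (hs : r ∣ Gq B x (R s)) :
    r ∣ 1 ∨ r ∣ 2 := by
  have key : ∀ {a b g y : ℤ}, a * (1 + x ^ 4) + b * g = y → r ∣ g → r ∣ y := fun e hg => by
    rw [← e]
    exact dvd_add (h.mul_left _) (hg.mul_left _)
  fin_cases s
  · exact Or.inr (key (bez_0 x) (by rw [← G_0]; exact hs))
  · exact Or.inr (key (bez_1 x) (by rw [← G_1]; exact hs))
  · exact Or.inl (key (bez_2 x) (by rw [← G_2]; exact hs))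
  · exact Or.inr (key (bez_3 x) (by rw [← G_3]; exact hs))
  · exact Or.inr (key (bez_4 x) (by rw [← G_4]; exact hs))
  · exact Or.inl (key (bez_5 x) (by rw [← G_5]; exact hs))

end Cfsg.Agent.H129.DataF4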