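import Cfsg.Agent.H129.WData

/-!
# Data of a torus of type G2 (helper129)
-/

set_option autoImplicit false

namespace Cfsg.Agent.H129.DataG2

open Cfsg.Agent.H129.TorusTw Cfsg.Agent.H129.WData Cfsg.Agent.ChevalleyStructure.CoxeterGeomTypes
open Cfsg.Lie Cfsg.Lie.ChevalleyDatum

/-- the Cartan matrix -/
def Am : Mat 2 := ![![2, -3],
    ![-1, 2]]

/-- the partial products -/
def chain : List (Fin 2 × Mat 2) := [
    (0, ![![1, 1],
      ![-3, -2]]),
    (1, ![![2, 1],
      ![-3, -2]]),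
    (0, ![![2, 1],
      ![-3, -1]]),
    (1, ![![1, 1],
      ![0, -1]])]

/-- the matrix of `θ` -/
def Th : Mat 2 := ![![1, 1],
    ![-3, -2]]

/-- the basis -/
def V : Mat 2 := ![![2, 1],
    ![-1, 0]]

/-- the coordinates -/
def B : Mat 2 := ![![0, -1],
    ![1, 2]]

/-- the polynomial -/
def c : Fin 2 → ℤ := ![1, 1]

/-- the representatives of the orbits of `θ` on the roots -/
def R : Fin 4 → Fin 2 → ℤ := ![![3, 1],
    ![-3, -1],
    ![-2, -1],
    ![2, 1]]

/-- the values of the functional on the representatives -/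
def G : Fin 4 → Fin 2 → ℤ := ![![1, -1],
    ![-1, 1],
    ![-1, 0],
    ![1, 0]]

/-- predecessor -/
def prv (r : ℕ) : ℕ := Nat.mod (Nat.shiftRight 0x5000007020a010904000006 (8 * r)) 256

/-- depth -/
def dep (r : ℕ) : ℕ := Nat.mod (Nat.shiftRight 0x20000020101010102000002 (8 * r)) 256

theorem hA : ∀ i j, Am i j = cartanOf chevG2 2 i j := by decide +kernel

theorem chainOK : ChainOK Am chain := by decide +kernel

theorem hd_eq : hd chain = Th := rfl

theorem cycOK : CycOK 2 Th V B c := by decide +kernel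

theorem rootOK : RootOK chevG2 2 Th R prv dep := by decide +kernel

theorem coefOK : ∀ s i, ∑ j, R s j * B j i = G s i := by decide +kernel

theorem fN_eq (x : ℤ) : fN c x = 1 + x + x ^ 2 := by
  unfold fN c
  simp [Fin.sum_univ_succ]
  ring

theorem G_0 (x : ℤ) : Gq B x (R 0) = 1 - x := by
  rw [Gq_coef B x (R 0) (G 0) (coefOK 0)]
  unfold G
  simp [Fin.sum_univ_succ]
  try ring

theorem bez_0 (x : ℤ) : (1) * (1 + x + x ^ 2) + (2 + x) * (1 - x) = 3 := by
  ring

theorem G_1 (x : ℤ) : Gq B x (R 1) = -1 + x := by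
  rw [Gq_coef B x (R 1) (G 1) (coefOK 1)]
  unfold G
  simp [Fin.sum_univ_succ]
  try ring

theorem bez_1 (x : ℤ) : (1) * (1 + x + x ^ 2) + (-2 - x) * (-1 + x) = 3 := by
  ring

theorem G_2 (x : ℤ) : Gq B x (R 2) = -1 := by
  rw [Gq_coef B x (R 2) (G 2) (coefOK 2)]
  unfold G
  simp [Fin.sum_univ_succ]
  try ring

theorem bez_2 (x : ℤ) : (0) * (1 + x + x ^ 2) + (-1) * (-1) = 1 := by
  ring

theorem G_3 (x : ℤ) : Gq B x (R 3) = 1 := by
  rw [Gq_coef B x (R 3) (G 3) (coefOK 3)]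
  unfold G
  simp [Fin.sum_univ_succ]
  try ring

theorem bez_3 (x : ℤ) : (0) * (1 + x + x ^ 2) + (1) * (1) = 1 := by
  ring

/-- Common divisors of `f(x)` and the value of `Gq` on a representative. -/
theorem dvd_of_G {x r : ℤ} (h : r ∣ 1 + x + x ^ 2) (s : Fin 4) (hs : r ∣ Gq B x (R s)) :
    r ∣ 1 ∨ r ∣ 3 := by
  have key : ∀ {a b g y : ℤ}, a * (1 + x + x ^ 2) + b * g = y → r ∣ g → r ∣ y := fun e hg => by
    rw [← e]
    exact dvd_add (h.mul_left _) (hg.mul_left _)
  fin_cases s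
  · exact Or.inr (key (bez_0 x) (by rw [← G_0]; exact hs))
  · exact Or.inr (key (bez_1 x) (by rw [← G_1]; exact hs))
  · exact Or.inl (key (bez_2 x) (by rw [← G_2]; exact hs))
  · exact Or.inl (key (bez_3 x) (by rw [← G_3]; exact hs))

end Cfsg.Agent.H129.DataG2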