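import Cfsg.Agent.H129.TorusTw

/-!
# Self-centralising cyclic tori (helper129)

* `descent` : the abstract descent from `D.group k` to a group `G0` of fixed points of `σ`;
* `tau_iff` : the twisted torus in terms of characters;
* `exists_cyclic` : the general theorem.
-/

set_option autoImplicit false
set_option linter.unusedSectionVars false

namespace Cfsg.Agent.H129.TorusMain

open CoxeterSystem Cfsg Cfsg.Lie Cfsg.Lie.ChevalleyDatum
open Cfsg.Agent.ChevalleyStructure Cfsg.Agent.ChevalleyStructure.Elts Cfsg.Agent.ChevalleyStructure.CoxeterGeom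
  Cfsg.Agent.ChevalleyStructure.CoxeterGeomTypes Cfsg.Agent.ChevalleyStructure.NPerm
open Cfsg.Agent.Tits.Roots Cfsg.Agent.Tits.Core Cfsg.Agent.Nodes Cfsg.Agent.Nodes.Reps Cfsg.Agent.Nodes.BNOf
  Cfsg.Agent.Nodes.RGDChev Cfsg.Agent.Nodes.Bruhat Cfsg.Agent.Nodes.SubComb Cfsg.Agent.Nodes.Coroot
open Cfsg.Agent.KFacts.RgdField Cfsg.Agent.KFacts.RgdChevCoord Cfsg.Agent.BpExc.TorCent Cfsg.Agent.BpExc.TorChev
open Cfsg.Agent.GpExc.Field Cfsg.Agent.BpExc.Tow Cfsg.Agent.BpExc.TowChev Cfsg.Agent.BpExc.Fr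
  Cfsg.Agent.BpExc.LangFr Cfsg.Agent.LangThm Cfsg.Agent.BpExc Cfsg.Agent.H129.TorusChar Cfsg.Agent.H129.TorusCent
  Cfsg.Agent.H129.TorusTw

universe u

/-! ### descent -/

/-- **Descent.** `Y` a group with an automorphism `σ`, `T ≤ Y`, `n = z⁻¹ σ(z)`, `t ∈ T` of order `N` generating the
elements of `T` fixed by `s ↦ n σ(s) n⁻¹`; `t ^ d` has centraliser in `T`; `G0` a group embedded in `Y` fixed by `σ`. -/
theorem descent {G0 Y : Type*} [Group G0] [Group Y] {e0 : G0 →* Y} (he0 : Function.Injective e0) {σ : MulAut Y}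
    (hfix : ∀ x, σ (e0 x) = e0 x) {T : Subgroup Y} {n z t : Y} (hz : n = z⁻¹ * σ z)
    (hgen : ∀ s ∈ T, n * σ s * n⁻¹ = s → s ∈ Subgroup.zpowers t) {N d : ℕ} (htN : orderOf t = N) (hN : N ≠ 0)
    (hd : d ∣ N) (hS : ∀ s ∈ Subgroup.zpowers t, z * s * z⁻¹ ∈ e0.range ↔ s ∈ Subgroup.zpowers (t ^ d))
    (hcent : ∀ c, c * t ^ d = t ^ d * c → c ∈ T) :
    ∃ H : Subgroup G0, IsCyclic ↥H ∧ Nat.card ↥H = N / d ∧ Subgroup.centralizer (H : Set G0) = H := by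
  have htd : t ^ d ∈ Subgroup.zpowers t := Subgroup.npow_mem_zpowers t d
  obtain ⟨h0, hh0⟩ := (hS _ htd).2 (Subgroup.mem_zpowers _)
  have hord : orderOf h0 = N / d := by
    have h1 : orderOf (e0 h0) = orderOf h0 := orderOf_injective e0 he0 h0
    have h2 : orderOf (z * t ^ d * z⁻¹) = orderOf (t ^ d) := by
      have h3 : z * t ^ d * z⁻¹ = MulAut.conj z (t ^ d) := rfl
      rw [h3]
      exact orderOf_injective (MulAut.conj z).toMonoidHom (MulAut.conj z).injective (t ^ d)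
    rw [← h1, hh0, h2]
    have hd0 : d ≠ 0 := fun h => hN (by rw [h] at hd; exact Nat.eq_zero_of_zero_dvd hd)
    rw [orderOf_pow' t hd0, htN, Nat.gcd_eq_right hd]
  refine ⟨Subgroup.zpowers h0, inferInstance, by rw [Nat.card_zpowers, hord], ?_⟩
  apply le_antisymm
  · intro c hc
    have h1 : c * h0 = h0 * c := by
      have := Subgroup.mem_centralizer_iff.1 hc h0 (Subgroup.mem_zpowers h0)
      exact this.symm
    have h2 : (z⁻¹ * e0 c * z) * t ^ d = t ^ d * (z⁻¹ * e0 c * z) := by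
      have h3 : t ^ d = z⁻¹ * e0 h0 * z := by rw [hh0]; group
      rw [h3]
      calc z⁻¹ * e0 c * z * (z⁻¹ * e0 h0 * z) = z⁻¹ * (e0 c * e0 h0) * z := by group
        _ = z⁻¹ * (e0 h0 * e0 c) * z := by rw [← map_mul, h1, map_mul]
        _ = _ := by group
    have h3 := hcent _ h2
    have h4 : n * σ (z⁻¹ * e0 c * z) * n⁻¹ = z⁻¹ * e0 c * z := by
      rw [map_mul, map_mul, map_inv, hfix, hz]
      group
    have h5 := hgen _ h3 h4
    have h6 : z * (z⁻¹ * e0 c * z) * z⁻¹ = e0 c := by group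
    obtain ⟨m, hm⟩ := (hS _ h5).1 (by rw [h6]; exact ⟨c, rfl⟩)
    refine ⟨m, he0 ?_⟩
    show e0 (h0 ^ m) = e0 c
    rw [map_zpow, hh0]
    have h7 : (t ^ d) ^ m = z⁻¹ * e0 c * z := hm
    calc (z * t ^ d * z⁻¹) ^ m = z * (t ^ d) ^ m * z⁻¹ := conj_zpow
      _ = e0 c := by rw [h7]; group
  · intro c hc
    rw [Subgroup.mem_centralizer_iff]
    intro b hb
    obtain ⟨i, rfl⟩ := hc
    obtain ⟨j, rfl⟩ := hb
    show h0 ^ j * h0 ^ i = h0 ^ i * h0 ^ j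
    rw [← zpow_add, ← zpow_add, add_comm]

/-- The hypothesis `hS` of `descent` for `d` prime. -/
theorem hS_of_prime {G0 Y : Type*} [Group G0] [Group Y] {e0 : G0 →* Y} {z t : Y} {d : ℕ} (hd : d.Prime)
    (h1 : z * t ^ d * z⁻¹ ∈ e0.range) (h2 : z * t * z⁻¹ ∉ e0.range) {s : Y} (hs : s ∈ Subgroup.zpowers t) :
    z * s * z⁻¹ ∈ e0.range ↔ s ∈ Subgroup.zpowers (t ^ d) := by
  obtain ⟨m, rfl⟩ := hs
  constructor
  · intro h3
    simp only at h3 ⊢
    by_cases hm : (d : ℤ) ∣ m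
    · obtain ⟨j, rfl⟩ := hm
      rw [zpow_mul, zpow_natCast]
      exact Subgroup.zpow_mem_zpowers _ _
    · exfalso
      apply h2
      have hco : IsCoprime (d : ℤ) m := (Nat.prime_iff_prime_int.1 hd).coprime_iff_not_dvd.2 hm
      obtain ⟨a, b, hab⟩ := hco
      have h4 : z * t * z⁻¹ = (z * t ^ d * z⁻¹) ^ a * (z * t ^ m * z⁻¹) ^ b := by
        rw [conj_zpow, conj_zpow]
        have h5 : t = (t ^ d) ^ a * (t ^ m) ^ b := by
          rw [← zpow_natCast, ← zpow_mul, ← zpow_mul, ← zpow_add]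
          have e : (d : ℤ) * a + m * b = 1 := by rw [← hab]; ring
          rw [e, zpow_one]
        conv_lhs => rw [h5]
        group
      rw [h4]
      exact mul_mem (zpow_mem h1 a) (zpow_mem h3 b)
  · rintro ⟨j, hj⟩
    simp only at hj ⊢
    rw [← hj]
    have h4 : z * (t ^ d) ^ j * z⁻¹ = (z * t ^ d * z⁻¹) ^ j := conj_zpow.symm
    rw [h4]
    exact zpow_mem h1 j

/-! ### the twisted torus -/

section Tau

variable {D : ChevalleyDatum} {l : ℕ} {M : CoxeterMatrix (Fin l)} (hp : IsType D l M) {k : Type u} [Field k]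
  {W : Type*} [Group W] (cs : CoxeterSystem M W) {p e : ℕ} [Fact p.Prime] [CharP k p] {σ : MulAut ↥(D.group k)}
  {g : (Fin l → ℤ) ≃+ (Fin l → ℤ)}

/-- the lattice endomorphism `w g` -/
def theta (w : W) (g : (Fin l → ℤ) ≃+ (Fin l → ℤ)) : (Fin l → ℤ) →+ (Fin l → ℤ) :=
  (rep cs hp.isCartan w).toAddMonoidHom.comp g.toAddMonoidHom

theorem theta_apply (w : W) (g : (Fin l → ℤ) ≃+ (Fin l → ℤ)) (x : Fin l → ℤ) :
    theta hp cs w g x = rep cs hp.isCartan w (g x) := rfl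

theorem tau_iff [IsAlgClosed k] (hk : LocFin k) {hN : NSys M (TT D k) (nc hp k)} (hσ : IsFrob p e σ)
    (F : Fr cs hp.isCartan (TT D k) (XX D l k) σ g) {w : W} {n : ↥(D.group k)} (hn : Rp cs hN w n)
    {t : ↥(D.group k)} (ht : t ∈ TT D k) :
    n * σ t * n⁻¹ = t ↔ ∀ x, cX hp t (theta hp cs w g x) = cX hp t x ^ p ^ e := by
  have hσt : σ t ∈ TT D k := (F.tor t).2 ht
  have hnt : n * σ t * n⁻¹ ∈ TT D k := (Subgroup.mem_normalizer_iff.1 hn.mem_normalizer (σ t)).1 hσt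
  have key : ∀ x, cX hp (n * σ t * n⁻¹) (theta hp cs w g x) = cX hp t x ^ p ^ e := fun x => by
    rw [theta_apply, cX_rp hp cs hk p hn hσt, cX_sigma hp cs hσ F ht]
  constructor
  · intro h x
    rw [← key x, h]
  · intro h
    refine cX_inj hp hnt ht fun i => ?_
    have h1 : sr i = theta hp cs w g (g.symm (rep cs hp.isCartan w⁻¹ (sr i))) := by
      rw [theta_apply, AddEquiv.apply_symm_apply, rep_apply_inv]
    rw [h1, key, h]

/-- **The general theorem.** -/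
theorem exists_cyclic [IsAlgClosed k] [Finite W] (hl : 0 < l) (hk : LocFin k) {hN : NSys M (TT D k) (nc hp k)}
    (he : 0 < e) (hσ : IsFrob p e σ) (F : Fr cs hp.isCartan (TT D k) (XX D l k) σ g) {d' : ℕ}
    {B' : Fin l → Fin l → ℤ} (hB : InvC D l d' B') (hd' : d' ≠ 0) (w : W) {V B : Fin l → Fin l → ℤ} {c : Fin l → ℤ}
    (h : Cyc l (theta hp cs w g) V B c) {N d r : ℕ} (hfN : fN c ((p ^ e : ℕ) : ℤ) = N) (hpN : ¬ p ∣ N)
    {G0 : Type*} [Group G0] {e0 : G0 →* ↥(D.group k)} (he0 : Function.Injective e0) (hfix : ∀ x, σ (e0 x) = e0 x)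
    (hr : r.Prime) (hrW : ¬ r ∣ Nat.card W) (hdr : d * r ∣ N)
    (hC : ∀ a, IsRoot cs hp.isCartan a → (r : ℤ) ∣ Gq B ((p ^ e : ℕ) : ℤ) a →
      ¬ (N : ℤ) ∣ 2 * d * Gq B ((p ^ e : ℕ) : ℤ) a)
    (hO : Orth hp cs {a | IsRoot cs hp.isCartan a ∧ (r : ℤ) ∣ Gq B ((p ^ e : ℕ) : ℤ) a})
    (hS : ∀ (n z t : ↥(D.group k)) (u : k), Rp cs hN w n → n = z⁻¹ * σ z → t ∈ TT D k → n * σ t * n⁻¹ = t →
      IsPrimitiveRoot u N → (∀ x, cX hp t x = u ^ Gq B ((p ^ e : ℕ) : ℤ) x) →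
      ∀ s ∈ Subgroup.zpowers t, z * s * z⁻¹ ∈ e0.range ↔ s ∈ Subgroup.zpowers (t ^ d)) :
    ∃ H : Subgroup G0, IsCyclic ↥H ∧ Nat.card ↥H = N / d ∧ Subgroup.centralizer (H : Set G0) = H := by
  have hN0 : N ≠ 0 := fun h0 => hpN (by rw [h0]; exact dvd_zero p)
  have hd0 : d ≠ 0 := by
    rintro rfl
    rw [zero_mul] at hdr
    exact hN0 (Nat.eq_zero_of_zero_dvd hdr)
  have hNk : (N : k) ≠ 0 := by
    rw [Ne, CharP.cast_eq_zero_iff k p]
    exact hpN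
  obtain ⟨n, hn⟩ := exists_rp cs hN w
  obtain ⟨z, hz⟩ := lang_all hp cs he hσ F 1 n
  rw [map_one, one_mul] at hz
  obtain ⟨t, ht, hθ, htN, ⟨u, hu, hcX⟩, hgen⟩ := exists_gen hp h hl hB hd' (q := p ^ e) hfN hNk
  have hτ : n * σ t * n⁻¹ = t := (tau_iff hp cs hk hσ F hn ht).2 hθ
  refine descent he0 hfix hz (t := t) (T := TT D k) (fun s hs hs' => hgen s hs ((tau_iff hp cs hk hσ F hn hs).1 hs'))
    htN hN0 ((Dvd.intro r rfl).trans hdr) (hS n z t u hn hz ht hτ hu hcX) ?_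
  -- the centraliser
  obtain ⟨m, hm⟩ := hdr
  have hr0 : r ≠ 0 := hr.ne_zero
  have hm0 : m ≠ 0 := by rintro rfl; rw [mul_zero] at hm; exact hN0 hm
  have htd : t ^ d ∈ TT D k := pow_mem ht d
  have hval : ∀ x, cX hp (t ^ d) x = u ^ (d * Gq B ((p ^ e : ℕ) : ℤ) x) := fun x => by
    rw [cX_pow hp ht, hcX, ← zpow_natCast, ← zpow_mul, mul_comm]
  have hone : ∀ z : ℤ, u ^ z = 1 ↔ (N : ℤ) ∣ z := fun z => hu.zpow_eq_one_iff_dvd z
  have hm1 : ∀ x, cX hp (t ^ d) x ^ m = 1 ↔ (r : ℤ) ∣ Gq B ((p ^ e : ℕ) : ℤ) x := by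
    intro x
    rw [hval, ← zpow_natCast, ← zpow_mul, hone, hm]
    have e1 : (((d * r * m : ℕ)) : ℤ) = (d * m) * r := by push_cast; ring
    have e2 : (d : ℤ) * Gq B ((p ^ e : ℕ) : ℤ) x * m = (d * m) * Gq B ((p ^ e : ℕ) : ℤ) x := by ring
    rw [e1, e2]
    exact mul_dvd_mul_iff_left (mul_ne_zero (Nat.cast_ne_zero.2 hd0) (Nat.cast_ne_zero.2 hm0))
  have h2 : ∀ a, IsRoot cs hp.isCartan a → cX hp (t ^ d) a ^ m = 1 → cX hp (t ^ d) a ^ 2 ≠ 1 := by
    intro a ha h3 h4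
    rw [hm1] at h3
    rw [hval, ← zpow_natCast, ← zpow_mul, hone] at h4
    refine hC a ha h3 ?_
    have e : (d : ℤ) * Gq B ((p ^ e : ℕ) : ℤ) a * ((2 : ℕ) : ℤ) = 2 * d * Gq B ((p ^ e : ℕ) : ℤ) a := by
      push_cast; ring
    rwa [e] at h4
  refine fun c hc => mem_TT_of_comm hp cs htd hk p ?_ ?_ hc
  · intro a ha h3
    exact h2 a ha (by rw [h3, one_pow]) (by rw [h3, one_pow])
  · intro w' hw'
    refine stab_eq_one hp cs htd hk p hr hrW (m := m) ?_ h2 ?_ hw'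
    · intro a _
      rw [hval, ← zpow_natCast, ← zpow_mul, hone, hm]
      refine ⟨Gq B ((p ^ e : ℕ) : ℤ) a, ?_⟩
      push_cast
      ring
    · have e : {a | IsRoot cs hp.isCartan a ∧ cX hp (t ^ d) a ^ m = 1} =
          {a | IsRoot cs hp.isCartan a ∧ (r : ℤ) ∣ Gq B ((p ^ e : ℕ) : ℤ) a} := by
        ext a
        exact and_congr_right fun _ => hm1 a
      rw [e]
      exact hO

end Tau

end Cfsg.Agent.H129.TorusMain
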