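import Cfsg.Agent.H129.WData

/-!
# Data of a torus of type E8 (helper129)
-/

set_option autoImplicit false

namespace Cfsg.Agent.H129.DataE8

open Cfsg.Agent.H129.TorusTw Cfsg.Agent.H129.WData Cfsg.Agent.ChevalleyStructure.CoxeterGeomTypes
open Cfsg.Lie Cfsg.Lie.ChevalleyDatum

/-- the Cartan matrix -/
def Am : Mat 8 := ![![2, 0, -1, 0, 0, 0, 0, 0],
    ![0, 2, 0, -1, 0, 0, 0, 0],
    ![-1, 0, 2, -1, 0, 0, 0, 0],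
    ![0, -1, -1, 2, -1, 0, 0, 0],
    ![0, 0, 0, -1, 2, -1, 0, 0],
    ![0, 0, 0, 0, -1, 2, -1, 0],
    ![0, 0, 0, 0, 0, -1, 2, -1],
    ![0, 0, 0, 0, 0, 0, -1, 2]]

/-- the partial products -/
def chain : List (Fin 8 × Mat 8) := [
    (5, ![![0, 0, 1, 1, 0, 0, 0, 0],
      ![0, -1, 0, -1, 0, 0, 0, 0],
      ![-1, 0, -1, -1, 0, 0, 0, 0],
      ![1, 1, 1, 2, 1, 1, 0, 0],
      ![0, 0, 0, -1, -1, -1, 0, 0],
      ![0, 0, 0, 1, 1, 1, 1, 1],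
      ![0, 0, 0, 0, 0, -1, -1, -1],
      ![0, 0, 0, 0, 0, 1, 1, 0]]),
    (3, ![![0, 0, 1, 1, 0, 0, 0, 0],
      ![0, -1, 0, -1, 0, 0, 0, 0],
      ![-1, 0, -1, -1, 0, 0, 0, 0],
      ![1, 1, 1, 2, 1, 0, 0, 0],
      ![0, 0, 0, -1, -1, 0, 0, 0],
      ![0, 0, 0, 1, 1, 1, 1, 1],
      ![0, 0, 0, 0, 0, 0, -1, -1],
      ![0, 0, 0, 0, 0, 0, 1, 0]]),
    (4, ![![0, 0, 1, 0, 0, 0, 0, 0],
      ![0, -1, 0, 0, 0, 0, 0, 0],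
      ![-1, 0, -1, 0, 0, 0, 0, 0],
      ![1, 1, 1, 1, 1, 0, 0, 0],
      ![0, 0, 0, 0, -1, 0, 0, 0],
      ![0, 0, 0, 0, 1, 1, 1, 1],
      ![0, 0, 0, 0, 0, 0, -1, -1],
      ![0, 0, 0, 0, 0, 0, 1, 0]]),
    (7, ![![0, 0, 1, 0, 0, 0, 0, 0],
      ![0, -1, 0, 0, 0, 0, 0, 0],
      ![-1, 0, -1, 0, 0, 0, 0, 0],
      ![1, 1, 1, 1, 0, 0, 0, 0],
      ![0, 0, 0, 0, 1, 0, 0, 0],
      ![0, 0, 0, 0, 0, 1, 1, 1],
      ![0, 0, 0, 0, 0, 0, -1, -1],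
      ![0, 0, 0, 0, 0, 0, 1, 0]]),
    (0, ![![0, 0, 1, 0, 0, 0, 0, 0],
      ![0, -1, 0, 0, 0, 0, 0, 0],
      ![-1, 0, -1, 0, 0, 0, 0, 0],
      ![1, 1, 1, 1, 0, 0, 0, 0],
      ![0, 0, 0, 0, 1, 0, 0, 0],
      ![0, 0, 0, 0, 0, 1, 1, 0],
      ![0, 0, 0, 0, 0, 0, -1, 0],
      ![0, 0, 0, 0, 0, 0, 1, 1]]),
    (6, ![![1, 0, 1, 0, 0, 0, 0, 0],
      ![0, -1, 0, 0, 0, 0, 0, 0],
      ![0, 0, -1, 0, 0, 0, 0, 0],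
      ![0, 1, 1, 1, 0, 0, 0, 0],
      ![0, 0, 0, 0, 1, 0, 0, 0],
      ![0, 0, 0, 0, 0, 1, 1, 0],
      ![0, 0, 0, 0, 0, 0, -1, 0],
      ![0, 0, 0, 0, 0, 0, 1, 1]]),
    (1, ![![1, 0, 1, 0, 0, 0, 0, 0],
      ![0, -1, 0, 0, 0, 0, 0, 0],
      ![0, 0, -1, 0, 0, 0, 0, 0],
      ![0, 1, 1, 1, 0, 0, 0, 0],
      ![0, 0, 0, 0, 1, 0, 0, 0],
      ![0, 0, 0, 0, 0, 1, 0, 0],
      ![0, 0, 0, 0, 0, 0, 1, 0],
      ![0, 0, 0, 0, 0, 0, 0, 1]]),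
    (2, ![![1, 0, 1, 0, 0, 0, 0, 0],
      ![0, 1, 0, 0, 0, 0, 0, 0],
      ![0, 0, -1, 0, 0, 0, 0, 0],
      ![0, 0, 1, 1, 0, 0, 0, 0],
      ![0, 0, 0, 0, 1, 0, 0, 0],
      ![0, 0, 0, 0, 0, 1, 0, 0],
      ![0, 0, 0, 0, 0, 0, 1, 0],
      ![0, 0, 0, 0, 0, 0, 0, 1]])]

/-- the matrix of `θ` -/
def Th : Mat 8 := ![![0, 0, 1, 1, 0, 0, 0, 0],
    ![0, -1, 0, -1, 0, 0, 0, 0],
    ![-1, 0, -1, -1, 0, 0, 0, 0],
    ![1, 1, 1, 2, 1, 1, 0, 0],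
    ![0, 0, 0, -1, -1, -1, 0, 0],
    ![0, 0, 0, 1, 1, 1, 1, 1],
    ![0, 0, 0, 0, 0, -1, -1, -1],
    ![0, 0, 0, 0, 0, 1, 1, 0]]

/-- the basis -/
def V : Mat 8 := ![![1, 1, 2, 2, 2, 1, 1, 0],
    ![0, 1, 1, 1, 1, 0, 0, 0],
    ![0, 0, 0, -1, 0, 0, 0, 0],
    ![-1, -1, -1, -2, -1, -1, 0, 0],
    ![-1, -1, -2, -3, -2, -2, -1, -1],
    ![-1, -2, -2, -4, -3, -3, -2, -1],
    ![-2, -2, -3, -5, -4, -3, -2, -1],
    ![-2, -3, -4, -6, -4, -3, -2, -1]]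

/-- the coordinates -/
def B : Mat 8 := ![![-1, -1, 1, 0, 1, 1, -1, -1],
    ![-1, 0, 1, 0, 1, 0, 0, -1],
    ![1, 0, 0, 0, -1, 0, 1, 0],
    ![0, 0, -1, 0, 0, 0, 0, 0],
    ![0, 1, 0, 0, 0, 0, -1, 1],
    ![1, 0, 0, -1, -1, -1, 1, 1],
    ![0, -1, 0, 1, 1, 0, 0, -1],
    ![-2, 0, 1, 1, 0, 1, -1, -1]]

/-- the polynomial -/
def c : Fin 8 → ℤ := ![1, 1, 0, -1, -1, -1, 0, 1]

/-- the representatives of the orbits of `θ` on the roots -/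
def R : Fin 8 → Fin 8 → ℤ := ![![-1, -1, -2, -2, -2, -1, -1, 0],
    ![-2, -2, -4, -5, -4, -3, -2, -1],
    ![0, 0, -1, 0, 0, 0, 0, 0],
    ![-2, -2, -3, -4, -3, -2, -1, 0],
    ![0, 1, 0, 1, 0, 0, 0, 0],
    ![-1, -2, -2, -3, -2, -1, 0, 0],
    ![-1, -1, -2, -2, -1, -1, -1, 0],
    ![-1, -1, -1, -1, -1, -1, 0, 0]]

/-- the values of the functional on the representatives -/
def G : Fin 8 → Fin 8 → ℤ := ![![-1, 0, 0, 0, 0, 0, 0, 0],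
    ![-1, 0, 0, 0, 1, 0, 0, 0],
    ![-1, 0, 0, 0, 1, 0, -1, 0],
    ![-1, 0, 0, 1, 0, 0, 0, 0],
    ![-1, 0, 0, 0, 1, 0, 0, -1],
    ![0, -1, 0, 1, 0, 0, 0, 0],
    ![-1, 1, 0, 0, 0, 0, -1, 1],
    ![0, 0, -1, 1, 0, 0, 0, 0]]

/-- predecessor -/
def prv (r : ℕ) : ℕ := Nat.mod (Nat.shiftRight 0xedefebeee7ece0e9d9e1d7dad6d8e8e5eae3e6e2e4dec6cbc5c7dcdfdbddc9c2c4c8cac3d0d5cfd1b6afb1b5b7b0d3ccced2d4cdb2b4aeb3a0999b9fa19a848682859c9e989d8390928e91688f4cc0b9bbbfc1baa6a8a4a7bcbeb8bda58a8c888b0089abada9aca2aa7b7d717c5b9597939676786f7f81757a6e70807779595c585a94737e7274004d43464244668d646763654a32373133484b4749352e3034362fa360875e615d5f6c520051536a6d696b554e5054564f3c41003d22001d21231c3f383a3e40391e201a1f0025272b2d2612141013282a2429110b0d090c050a07001915180e16000f030801040002 (8 * r)) 256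

/-- depth -/
def dep (r : ℕ) : ℕ := Nat.mod (Nat.shiftRight 0x90a080b070c0e0f06110c09060f100d0d0712100a08050e0b05110e0b13070c0509130f0d12060804040a040e0b0c100a140f140c0f0b130d03030e120b090a030a110c0f0e0a090d0112011406110c0d0b0d10020a020e15151410130c110813000e10120b0d070f09090809021516141608080815160716070617171707050706111817181800161c1a03011d0f0417021b04010506061d111911011c1a1c1b0215051003101c18191d001b02191219181a031d12121c041a001b05000519011b1a1d131913131715031c000418141b16041a1d02141a1d1417190103161c1c010015181b0215001d1b161a171918 (8 * r)) 256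

theorem hA : ∀ i j, Am i j = cartanOf chevE8 8 i j := by decide +kernel

theorem chainOK : ChainOK Am chain := by decide +kernel

theorem hd_eq : hd chain = Th := rfl

theorem cycOK : CycOK 8 Th V B c := by decide +kernel

theorem rootOK : RootOK chevE8 8 Th R prv dep := by decide +kernel

theorem coefOK : ∀ s i, ∑ j, R s j * B j i = G s i := by decide +kernel

theorem fN_eq (x : ℤ) : fN c x = 1 + x - x ^ 3 - x ^ 4 - x ^ 5 + x ^ 7 + x ^ 8 := by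
  unfold fN c
  simp [Fin.sum_univ_succ]
  ring

theorem G_0 (x : ℤ) : Gq B x (R 0) = -1 := by
  rw [Gq_coef B x (R 0) (G 0) (coefOK 0)]
  unfold G
  simp [Fin.sum_univ_succ]
  try ring

theorem bez_0 (x : ℤ) : (0) * (1 + x - x ^ 3 - x ^ 4 - x ^ 5 + x ^ 7 + x ^ 8) + (-1) * (-1) = 1 := by
  ring

theorem G_1 (x : ℤ) : Gq B x (R 1) = -1 + x ^ 4 := by
  rw [Gq_coef B x (R 1) (G 1) (coefOK 1)]
  unfold G
  simp [Fin.sum_univ_succ]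
  try ring

theorem bez_1 (x : ℤ) : (1) * (1 + x - x ^ 3 - x ^ 4 - x ^ 5 + x ^ 7 + x ^ 8) + (x - x ^ 3 - x ^ 4) * (-1 + x ^ 4) = 1 := by
  ring

theorem G_2 (x : ℤ) : Gq B x (R 2) = -1 + x ^ 4 - x ^ 6 := by
  rw [Gq_coef B x (R 2) (G 2) (coefOK 2)]
  unfold G
  simp [Fin.sum_univ_succ]
  try ring

theorem bez_2 (x : ℤ) : (-x ^ 2 + x ^ 3) * (1 + x - x ^ 3 - x ^ 4 - x ^ 5 + x ^ 7 + x ^ 8) + (-1 - x ^ 2 + x ^ 5) * (-1 + x ^ 4 - x ^ 6) = 1 := by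
  ring

theorem G_3 (x : ℤ) : Gq B x (R 3) = -1 + x ^ 3 := by
  rw [Gq_coef B x (R 3) (G 3) (coefOK 3)]
  unfold G
  simp [Fin.sum_univ_succ]
  try ring

theorem bez_3 (x : ℤ) : (x ^ 2) * (1 + x - x ^ 3 - x ^ 4 - x ^ 5 + x ^ 7 + x ^ 8) + (-1 + x ^ 2 - x ^ 6 - x ^ 7) * (-1 + x ^ 3) = 1 := by
  ring

theorem G_4 (x : ℤ) : Gq B x (R 4) = -1 + x ^ 4 - x ^ 7 := by
  rw [Gq_coef B x (R 4) (G 4) (coefOK 4)]
  unfold G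
  simp [Fin.sum_univ_succ]
  try ring

theorem bez_4 (x : ℤ) : (-x + x ^ 4) * (1 + x - x ^ 3 - x ^ 4 - x ^ 5 + x ^ 7 + x ^ 8) + (-1 - x - x ^ 2 + x ^ 4 + x ^ 5) * (-1 + x ^ 4 - x ^ 7) = 1 := by
  ring

theorem G_5 (x : ℤ) : Gq B x (R 5) = -x + x ^ 3 := by
  rw [Gq_coef B x (R 5) (G 5) (coefOK 5)]
  unfold G
  simp [Fin.sum_univ_succ]
  try ring

theorem bez_5 (x : ℤ) : (1) * (1 + x - x ^ 3 - x ^ 4 - x ^ 5 + x ^ 7 + x ^ 8) + (1 - x ^ 3 - x ^ 4 - x ^ 5) * (-x + x ^ 3) = 1 := by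
  ring

theorem G_6 (x : ℤ) : Gq B x (R 6) = -1 + x - x ^ 6 + x ^ 7 := by
  rw [Gq_coef B x (R 6) (G 6) (coefOK 6)]
  unfold G
  simp [Fin.sum_univ_succ]
  try ring

theorem bez_6 (x : ℤ) : (1 - x + x ^ 2 - x ^ 3 + x ^ 4) * (1 + x - x ^ 3 - x ^ 4 - x ^ 5 + x ^ 7 + x ^ 8) + (-x ^ 3 - x ^ 4 - x ^ 5) * (-1 + x - x ^ 6 + x ^ 7) = 1 := by
  ring

theorem G_7 (x : ℤ) : Gq B x (R 7) = -x ^ 2 + x ^ 3 := by
  rw [Gq_coef B x (R 7) (G 7) (coefOK 7)]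
  unfold G
  simp [Fin.sum_univ_succ]
  try ring

theorem bez_7 (x : ℤ) : (1 - x + x ^ 2) * (1 + x - x ^ 3 - x ^ 4 - x ^ 5 + x ^ 7 + x ^ 8) + (-x ^ 3 - x ^ 4 - x ^ 5 - x ^ 6 - x ^ 7) * (-x ^ 2 + x ^ 3) = 1 := by
  ring

/-- Common divisors of `f(x)` and the value of `Gq` on a representative. -/
theorem dvd_of_G {x r : ℤ} (h : r ∣ 1 + x - x ^ 3 - x ^ 4 - x ^ 5 + x ^ 7 + x ^ 8) (s : Fin 8) (hs : r ∣ Gq B x (R s)) :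
    r ∣ 1 := by
  have key : ∀ {a b g y : ℤ}, a * (1 + x - x ^ 3 - x ^ 4 - x ^ 5 + x ^ 7 + x ^ 8) + b * g = y → r ∣ g → r ∣ y := fun e hg => by
    rw [← e]
    exact dvd_add (h.mul_left _) (hg.mul_left _)
  fin_cases s
  · exact key (bez_0 x) (by rw [← G_0]; exact hs)
  · exact key (bez_1 x) (by rw [← G_1]; exact hs)
  · exact key (bez_2 x) (by rw [← G_2]; exact hs)
  · exact key (bez_3 x) (by rw [← G_3]; exact hs)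
  · exact key (bez_4 x) (by rw [← G_4]; exact hs)
  · exact key (bez_5 x) (by rw [← G_5]; exact hs)
  · exact key (bez_6 x) (by rw [← G_6]; exact hs)
  · exact key (bez_7 x) (by rw [← G_7]; exact hs)

end Cfsg.Agent.H129.DataE8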