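import Cfsg.Agent.H129.StabGen
import Cfsg.Agent.H129.TorusUntw
import Cfsg.Agent.BpExc.EmbInst
import Cfsg.Agent.ChevalleyStructure.D4H1

/-!
# The twisted Frobenius automorphism of `D₄` over an algebraically closed field (helper129)

* `gam k : MulAut (chevD4.group k)` : the triality; `tau k p e = gam k * phi chevD4 k p e`;
* `isFrob_tau`, `fr_tau` : a frame automorphism with lattice automorphism `tri`;
* `tau_range` : the fixed points of `tau` are the elements of `³D₄(q)`.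
-/

set_option autoImplicit false
set_option linter.unusedSectionVars false

namespace Cfsg.Agent.H129.TriD4

open CoxeterSystem Cfsg Cfsg.Lie Cfsg.Lie.ChevalleyDatum
open Cfsg.Agent.ChevalleyStructure Cfsg.Agent.ChevalleyStructure.Elts Cfsg.Agent.ChevalleyStructure.CoxeterGeom
  Cfsg.Agent.ChevalleyStructure.CoxeterGeomTypes Cfsg.Agent.ChevalleyStructure.NPerm
open Cfsg.Agent.Tits.Roots Cfsg.Agent.Tits.Core Cfsg.Agent.Nodes Cfsg.Agent.Nodes.Reps Cfsg.Agent.Nodes.BNOf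
  Cfsg.Agent.Nodes.RGDChev Cfsg.Agent.Nodes.Bruhat Cfsg.Agent.Nodes.SubComb Cfsg.Agent.Nodes.Coroot
open Cfsg.Agent.KFacts.RgdField Cfsg.Agent.KFacts.RgdChevCoord Cfsg.Agent.BpExc.TorCent Cfsg.Agent.BpExc.TorChev
open Cfsg.Agent.GpExc.Field Cfsg.Agent.BpExc.Tow Cfsg.Agent.BpExc.TowChev Cfsg.Agent.BpExc.Fr
  Cfsg.Agent.BpExc.LangFr Cfsg.Agent.LangThm Cfsg.Agent.BpExc Cfsg.Agent.H129.TorusChar Cfsg.Agent.H129.TorusCent
  Cfsg.Agent.H129.TorusTw Cfsg.Agent.H129.TorusMain Cfsg.Agent.ChevStructure.FieldMap Cfsg.Agent.BpExc.EmbInst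
  Cfsg.Agent.H129.TorusUntw
open Cfsg.Agent.ChevalleyStructure.D4Fixed (sig)
open Cfsg.Agent.ChevalleyStructure.GraphSymm (symmD4a)

universe u

section Gam

variable {k : Type u} [Field k]

theorem sig_mem {φ : k →+* k} {g : GL chevD4.Idx k} (hg : g ∈ chevD4.group k) : sig φ g ∈ chevD4.group k := by
  have h1 : chevD4.group k ≤ (chevD4.group k).comap (sig φ) := by
    rw [group_le_iff RGDTwD4.hp.inList]
    intro r hr t
    obtain ⟨s, -, -, -, ε, -, h2, -⟩ := stdD φ r hr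
    rw [Subgroup.mem_comap, h2]
    exact xG_mem_group RGDTwD4.hp.inList _ _
  exact h1 hg

theorem sig_one_cube {g : GL chevD4.Idx k} (hg : g ∈ chevD4.group k) :
    sig (RingHom.id k) (sig (RingHom.id k) (sig (RingHom.id k) g)) = g := by
  have h1 : chevD4.group k ≤ MonoidHom.eqLocus
      ((sig (RingHom.id k)).comp ((sig (RingHom.id k)).comp (sig (RingHom.id k)))) (MonoidHom.id _) := by
    rw [group_le_iff RGDTwD4.hp.inList]
    intro r hr t
    exact sig_cube (RingHom.id k) r hr t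
  exact h1 hg

/-- the triality -/
noncomputable def gam (k : Type u) [Field k] : MulAut ↥(chevD4.group k) where
  toFun g := ⟨sig (RingHom.id k) g, sig_mem g.2⟩
  invFun g := ⟨sig (RingHom.id k) (sig (RingHom.id k) g), sig_mem (sig_mem g.2)⟩
  left_inv g := Subtype.ext (sig_one_cube g.2)
  right_inv g := Subtype.ext (sig_one_cube g.2)
  map_mul' _ _ := Subtype.ext (map_mul (sig (RingHom.id k)) _ _)

theorem coe_gam (g : ↥(chevD4.group k)) : ((gam k g : ↥(chevD4.group k)) : GL chevD4.Idx k) = sig (RingHom.id k) g :=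
  rfl

theorem coe_gam_inv (g : ↥(chevD4.group k)) :
    (((gam k)⁻¹ g : ↥(chevD4.group k)) : GL chevD4.Idx k) = sig (RingHom.id k) (sig (RingHom.id k) g) := rfl

/-- the lattice automorphism -/
def tri : (Fin 4 → ℤ) ≃+ (Fin 4 → ℤ) where
  toFun x := ![x 3, x 1, x 0, x 2]
  invFun x := ![x 2, x 1, x 3, x 0]
  left_inv x := by funext i; fin_cases i <;> rfl
  right_inv x := by funext i; fin_cases i <;> rfl
  map_add' x y := by funext i; fin_cases i <;> rfl

theorem tri_apply (x : Fin 4 → ℤ) : tri x = ![x 3, x 1, x 0, x 2] := rfl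

theorem vec_rh : ∀ (r : Fin 24) (i : Fin 4), vec chevD4 4 (rh r).val i = tri (vec chevD4 4 r.val) i := by
  decide +kernel

theorem tri_vec (r : Fin 24) : tri (vec chevD4 4 r.val) = vec chevD4 4 (rh r).val :=
  (funext fun i => vec_rh r i).symm

theorem tri_sr : ∀ (j i : Fin 4), tri (sr j) i = (sr ((![2, 1, 3, 0] : Fin 4 → Fin 4) j) : Fin 4 → ℤ) i := by
  decide +kernel

variable {W : Type*} [Group W] (cs : CoxeterSystem coxeterD4 W)

theorem isRoot_tri (x : Fin 4 → ℤ) (hx : IsRoot cs RGDTwD4.hp.isCartan x) :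
    IsRoot cs RGDTwD4.hp.isCartan (tri x) := by
  obtain ⟨r, hr, rfl⟩ := (isRoot_iff RGDTwD4.hp cs x).1 hx
  have hr' : r < 24 := hr
  rw [tri_vec ⟨r, hr'⟩]
  exact (isRoot_iff RGDTwD4.hp cs _).2 ⟨_, (rh ⟨r, hr'⟩).2, rfl⟩

theorem sig_diag {φ : k →+* k} {g : GL chevD4.Idx k} (hg : g ∈ chevD4.diagonalSubgroup k) :
    sig φ g ∈ chevD4.diagonalSubgroup k := by
  have hD := RGDTwD4.hp.inList
  have h1 : chevD4.diagonalSubgroup k ≤ (chevD4.diagonalSubgroup k).comap (sig φ) := by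
    rw [diagonal_le_iff hD]
    intro r hr t ht
    obtain ⟨s, hs, -, -, ε, hε, h2, h3⟩ := stdD φ r hr
    have key : ∀ c, sig φ (nG hD r c) = nG hD s (ε * φ c) := fun c => by
      rw [nG_def, nG_def, map_mul, map_mul, h2, h3, map_neg, map_inv₀, mul_inv, mul_neg]
    have e1 : hG hD s (ε * φ t) * (hG hD s (-(ε * φ (-1))))⁻¹ ∈ chevD4.diagonalSubgroup k :=
      mul_mem (hG_mem_diagonal hD hs (mul_ne_zero hε ((map_ne_zero φ).2 ht)))
        (inv_mem (hG_mem_diagonal hD hs (by rw [map_neg, map_one]; simpa using hε)))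
    have e2 : sig φ (hG hD r t) = hG hD s (ε * φ t) * (hG hD s (-(ε * φ (-1))))⁻¹ := by
      rw [hG_def, hG_def, hG_def, map_mul, key, key]
      have e3 : nG hD s (-(ε * φ (-1))) = (nG hD s (ε * φ (-1)))⁻¹ := by
        rw [nG_def, nG_def, mul_inv_rev, mul_inv_rev, xG_inv, xG_inv, ← mul_assoc, inv_neg, neg_neg]
      rw [e3]
      group
    rw [Subgroup.mem_comap, e2]
    exact e1
  exact h1 hg

theorem sig_XV {x : Fin 4 → ℤ} (hx : IsRoot cs RGDTwD4.hp.isCartan x) {g : GL chevD4.Idx k}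
    (hg : g ∈ XV chevD4 4 k x) : sig (RingHom.id k) g ∈ XV chevD4 4 k (tri x) := by
  obtain ⟨r, hr, rfl⟩ := (isRoot_iff RGDTwD4.hp cs x).1 hx
  have hr' : r < 24 := hr
  rw [XV_vec RGDTwD4.hp k hr] at hg
  rw [tri_vec ⟨r, hr'⟩, XV_vec RGDTwD4.hp k (rh ⟨r, hr'⟩).2]
  obtain ⟨t, rfl⟩ := (mem_rootSubgroup_iff RGDTwD4.hp.inList _ _).1 hg
  have h1 : sig (RingHom.id k) (xG RGDTwD4.hp.inList r t) = xG RGDTwD4.hp.inList (rh ⟨r, hr'⟩).val
    (((ed ⟨r, hr'⟩ : ℤ) : k) * (RingHom.id k) t) := sig_ed (RingHom.id k) (⟨r, hr'⟩ : Fin 24) t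
  rw [h1]
  exact xG_mem_rootSubgroup _ _ _

theorem tri_three (x : Fin 4 → ℤ) : tri (tri (tri x)) = x := by
  funext i; fin_cases i <;> rfl

/-- The triality is a frame automorphism. -/
theorem fr_gam : Fr cs RGDTwD4.hp.isCartan (TT chevD4 k) (XX chevD4 4 k) (gam k) tri where
  tor t := by
    constructor
    · intro h
      have h1 : (gam k)⁻¹ (gam k t) ∈ TT chevD4 k := by
        rw [Subgroup.mem_subgroupOf, coe_gam_inv]
        exact sig_diag (sig_diag h)
      rwa [MulAut.inv_apply_self] at h1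
    · intro h
      rw [Subgroup.mem_subgroupOf, coe_gam]
      exact sig_diag h
  root a := by
    constructor
    · intro h
      have h1 := isRoot_tri cs _ (isRoot_tri cs _ h)
      rwa [tri_three] at h1
    · exact isRoot_tri cs a
  map a ha y := by
    constructor
    · intro h
      have h1 : (gam k)⁻¹ (gam k y) ∈ XX chevD4 4 k a := by
        rw [Subgroup.mem_subgroupOf, coe_gam_inv]
        have h2 := sig_XV cs (isRoot_tri cs _ (isRoot_tri cs _ ha)) (sig_XV cs (isRoot_tri cs _ ha) h)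
        rwa [tri_three] at h2
      rwa [MulAut.inv_apply_self] at h1
    · intro h
      rw [Subgroup.mem_subgroupOf, coe_gam]
      exact sig_XV cs ha h

end Gam

/-! ### the twisted Frobenius -/

section Tau

variable {k : Type u} [Field k] [IsAlgClosed k] {p e : ℕ} [Fact p.Prime] [CharP k p]

/-- the twisted Frobenius automorphism -/
noncomputable def tau (k : Type u) [Field k] [IsAlgClosed k] (p e : ℕ) [Fact p.Prime] [CharP k p] :
    MulAut ↥(chevD4.group k) :=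
  gam k * phi chevD4 k p e

theorem coe_tau (g : ↥(chevD4.group k)) :
    ((tau k p e g : ↥(chevD4.group k)) : GL chevD4.Idx k) = sig (iterateFrobenius k p e) g := by
  have h1 : ((tau k p e g : ↥(chevD4.group k)) : GL chevD4.Idx k) =
      sig (RingHom.id k) (glMap chevD4 (iterateFrobenius k p e) g) := by
    rw [← coe_phi]
    rfl
  rw [h1]
  apply Units.ext
  rw [D4Fixed.coe_sig, D4Fixed.coe_sig]
  rfl

theorem isFrob_tau : IsFrob p e (tau k p e) :=
  ⟨symmD4a.P k, fun g => by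
    rw [coe_tau]
    apply Units.ext
    have h1 : frob p e (g : GL chevD4.Idx k) = glMap chevD4 (iterateFrobenius k p e) g := by
      apply co_injective
      funext ij
      rw [co_frob]
      rfl
    rw [h1]
    rfl⟩

theorem fr_tau {W : Type*} [Group W] (cs : CoxeterSystem coxeterD4 W) :
    Fr cs RGDTwD4.hp.isCartan (TT chevD4 k) (XX chevD4 4 k) (tau k p e) tri :=
  Fr.mul (fr_gam cs) (fr_phi RGDTwD4.hp cs)

section Fix

variable {F : Type u} [Field F] [Fintype F] (f : F →+* k)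

theorem tau_eq_iff (g : ↥(chevD4.group k)) :
    tau k p e g = g ↔ sig (iterateFrobenius k p e) (g : GL chevD4.Idx k) = g := by
  rw [← coe_tau, Subtype.ext_iff]

/-- the inclusion -/
theorem tw_le {F : Type u} [Field F] [Fintype F] {q : ℕ} (hq : IsPrimePow q) (hF : Fintype.card F = q ^ 3) :
    twistedD4 F q ≤ chevD4.group F := by
  obtain ⟨φ0, hφ0⟩ := D4Fixed.exists_frob hq hF
  exact EmbTw.G_le_group RGDTwD4.foldData (RGDTwD4.foldGrp hφ0 (D4Fixed.twisted_le_fix hF hφ0))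

/-- the embedding of the finite group -/
noncomputable def embT {q : ℕ} (hq : IsPrimePow q) (hF : Fintype.card F = q ^ 3) :
    ↥(twistedD4 F q) →* ↥(chevD4.group k) :=
  (emb RGDTwD4.hp.inList f).comp (Subgroup.inclusion (tw_le hq hF))

theorem coe_embT {q : ℕ} (hq : IsPrimePow q) (hF : Fintype.card F = q ^ 3) (x : ↥(twistedD4 F q)) :
    ((embT f hq hF x : ↥(chevD4.group k)) : GL chevD4.Idx k) = glMap chevD4 f x := coe_emb RGDTwD4.hp.inList f _

theorem embT_injective {q : ℕ} (hq : IsPrimePow q) (hF : Fintype.card F = q ^ 3) :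
    Function.Injective (embT (k := k) f hq hF) :=
  (emb_injective RGDTwD4.hp.inList f).comp (Subgroup.inclusion_injective _)

theorem frob_apply {q : ℕ} (hqe : q = p ^ e) (t : k) : iterateFrobenius k p e t = t ^ q := by
  rw [iterateFrobenius_def, hqe]

theorem tau_embT {q : ℕ} (hqe : q = p ^ e) (hq : IsPrimePow q) (hF : Fintype.card F = q ^ 3)
    (x : ↥(twistedD4 F q)) : tau k p e (embT f hq hF x) = embT f hq hF x := by
  rw [tau_eq_iff, coe_embT]
  exact (twD4_fix hq hF (frob_apply hqe) x.2).2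

/-- The fixed elements of the torus. -/
theorem torus_mem {q : ℕ} (hqe : q = p ^ e) (hq : IsPrimePow q) (hF : Fintype.card F = q ^ 3)
    {t : ↥(chevD4.group k)} (ht : t ∈ TT chevD4 k) (hσ : tau k p e t = t) :
    ∃ x ∈ twistedD4 F q, glMap chevD4 f x = t := by
  classical
  obtain ⟨φ0, hφ0⟩ := D4Fixed.exists_frob hq hF
  let cs := coxeterD4.toCoxeterSystem
  -- the values
  have hval : ∀ {s : ↥(chevD4.group k)}, s ∈ TT chevD4 k → tau k p e s = s → ∀ x,
      cX RGDTwD4.hp s (tri x) = cX RGDTwD4.hp s x ^ q := by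
    intro s hs hs' x
    have h := cX_sigma RGDTwD4.hp cs isFrob_tau (fr_tau (k := k) (p := p) (e := e) cs) hs x
    rw [hs'] at h
    rw [h, hqe]
  have h10 : tri (sr 1) = sr 1 := funext (tri_sr 1)
  have h02 : tri (sr 0) = sr 2 := funext (tri_sr 0)
  have h23 : tri (sr 2) = sr 3 := funext (tri_sr 2)
  have h30 : tri (sr 3) = sr 0 := funext (tri_sr 3)
  have hv1 : ∀ {s : ↥(chevD4.group k)}, s ∈ TT chevD4 k → tau k p e s = s →
      cX RGDTwD4.hp s (sr 1) ^ q = cX RGDTwD4.hp s (sr 1) := fun hs hs' => by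
    have h := hval hs hs' (sr 1)
    rw [h10] at h
    exact h.symm
  have hv2 : ∀ {s : ↥(chevD4.group k)}, s ∈ TT chevD4 k → tau k p e s = s →
      cX RGDTwD4.hp s (sr 2) = cX RGDTwD4.hp s (sr 0) ^ q := fun hs hs' => by
    have h := hval hs hs' (sr 0)
    rwa [h02] at h
  have hv3 : ∀ {s : ↥(chevD4.group k)}, s ∈ TT chevD4 k → tau k p e s = s →
      cX RGDTwD4.hp s (sr 3) = cX RGDTwD4.hp s (sr 2) ^ q := fun hs hs' => by
    have h := hval hs hs' (sr 2)
    rwa [h23] at h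
  have hv0 : ∀ {s : ↥(chevD4.group k)}, s ∈ TT chevD4 k → tau k p e s = s →
      cX RGDTwD4.hp s (sr 0) ^ q ^ 3 = cX RGDTwD4.hp s (sr 0) := fun hs hs' => by
    have h := hval hs hs' (sr 3)
    rw [h30, hv3 hs hs', hv2 hs hs', ← pow_mul, ← pow_mul] at h
    have e : q * (q * q) = q ^ 3 := by ring
    rw [e] at h
    exact h.symm
  have hr0 : ∀ {s : ↥(chevD4.group k)}, s ∈ TT chevD4 k → tau k p e s = s →
      ∃ b : F, f b = cX RGDTwD4.hp s (sr 0) := fun hs hs' =>
    Emb.mem_range_of_pow f (by rw [hF]; exact hv0 hs hs')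
  have hr1 : ∀ {s : ↥(chevD4.group k)}, s ∈ TT chevD4 k → tau k p e s = s →
      ∃ b : F, f b = cX RGDTwD4.hp s (sr 1) := fun hs hs' =>
    Emb.mem_range_of_pow f (by
      have h := hv1 hs hs'
      rw [hF, show q ^ 3 = q * q * q by ring, pow_mul, pow_mul, h, h, h])
  -- the two maps
  let A := {s : ↥(chevD4.group k) // s ∈ TT chevD4 k ∧ tau k p e s = s}
  have hex : ∀ s : A, ∃ c : Fˣ × {b : Fˣ // φ0 b = b}, f (c.1 : F) = cX RGDTwD4.hp s.1 (sr 0) ∧
      f ((c.2.1 : Fˣ) : F) = cX RGDTwD4.hp s.1 (sr 1) := by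
    intro s
    obtain ⟨b, hb⟩ := hr0 s.2.1 s.2.2
    obtain ⟨a, ha⟩ := hr1 s.2.1 s.2.2
    have hmc := isMC_cX RGDTwD4.hp s.2.1
    have hb0 : b ≠ 0 := by
      rintro rfl
      rw [map_zero] at hb
      exact hmc.ne_zero _ hb.symm
    have ha0 : a ≠ 0 := by
      rintro rfl
      rw [map_zero] at ha
      exact hmc.ne_zero _ ha.symm
    refine ⟨⟨Units.mk0 b hb0, ⟨Units.mk0 a ha0, ?_⟩⟩, hb, ha⟩
    show φ0 a = a
    apply f.injective
    rw [hφ0, map_pow, ha]
    exact hv1 s.2.1 s.2.2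
  choose κ hκ0 hκ1 using hex
  have hκ : Function.Injective κ := by
    intro s s' h
    apply Subtype.ext
    have e0 : cX RGDTwD4.hp s.1 (sr 0) = cX RGDTwD4.hp s'.1 (sr 0) := by rw [← hκ0, ← hκ0, h]
    have e1 : cX RGDTwD4.hp s.1 (sr 1) = cX RGDTwD4.hp s'.1 (sr 1) := by rw [← hκ1, ← hκ1, h]
    have e2 : cX RGDTwD4.hp s.1 (sr 2) = cX RGDTwD4.hp s'.1 (sr 2) := by
      rw [hv2 s.2.1 s.2.2, hv2 s'.2.1 s'.2.2, e0]
    have e3 : cX RGDTwD4.hp s.1 (sr 3) = cX RGDTwD4.hp s'.1 (sr 3) := by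
      rw [hv3 s.2.1 s.2.2, hv3 s'.2.1 s'.2.2, e2]
    refine cX_inj RGDTwD4.hp s.2.1 s'.2.1 fun i => ?_
    fin_cases i
    · exact e0
    · exact e1
    · exact e2
    · exact e3
  have hι : ∀ x : ↥(chevD4.diagonalSubgroup F ⊓ twistedD4 F q), ∃ s : A, (s.1 : GL chevD4.Idx k) = glMap chevD4 f x := by
    intro x
    refine ⟨⟨embT f hq hF ⟨x.1, x.2.2⟩, ?_, tau_embT f hqe hq hF _⟩, rfl⟩
    exact emb_T RGDTwD4.hp f ⟨Subgroup.inclusion (tw_le hq hF) ⟨x.1, x.2.2⟩, x.2.1, rfl⟩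
  choose ι hι using hι
  have hι' : Function.Injective ι := by
    intro x y h
    apply Subtype.ext
    apply glMap_injective chevD4 f
    rw [← hι, ← hι, h]
  have hcard : Nat.card (Fˣ × {b : Fˣ // φ0 b = b}) ≤ Nat.card ↥(chevD4.diagonalSubgroup F ⊓ twistedD4 F q) := by
    rw [Nat.card_prod, D4H1.card_fixed hq.one_lt hF hφ0, D4H1.natCard_units hF, D4H1.card_H1 hq hF hφ0, mul_comm]
  have hbij := (hκ.comp hι').bijective_of_nat_card_le hcard
  obtain ⟨x, hx⟩ := hbij.2 (κ ⟨t, ht, hσ⟩)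
  have hx' : ι x = ⟨t, ht, hσ⟩ := hκ hx
  exact ⟨x.1, x.2.2, by rw [← hι, hx']⟩

/-- **The fixed points of the twisted Frobenius.** -/
theorem tau_range {q : ℕ} (hqe : q = p ^ e) (hq : IsPrimePow q) (hF : Fintype.card F = q ^ 3)
    {g : ↥(chevD4.group k)} (hg : tau k p e g = g) : g ∈ (embT (k := k) f hq hF).range := by
  obtain ⟨x, hx, t, ht, h1⟩ := twD4_split (f := f) hq hF (frob_apply hqe) g.2 ((tau_eq_iff g).1 hg)
  have e1 : g = embT f hq hF ⟨x, hx⟩ * ⟨t, diagonal_le_group RGDTwD4.hp.inList k ht⟩ := by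
    apply Subtype.ext
    rw [Subgroup.coe_mul, coe_embT]
    exact h1
  rw [e1, map_mul, tau_embT f hqe] at hg
  obtain ⟨y, hy, hy'⟩ := torus_mem f hqe hq hF (t := ⟨t, diagonal_le_group RGDTwD4.hp.inList k ht⟩) ht
    (mul_left_cancel hg)
  rw [e1]
  refine mul_mem ⟨_, rfl⟩ ⟨⟨y, hy⟩, Subtype.ext ?_⟩
  rw [coe_embT]
  exact hy'

end Fix

end Tau

end Cfsg.Agent.H129.TriD4
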