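import Cfsg.Agent.H129.UntwT
import Cfsg.Agent.H129.CycRow

/-!
# Elements commuting with an element of isolated prime order: the diagonal form (helper129)

* `TD.cX_eq_one_iff` : the roots trivial on an element of prime order of the twisted torus;
* `rank_sub_one` : `rank (t - 1)` for a diagonal element `t` is the number of roots `α` with `α(t) ≠ 1`;
* `exists_diag` : `a` of prime order `ℓ` commuting with `x` of isolated prime order: over the algebraic closure `a` is
  conjugate to a diagonal element `t` with `α(t) = 1 ↔ ℓ ∣ Gq α`.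
-/

set_option autoImplicit false
set_option linter.unusedSectionVars false

namespace Cfsg.Agent.H129.CommDiag

open CoxeterSystem Cfsg Cfsg.Lie Cfsg.Lie.ChevalleyDatum
open Cfsg.Agent.ChevalleyStructure Cfsg.Agent.ChevalleyStructure.Elts Cfsg.Agent.ChevalleyStructure.CoxeterGeom
  Cfsg.Agent.ChevalleyStructure.CoxeterGeomTypes Cfsg.Agent.ChevalleyStructure.NPerm
open Cfsg.Agent.Tits.Roots Cfsg.Agent.Tits.Core Cfsg.Agent.Nodes Cfsg.Agent.Nodes.Reps Cfsg.Agent.Nodes.BNOf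
  Cfsg.Agent.Nodes.RGDChev Cfsg.Agent.Nodes.Bruhat Cfsg.Agent.Nodes.SubComb Cfsg.Agent.Nodes.Coroot
open Cfsg.Agent.KFacts.RgdField Cfsg.Agent.KFacts.RgdChevCoord Cfsg.Agent.BpExc.TorCent Cfsg.Agent.BpExc.TorChev
open Cfsg.Agent.GpExc.Field Cfsg.Agent.BpExc.Tow Cfsg.Agent.BpExc.TowChev Cfsg.Agent.BpExc.Fr
  Cfsg.Agent.BpExc.LangFr Cfsg.Agent.LangThm Cfsg.Agent.BpExc Cfsg.Agent.H129.TorusChar Cfsg.Agent.H129.TorusCent
  Cfsg.Agent.H129.TorusTw Cfsg.Agent.H129.TorusMain Cfsg.Agent.H129.TorusUntw Cfsg.Agent.H129.TorAct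
  Cfsg.Agent.H129.WData Cfsg.Agent.H129.UntwTwo Cfsg.Agent.H129.CycT

universe u

section Val

variable {D : ChevalleyDatum} {l : ℕ} {M : CoxeterMatrix (Fin l)} {hp : IsType D l M} {k : Type u} [Field k]
  {W : Type*} [Group W] {cs : CoxeterSystem M W} {σ : MulAut ↥(D.group k)}
  {hN : NSys M (TT D k) (nc hp k)} {w : W} {B : Fin l → Fin l → ℤ} {Q : ℤ} {N : ℕ}
  {n z t : ↥(D.group k)} {u : k}

/-- the characters trivial on an element of prime order -/
theorem cX_eq_one_iff (X : TD hp cs hN w σ B Q N n z t u) (hN0 : N ≠ 0) {r : ℕ} (hr : r.Prime) {j : ℕ}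
    (hj : orderOf (t ^ j) = r) (x : Fin l → ℤ) : cX hp (t ^ j) x = 1 ↔ (r : ℤ) ∣ Gq B Q x := by
  have hone : ∀ y : ℤ, u ^ y = 1 ↔ (N : ℤ) ∣ y := fun y => X.hu.zpow_eq_one_iff_dvd y
  have hj0 : j ≠ 0 := by
    rintro rfl
    rw [pow_zero, orderOf_one] at hj
    exact hr.one_lt.ne hj
  have hgcd : N = r * Nat.gcd N j := by
    have h1 : orderOf (t ^ j) = N / Nat.gcd N j := by rw [orderOf_pow' t hj0, X.htN]
    rw [hj] at h1
    have h2 := Nat.div_mul_cancel (Nat.gcd_dvd_left N j)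
    rw [← h1] at h2
    exact h2.symm
  rw [X.val_pow, hone]
  obtain ⟨m, hm⟩ := Nat.gcd_dvd_right N j
  have hd0 : Nat.gcd N j ≠ 0 := fun h0 => hN0 (by rw [hgcd, h0, mul_zero])
  have hco : Nat.Coprime r m := by
    have h3 : Nat.gcd N j = Nat.gcd (r * Nat.gcd N j) (Nat.gcd N j * m) := by
      rw [← hgcd, ← hm]
    rw [mul_comm r, Nat.gcd_mul_left] at h3
    exact Nat.eq_of_mul_eq_mul_left (Nat.pos_of_ne_zero hd0) (h3.symm.trans (mul_one _).symm)
  have e1 : (N : ℤ) = (Nat.gcd N j : ℤ) * r := by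
    rw [mul_comm]; exact_mod_cast hgcd
  have e2 : (j : ℤ) * Gq B Q x = (Nat.gcd N j : ℤ) * (m * Gq B Q x) := by
    rw [← mul_assoc]; congr 1; exact_mod_cast hm
  rw [e1, e2, mul_dvd_mul_iff_left (Nat.cast_ne_zero.2 hd0)]
  constructor
  · intro h4
    exact (Nat.isCoprime_iff_coprime.2 hco).dvd_of_dvd_mul_left h4
  · intro h4
    exact h4.mul_left _

/-- the matrix of an element of the diagonal torus -/
theorem coe_TT (hp : IsType D l M) {t : ↥(D.group k)} (ht : t ∈ TT D k) :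
    ((t : GL D.Idx k) : Matrix D.Idx D.Idx k) = Matrix.diagonal (Sum.elim (fun _ => (1 : k))
      (fun s : Fin D.nroots => cX hp t (vec D l s))) := by
  have ht' := ht
  rw [Subgroup.mem_subgroupOf] at ht
  obtain ⟨c, hc, e, hact⟩ := Tor.exists_c hp ht
  rw [e]
  congr 1
  funext i
  rcases i with i | s
  · rfl
  · show ∏ i ∈ Finset.range D.rank, c i ^ D.cartan i s = cX hp t (vec D l s)
    rw [cX_vec hp ht' s.2]
    symm
    apply ch_eq hp s.2 ht'
    apply Subtype.ext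
    rw [Subgroup.coe_mul, Subgroup.coe_mul, Subgroup.coe_inv, coe_xc hp s.2, coe_xc hp s.2, hact s s.2, mul_one]

/-- the rank of `t - 1` -/
theorem rank_sub_one (hp : IsType D l M) {t : ↥(D.group k)} (ht : t ∈ TT D k) :
    (((t : GL D.Idx k) : Matrix D.Idx D.Idx k) - 1).rank =
      Nat.card {s : Fin D.nroots // cX hp t (vec D l s) ≠ 1} := by
  classical
  have e1 : ((t : GL D.Idx k) : Matrix D.Idx D.Idx k) - 1 = Matrix.diagonal (Sum.elim (fun _ => (0 : k))
      (fun s : Fin D.nroots => cX hp t (vec D l s) - 1)) := by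
    rw [coe_TT hp ht, ← Matrix.diagonal_one, Matrix.diagonal_sub]
    congr 1
    funext i
    rcases i with i | s
    · show (1 : k) - 1 = 0
      rw [sub_self]
    · rfl
  rw [e1, Matrix.rank_diagonal, ← Nat.card_eq_fintype_card]
  refine Nat.card_congr ⟨fun i => ?_, fun s => ⟨Sum.inr s.1, sub_ne_zero.2 s.2⟩, ?_, ?_⟩
  · rcases i with ⟨i | s, h⟩
    · exact absurd rfl h
    · exact ⟨s, sub_ne_zero.1 h⟩
  · rintro ⟨i | s, h⟩
    · exact absurd rfl h
    · rfl
  · rintro ⟨s, h⟩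
    rfl

/-- conjugate elements have the same rank -/
theorem rank_conj {ι : Type*} [Fintype ι] [DecidableEq ι] (g t : GL ι k) :
    (((g * t * g⁻¹ : GL ι k) : Matrix ι ι k) - 1).rank = ((t : Matrix ι ι k) - 1).rank := by
  have e1 : ((g * t * g⁻¹ : GL ι k) : Matrix ι ι k) - 1 =
      (g : Matrix ι ι k) * ((t : Matrix ι ι k) - 1) * ((g⁻¹ : GL ι k) : Matrix ι ι k) := by
    rw [mul_sub, sub_mul, mul_one, ← Units.val_mul g g⁻¹, mul_inv_cancel, Units.val_one, Units.val_mul, Units.val_mul]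
  have hu : ∀ g : GL ι k, IsUnit ((g : Matrix ι ι k)).det := fun g => by
    rw [← Matrix.isUnit_iff_isUnit_det]
    exact Units.isUnit g
  rw [e1, Matrix.rank_mul_eq_left_of_isUnit_det _ _ (hu _), Matrix.rank_mul_eq_right_of_isUnit_det _ _ (hu _)]

end Val

section Main

variable {D : ChevalleyDatum} {l : ℕ} {M : CoxeterMatrix (Fin l)} (hp : IsType D l M)
  {W : Type*} [Group W] (cs : CoxeterSystem M W)

include hp cs in
/-- **Elements commuting with an element of isolated prime order.** -/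
theorem exists_diag [Finite W] (hl : 0 < l) {F : Type u} [Field F] [Fintype F] {q : ℕ} (hq : Fintype.card F = q)
    {d' : ℕ} {B' : Fin l → Fin l → ℤ} (hB : InvC D l d' B') (hd' : d' ≠ 0)
    {A : Mat l} (hA : ∀ i j, A i j = cartanOf D l i j) {L : List (Fin l × Mat l)} (hL : ChainOK A L)
    {V B : Mat l} {c : Fin l → ℤ} (hcyc : CycOK l (hd L) V B c) {m : ℕ} {R : Fin m → Fin l → ℤ} {prv dep : ℕ → ℕ}
    (hR : RootOK D l (hd L) R prv dep) {N : ℕ} (hfN : fN c (q : ℤ) = N) (hqN : q.Coprime N) {d : ℕ}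
    (hdd : d = d' ∨ d = 1 ∧ ∀ a : F, ∃ b : F, b ^ d' = a) {r : ℕ} (hr : r.Prime) (hrN : r ∣ N) (hrd : ¬ r ∣ d)
    (hrW : ¬ r ∣ Nat.card W) (hG : ∀ s, ¬ (r : ℤ) ∣ Gq B (q : ℤ) (R s)) {a x : ↥(D.group F)} {ℓ : ℕ} (hℓ : ℓ.Prime)
    (ha : orderOf a = ℓ) (hx : orderOf x = r) (hax : Commute a x) :
    ∃ g t' : ↥(D.group (AlgebraicClosure F)), t' ∈ TT D (AlgebraicClosure F) ∧
      emb hp.inList (algebraMap F (AlgebraicClosure F)) a = g * t' * g⁻¹ ∧
      ∀ y, cX hp t' y = 1 ↔ (ℓ : ℤ) ∣ Gq B (q : ℤ) y := by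
  have hlin := lin_refl hp cs hA hL
  have hc := cyc_of hlin hcyc
  obtain ⟨p, e, hpF, hpc, hpk, he, rfl, hk⟩ := exists_closure hq
  have hpN : ¬ p ∣ N := fun h1 => by
    have h2 : p ∣ Nat.gcd (p ^ e) N := Nat.dvd_gcd (dvd_pow_self p he.ne') h1
    rw [hqN] at h2
    exact hpF.out.one_lt.ne' (Nat.dvd_one.1 h2)
  have hN0 : N ≠ 0 := fun h0 => hpN (by rw [h0]; exact dvd_zero p)
  have hd : ∀ y : ↥(D.group (AlgebraicClosure F)), phi D (AlgebraicClosure F) p e y = y →
      y ^ d ∈ (emb hp.inList (algebraMap F (AlgebraicClosure F))).range := by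
    intro y hy
    rcases hdd with rfl | ⟨rfl, hF⟩
    · exact fix_pow_range hp cs _ hq hB hd' hy
    · rw [pow_one]
      exact fix_range hp cs _ hq hB hd' hF hy
  have hgood : ∀ a, IsRoot cs hp.isCartan a → ¬ (r : ℤ) ∣ Gq B ((p ^ e : ℕ) : ℤ) a := fun a ha =>
    not_dvd_G hp cs hlin hc hR hfN hr hrN hqN hG ha
  have he0 : Function.Injective (emb (D := D) hp.inList (algebraMap F (AlgebraicClosure F))) :=
    emb_injective hp.inList _
  have hfix := phi_emb (k := AlgebraicClosure F) hp (algebraMap F (AlgebraicClosure F)) hq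
  obtain ⟨n, z, t, u, X⟩ := TD.exists_of (hp := hp) (cs := cs) (hN := nsys_of_locFin hp cs hk p) hl hk he isFrob_phi
    (fr_phi hp cs) hB hd' (w := cs.wordProd (L.map Prod.fst)) hc hfN hpN
  have hord : orderOf (z * t * z⁻¹) = N := by
    have h3 : z * t * z⁻¹ = MulAut.conj z t := rfl
    rw [h3, ← X.htN]
    exact orderOf_injective (MulAut.conj z).toMonoidHom (MulAut.conj z).injective t
  have hσz : phi D (AlgebraicClosure F) p e z = z * n := by rw [X.hz]; group
  have hσa : phi D (AlgebraicClosure F) p e (z * t * z⁻¹) = z * t * z⁻¹ := by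
    rw [map_mul, map_mul, map_inv, hσz]
    calc z * n * phi D (AlgebraicClosure F) p e t * (z * n)⁻¹ =
        z * (n * phi D (AlgebraicClosure F) p e t * n⁻¹) * z⁻¹ := by group
      _ = z * t * z⁻¹ := by rw [X.hτ]
  have h2 := dvd_card_T0 he0 (hd _ hσa)
  rw [hord] at h2
  have hrT : r ∣ Nat.card ↥(T0 (emb hp.inList (algebraMap F (AlgebraicClosure F))) (z * t * z⁻¹)) :=
    (hr.dvd_mul.1 (hrN.trans h2)).resolve_left hrd
  have : Finite ↥(D.group F) := inferInstance
  obtain ⟨g, hg1, hg2⟩ := centralizer_conj (isCyclic_T0 he0) hr hrT (fun y hy hyr =>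
    X.centralizer_le hk p hN0 he0 hfix hr hrW hgood hy hyr) hx
  have haT := (hg2 a).1 (by rw [Subgroup.mem_centralizer_singleton_iff]; exact hax)
  have hfo : IsOfFinOrder (z * t * z⁻¹) := by
    rw [← orderOf_pos_iff, hord]
    exact Nat.pos_of_ne_zero hN0
  obtain ⟨j, hj⟩ := (hfo.mem_powers_iff_mem_zpowers.2 haT)
  have hj' : (z * t * z⁻¹) ^ j = emb hp.inList (algebraMap F (AlgebraicClosure F)) (g * a * g⁻¹) := hj
  have e1 : emb hp.inList (algebraMap F (AlgebraicClosure F)) (g * a * g⁻¹) = z * t ^ j * z⁻¹ := by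
    rw [← hj', conj_pow]
  have hoj : orderOf (t ^ j) = ℓ := by
    have h2 : orderOf (z * t ^ j * z⁻¹) = orderOf (t ^ j) := by
      have h3 : z * t ^ j * z⁻¹ = MulAut.conj z (t ^ j) := rfl
      rw [h3]
      exact orderOf_injective (MulAut.conj z).toMonoidHom (MulAut.conj z).injective (t ^ j)
    have h4 : orderOf (g * a * g⁻¹) = orderOf a := by
      have h3 : g * a * g⁻¹ = MulAut.conj g a := rfl
      rw [h3]
      exact orderOf_injective (MulAut.conj g).toMonoidHom (MulAut.conj g).injective a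
    rw [← h2, ← e1, orderOf_injective _ he0, h4, ha]
  refine ⟨emb hp.inList (algebraMap F (AlgebraicClosure F)) g⁻¹ * z, t ^ j, pow_mem X.ht j, ?_,
    fun y => cX_eq_one_iff X hN0 hℓ hoj y⟩
  have e2 : emb hp.inList (algebraMap F (AlgebraicClosure F)) a =
      emb hp.inList (algebraMap F (AlgebraicClosure F)) g⁻¹ *
        emb hp.inList (algebraMap F (AlgebraicClosure F)) (g * a * g⁻¹) *
        emb hp.inList (algebraMap F (AlgebraicClosure F)) g := by
    rw [← map_mul, ← map_mul]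
    congr 1
    group
  rw [e2, e1, map_inv]
  group

end Main

end Cfsg.Agent.H129.CommDiag
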