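import Cfsg.Agent.H129.CycRow
import Cfsg.Agent.H378.RegE7

/-!
# `HasCyc` for the untwisted exceptional groups (helper129)

Every prime divisor `r` of the order which is not `Near` divides the order of a cyclic subgroup containing the
centralisers of its non-trivial elements.
-/

set_option autoImplicit false
set_option linter.unusedSectionVars false

namespace Cfsg.Agent.H129.CycExc

open Cfsg Cfsg.Lie Subgroup
open Cfsg.Agent.H94.PG Cfsg.Agent.H564.NearTwo Cfsg.Agent.H182.Cent Cfsg.Agent.H129 Cfsg.Agent.H129.CycT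
open Cfsg.Agent.H378 Cfsg.Agent.H378.ExcAdj Cfsg.Agent.H378.CycTab Cfsg.Agent.H378.ExcNear Cfsg.Agent.H378.RegFin Cfsg.Agent.H378.AdjTab

universe u

theorem ne_of_od {r q m d : ℕ} (hr : r.Prime) (h : od q r = m) (hd : 0 < d) (hm : d < m) : r ≠ d := by
  rintro rfl
  exact not_dvd_of_od hr h hd hm dvd_rfl

variable (F : Type u) [Field F] [Finite F]

theorem hasCyc_G2 {r : ℕ} (hr : r.Prime) (hd : r ∣ Nat.card ↥(chevG2.group F)) (hn : ¬ Near ↥(chevG2.group F) r) :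
    HasCyc ↥(chevG2.group F) r := by
  have := Fintype.ofFinite F
  have hF : Fintype.card F = Nat.card F := Nat.card_eq_fintype_card.symm
  refine CycAt.hasCyc hr ?_ (good2_G2 F r hr hd hn)
  rcases (near_G2 F hr hd).resolve_left hn with h | h
  · have h1 := dvd3 hr h
    rw [pv3] at h1
    exact at_G2_3 hF (N := Nat.card F ^ 2 + Nat.card F + 1) (by push_cast; ring) hr (by exact_mod_cast h1)
      (by
        rintro rfl
        have := mod_of_od hr h (by norm_num)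
        omega)
  · have h1 := dvd6 hr h
    rw [pv6] at h1
    have hle : Nat.card F ≤ Nat.card F ^ 2 := Nat.le_self_pow (by norm_num) _
    have hN : ((Nat.card F ^ 2 - Nat.card F + 1 : ℕ) : ℤ) = 1 - (Nat.card F : ℤ) + (Nat.card F : ℤ) ^ 2 := by
      push_cast [Nat.cast_sub hle]; ring
    exact at_G2_6 hF hN hr (by
      have : (r : ℤ) ∣ ((Nat.card F ^ 2 - Nat.card F + 1 : ℕ) : ℤ) := by
        rw [hN]
        have e : 1 - (Nat.card F : ℤ) + (Nat.card F : ℤ) ^ 2 = (Nat.card F : ℤ) ^ 2 - Nat.card F + 1 := by ring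
        rw [e]
        exact h1
      exact Int.natCast_dvd_natCast.1 this) (ne_of_od hr h (by norm_num) (by norm_num))

theorem hasCyc_F4 {r : ℕ} (hr : r.Prime) (hd : r ∣ Nat.card ↥(chevF4.group F)) (hn : ¬ Near ↥(chevF4.group F) r) :
    HasCyc ↥(chevF4.group F) r := by
  have := Fintype.ofFinite F
  have hF : Fintype.card F = Nat.card F := Nat.card_eq_fintype_card.symm
  have hq1 : 1 ≤ Nat.card F := Finite.card_pos
  refine CycAt.hasCyc hr ?_ (good2_F4 F r hr hd hn)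
  rcases (near_F4 F hr hd).resolve_left hn with h | h
  · have h1 := dvd8 hr h
    rw [pv8] at h1
    exact at_F4_8 hF (N := Nat.card F ^ 4 + 1) (by push_cast; ring) hr (by exact_mod_cast h1)
      (ne_of_od hr h (by norm_num) (by norm_num))
  · have h1 := dvd12 hr h
    rw [pv12] at h1
    have hle : Nat.card F ^ 2 ≤ Nat.card F ^ 4 := Nat.pow_le_pow_right hq1 (by norm_num)
    have hN : ((Nat.card F ^ 4 - Nat.card F ^ 2 + 1 : ℕ) : ℤ) = 1 - (Nat.card F : ℤ) ^ 2 + (Nat.card F : ℤ) ^ 4 := by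
      push_cast [Nat.cast_sub hle]; ring
    refine (exact_F4_12 hF hN).cycAt hr ?_
    have : (r : ℤ) ∣ ((Nat.card F ^ 4 - Nat.card F ^ 2 + 1 : ℕ) : ℤ) := by
      rw [hN]
      have e : 1 - (Nat.card F : ℤ) ^ 2 + (Nat.card F : ℤ) ^ 4 = (Nat.card F : ℤ) ^ 4 - Nat.card F ^ 2 + 1 := by ring
      rw [e]
      exact h1
    exact Int.natCast_dvd_natCast.1 this

theorem hasCyc_E6 {r : ℕ} (hr : r.Prime) (hd : r ∣ Nat.card ↥(chevE6.group F)) (hn : ¬ Near ↥(chevE6.group F) r) :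
    HasCyc ↥(chevE6.group F) r := by
  have := Fintype.ofFinite F
  have hF : Fintype.card F = Nat.card F := Nat.card_eq_fintype_card.symm
  refine CycAt.hasCyc hr ?_ (good2_E6 F r hr hd hn)
  have h := (near_E6 F hr hd).resolve_left hn
  have h1 := dvd9 hr h
  rw [pv9] at h1
  exact at_E6_9 hF (N := Nat.card F ^ 6 + Nat.card F ^ 3 + 1) (by push_cast; ring) hr (by exact_mod_cast h1)
    (ne_of_od hr h (by norm_num) (by norm_num))

theorem hasCyc_E7 {r : ℕ} (hr : r.Prime) (hd : r ∣ Nat.card ↥(chevE7.group F)) (hn : ¬ Near ↥(chevE7.group F) r) :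
    HasCyc ↥(chevE7.group F) r := by
  have := Fintype.ofFinite F
  have hF : Fintype.card F = Nat.card F := Nat.card_eq_fintype_card.symm
  refine CycAt.hasCyc hr ?_ (RegE7.good2_E7 F r hr hd hn)
  rcases ((near_E7 F hr hd).resolve_left hn).2 with h | h
  · have h1 := dvd7 hr h
    rw [pv7] at h1
    exact at_E7_7 hF (N := Nat.card F ^ 6 + Nat.card F ^ 5 + Nat.card F ^ 4 + Nat.card F ^ 3 + Nat.card F ^ 2 +
      Nat.card F + 1) (by push_cast; ring) hr (by exact_mod_cast h1) (by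
        rintro rfl
        have := mod_of_od hr h (by norm_num)
        omega)
  · have h1 := dvd9 hr h
    rw [pv9] at h1
    exact at_E7_9 hF (N := Nat.card F ^ 6 + Nat.card F ^ 3 + 1) (by push_cast; ring) hr (by exact_mod_cast h1)
      (ne_of_od hr h (by norm_num) (by norm_num))

/-- a natural number with a given positive integer value -/
theorem exists_nat {z : ℤ} (h : 0 ≤ z) : ∃ N : ℕ, (N : ℤ) = z := ⟨z.toNat, Int.toNat_of_nonneg h⟩

theorem hasCyc_E8 {r : ℕ} (hr : r.Prime) (hd : r ∣ Nat.card ↥(chevE8.group F)) (hn : ¬ Near ↥(chevE8.group F) r) :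
    HasCyc ↥(chevE8.group F) r := by
  have := Fintype.ofFinite F
  have hF : Fintype.card F = Nat.card F := Nat.card_eq_fintype_card.symm
  have hq2 : (2 : ℤ) ≤ Nat.card F := by exact_mod_cast Finite.one_lt_card
  refine CycAt.hasCyc hr ?_ (good2_E8 F r hr hd hn)
  set q : ℤ := (Nat.card F : ℤ) with hq
  have h2 : (4 : ℤ) ≤ q ^ 2 := by nlinarith
  have h3 : (8 : ℤ) ≤ q ^ 3 := by nlinarith [pow_succ q 2]
  have h4 : (16 : ℤ) ≤ q ^ 4 := by nlinarith [pow_succ q 3]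
  rcases (near_E8 F hr hd).resolve_left hn with h | h | h | h
  · have h1 := dvd15 hr h
    rw [pv15] at h1
    obtain ⟨N, hN⟩ := exists_nat (z := 1 - q + q ^ 3 - q ^ 4 + q ^ 5 - q ^ 7 + q ^ 8) (by
      have e : 1 - q + q ^ 3 - q ^ 4 + q ^ 5 - q ^ 7 + q ^ 8 =
          1 + q * (q ^ 2 - 1) + q ^ 4 * (q - 1) + q ^ 4 * (q ^ 3 * (q - 1)) := by ring
      rw [e]
      have h5 : 0 ≤ q * (q ^ 2 - 1) := mul_nonneg (by linarith) (by linarith)
      have h6 : 0 ≤ q ^ 4 * (q - 1) := mul_nonneg (by linarith) (by linarith)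
      have h7 : 0 ≤ q ^ 4 * (q ^ 3 * (q - 1)) := mul_nonneg (by linarith) (mul_nonneg (by linarith) (by linarith))
      linarith)
    refine (exact_E8_15 hF hN).cycAt hr ?_
    have h5 : (r : ℤ) ∣ (N : ℤ) := by
      rw [hN]
      have e : 1 - q + q ^ 3 - q ^ 4 + q ^ 5 - q ^ 7 + q ^ 8 = q ^ 8 - q ^ 7 + q ^ 5 - q ^ 4 + q ^ 3 - q + 1 := by ring
      rw [e]
      exact h1
    exact Int.natCast_dvd_natCast.1 h5
  · have h1 := dvd20 hr h
    rw [pv20] at h1
    obtain ⟨N, hN⟩ := exists_nat (z := 1 - q ^ 2 + q ^ 4 - q ^ 6 + q ^ 8) (by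
      have e : 1 - q ^ 2 + q ^ 4 - q ^ 6 + q ^ 8 = 1 + q ^ 2 * (q ^ 2 - 1) + q ^ 4 * (q ^ 2 * (q ^ 2 - 1)) := by ring
      rw [e]
      have h5 : 0 ≤ q ^ 2 * (q ^ 2 - 1) := mul_nonneg (by linarith) (by linarith)
      have h6 : 0 ≤ q ^ 4 * (q ^ 2 * (q ^ 2 - 1)) := mul_nonneg (by linarith) h5
      linarith)
    refine at_E8_20 hF hN hr ?_ (ne_of_od hr h (by norm_num) (by norm_num))
    have h5 : (r : ℤ) ∣ (N : ℤ) := by
      rw [hN]
      have e : 1 - q ^ 2 + q ^ 4 - q ^ 6 + q ^ 8 = q ^ 8 - q ^ 6 + q ^ 4 - q ^ 2 + 1 := by ring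
      rw [e]
      exact h1
    exact Int.natCast_dvd_natCast.1 h5
  · have h1 := dvd24 hr h
    rw [pv24] at h1
    obtain ⟨N, hN⟩ := exists_nat (z := 1 - q ^ 4 + q ^ 8) (by
      have e : 1 - q ^ 4 + q ^ 8 = 1 + q ^ 4 * (q ^ 4 - 1) := by ring
      rw [e]
      have h5 : 0 ≤ q ^ 4 * (q ^ 4 - 1) := mul_nonneg (by linarith) (by linarith)
      linarith)
    refine (exact_E8_24 hF hN).cycAt hr ?_
    have h5 : (r : ℤ) ∣ (N : ℤ) := by
      rw [hN]
      have e : 1 - q ^ 4 + q ^ 8 = q ^ 8 - q ^ 4 + 1 := by ring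
      rw [e]
      exact h1
    exact Int.natCast_dvd_natCast.1 h5
  · have h1 := dvd30 hr h
    rw [pv30] at h1
    obtain ⟨N, hN⟩ := exists_nat (z := 1 + q - q ^ 3 - q ^ 4 - q ^ 5 + q ^ 7 + q ^ 8) (by
      have e : 1 + q - q ^ 3 - q ^ 4 - q ^ 5 + q ^ 7 + q ^ 8 =
          1 + q + q ^ 3 * (q ^ 2 * (q ^ 2 - 1) + (q * (q ^ 4 - 1) - 1)) := by ring
      rw [e]
      have h5 : 0 ≤ q ^ 2 * (q ^ 2 - 1) := mul_nonneg (by linarith) (by linarith)
      have h6 : 0 ≤ q * (q ^ 4 - 1) - 1 := by nlinarith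
      have h7 : 0 ≤ q ^ 3 * (q ^ 2 * (q ^ 2 - 1) + (q * (q ^ 4 - 1) - 1)) := mul_nonneg (by linarith) (by linarith)
      linarith)
    refine (exact_E8_30 hF hN).cycAt hr ?_
    have h5 : (r : ℤ) ∣ (N : ℤ) := by
      rw [hN]
      have e : 1 + q - q ^ 3 - q ^ 4 - q ^ 5 + q ^ 7 + q ^ 8 = q ^ 8 + q ^ 7 - q ^ 5 - q ^ 4 - q ^ 3 + q + 1 := by ring
      rw [e]
      exact h1
    exact Int.natCast_dvd_natCast.1 h5

end Cfsg.Agent.H129.CycExc
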