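import Cfsg.Agent.H129.StabTab

/-!
# Data of the torus of order `(q³ - 1)(q + 1)` of `³D₄(q)` (helper129)
-/

set_option autoImplicit false

namespace Cfsg.Agent.H129.DataD4T

open Cfsg.Agent.H129.TorusTw Cfsg.Agent.H129.WData Cfsg.Agent.H129.WForm Cfsg.Agent.H129.StabTab
  Cfsg.Agent.ChevalleyStructure.CoxeterGeomTypes
open Cfsg.Lie Cfsg.Lie.ChevalleyDatum Cfsg.Agent.Nodes Cfsg.Agent.Nodes.RGDChev

/-- the Cartan matrix -/
def Am : Mat 4 := ![![2, -1, 0, 0],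
    ![-1, 2, -1, -1],
    ![0, -1, 2, 0],
    ![0, -1, 0, 2]]

/-- the partial products -/
def chain : List (Fin 4 × Mat 4) := [
    (1, ![![1, 1, 0, 0],
      ![0, -1, 0, 0],
      ![0, 1, 1, 0],
      ![0, 1, 0, 1]])]

/-- the permutation of the simple roots -/
def pi : Fin 4 → Fin 4 := ![2, 1, 3, 0]

/-- the matrix of `θ` -/
def Th : Mat 4 := ![![0, 1, 1, 0],
    ![0, -1, 0, 0],
    ![0, 1, 0, 1],
    ![1, 1, 0, 0]]

/-- the basis -/
def V : Mat 4 := ![![-1, -1, 0, 0],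
    ![0, 0, -1, 0],
    ![0, -1, 0, -1],
    ![-1, 0, 0, 0]]

/-- the coordinates -/
def B : Mat 4 := ![![0, 0, 0, -1],
    ![-1, 0, 0, 1],
    ![0, -1, 0, 0],
    ![1, 0, -1, -1]]

/-- the polynomial -/
def c : Fin 4 → ℤ := ![-1, -1, 0, 1]

/-- the representatives of the orbits of `θ` on the roots -/
def R : Fin 7 → Fin 4 → ℤ := ![![-1, -2, -1, -1],
    ![-1, -1, -1, 0],
    ![-1, -1, 0, 0],
    ![0, -1, 0, 0],
    ![1, 1, 0, 0],
    ![0, 1, 1, 1],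
    ![1, 1, 1, 1]]

/-- the values of the functional on the representatives -/
def G : Fin 7 → Fin 4 → ℤ := ![![1, 1, 1, 0],
    ![1, 1, 0, 0],
    ![1, 0, 0, 0],
    ![1, 0, 0, -1],
    ![-1, 0, 0, 0],
    ![0, -1, -1, 0],
    ![0, -1, -1, -1]]

/-- predecessor -/
def prv (r : ℕ) : ℕ := Nat.mod (Nat.shiftRight 0x16001411000f00120d0913100704000a0502080006000000 (8 * r)) 256

/-- depth -/
def dep (r : ℕ) : ℕ := Nat.mod (Nat.shiftRight 0x10002010003000402010105050100020401030002000100 (8 * r)) 256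

theorem hA : ∀ i j, Am i j = cartanOf chevD4 4 i j := by decide +kernel

theorem chainOK : ChainOK Am chain := by decide +kernel

theorem hd_pi : ∀ j, hd chain (pi j) = Th j := by decide +kernel

theorem cycOK : CycOK 4 Th V B c := by decide +kernel

theorem rootOK : RootOK chevD4 4 Th R prv dep := by decide +kernel

theorem coefOK : ∀ s i, ∑ j, R s j * B j i = G s i := by decide +kernel

theorem connOK : ConnOK Am 1 ![1, 0, 1, 1] := by decide +kernel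

theorem fN_eq (x : ℤ) : fN c x = -1 - x + x ^ 3 + x ^ 4 := by
  unfold fN c
  simp [Fin.sum_univ_succ]
  ring

theorem G_0 (x : ℤ) : Gq B x (R 0) = 1 + x + x ^ 2 := by
  rw [Gq_coef B x (R 0) (G 0) (coefOK 0)]
  unfold G
  simp [Fin.sum_univ_succ]
  try ring

theorem G_1 (x : ℤ) : Gq B x (R 1) = 1 + x := by
  rw [Gq_coef B x (R 1) (G 1) (coefOK 1)]
  unfold G
  simp [Fin.sum_univ_succ]
  try ring

theorem bez_1 (x : ℤ) : (1) * (1 + x + x ^ 2) + (-x) * (1 + x) = 1 := by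
  ring

theorem G_2 (x : ℤ) : Gq B x (R 2) = 1 := by
  rw [Gq_coef B x (R 2) (G 2) (coefOK 2)]
  unfold G
  simp [Fin.sum_univ_succ]
  try ring

theorem bez_2 (x : ℤ) : (0) * (1 + x + x ^ 2) + (1) * (1) = 1 := by
  ring

theorem G_3 (x : ℤ) : Gq B x (R 3) = 1 - x ^ 3 := by
  rw [Gq_coef B x (R 3) (G 3) (coefOK 3)]
  unfold G
  simp [Fin.sum_univ_succ]
  try ring

theorem G_4 (x : ℤ) : Gq B x (R 4) = -1 := by
  rw [Gq_coef B x (R 4) (G 4) (coefOK 4)]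
  unfold G
  simp [Fin.sum_univ_succ]
  try ring

theorem bez_4 (x : ℤ) : (0) * (1 + x + x ^ 2) + (-1) * (-1) = 1 := by
  ring

theorem G_5 (x : ℤ) : Gq B x (R 5) = -x - x ^ 2 := by
  rw [Gq_coef B x (R 5) (G 5) (coefOK 5)]
  unfold G
  simp [Fin.sum_univ_succ]
  try ring

theorem bez_5 (x : ℤ) : (1) * (1 + x + x ^ 2) + (1) * (-x - x ^ 2) = 1 := by
  ring

theorem G_6 (x : ℤ) : Gq B x (R 6) = -x - x ^ 2 - x ^ 3 := by
  rw [Gq_coef B x (R 6) (G 6) (coefOK 6)]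
  unfold G
  simp [Fin.sum_univ_succ]
  try ring

/-- Common divisors of `f(x)` and the value of `Gq` on a representative. -/
theorem dvd_of_G {x r : ℤ} (h : r ∣ 1 + x + x ^ 2) (s : Fin 7) (hs0 : s ≠ 0) (hs3 : s ≠ 3) (hs6 : s ≠ 6) (hs : r ∣ Gq B x (R s)) :
    r ∣ 1 := by
  have key : ∀ {a b g y : ℤ}, a * (1 + x + x ^ 2) + b * g = y → r ∣ g → r ∣ y := fun e hg => by
    rw [← e]
    exact dvd_add (h.mul_left _) (hg.mul_left _)
  fin_cases s
  · exact absurd rfl hs0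
  · exact key (bez_1 x) (by rw [← G_1]; exact hs)
  · exact key (bez_2 x) (by rw [← G_2]; exact hs)
  · exact absurd rfl hs3
  · exact key (bez_4 x) (by rw [← G_4]; exact hs)
  · exact key (bez_5 x) (by rw [← G_5]; exact hs)
  · exact absurd rfl hs6
/-- the exceptional roots -/
def S : Fin 6 → Fin 4 → ℤ := ![![-1, -2, -1, -1],
    ![0, 1, 0, 0],
    ![-1, -1, -1, -1],
    ![1, 2, 1, 1],
    ![0, -1, 0, 0],
    ![1, 1, 1, 1]]

/-- the elements of their reflection group -/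
def U : Fin 6 → Mat 4 := ![![![1, 0, 0, 0],
      ![0, 1, 0, 0],
      ![0, 0, 1, 0],
      ![0, 0, 0, 1]],
    ![![1, 0, 0, 0],
      ![-1, -1, -1, -1],
      ![0, 0, 1, 0],
      ![0, 0, 0, 1]],
    ![![1, 1, 0, 0],
      ![0, -1, 0, 0],
      ![0, 1, 1, 0],
      ![0, 1, 0, 1]],
    ![![1, 1, 0, 0],
      ![-1, -2, -1, -1],
      ![0, 1, 1, 0],
      ![0, 1, 0, 1]],
    ![![0, -1, -1, -1],
      ![1, 1, 1, 1],
      ![-1, -1, 0, -1],
      ![-1, -1, -1, 0]],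
    ![![0, -1, -1, -1],
      ![1, 2, 1, 1],
      ![-1, -1, 0, -1],
      ![-1, -1, -1, 0]]]

/-- coefficients -/
def C : Fin 6 → Fin 4 → Fin 6 → ℤ := ![![![0, 0, 0, 0, 0, 0],
      ![0, 0, 0, 0, 0, 0],
      ![0, 0, 0, 0, 0, 0],
      ![0, 0, 0, 0, 0, 0]],
    ![![0, 0, 0, 0, 0, 0],
      ![1, 0, 0, 0, 0, 0],
      ![0, 0, 0, 0, 0, 0],
      ![0, 0, 0, 0, 0, 0]],
    ![![0, 1, 0, 0, 0, 0],
      ![0, -2, 0, 0, 0, 0],
      ![0, 1, 0, 0, 0, 0],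
      ![0, 1, 0, 0, 0, 0]],
    ![![0, 1, 0, 0, 0, 0],
      ![1, -1, 0, 0, 0, 0],
      ![0, 1, 0, 0, 0, 0],
      ![0, 1, 0, 0, 0, 0]],
    ![![1, 1, 0, 0, 0, 0],
      ![-1, -2, 0, 0, 0, 0],
      ![1, 1, 0, 0, 0, 0],
      ![1, 1, 0, 0, 0, 0]],
    ![![1, 1, 0, 0, 0, 0],
      ![-1, -1, 0, 0, 0, 0],
      ![1, 1, 0, 0, 0, 0],
      ![1, 1, 0, 0, 0, 0]]]

/-- vectors moved by exceptional roots -/
def X : Fin 6 → Fin 4 → ℤ := ![![0, 0, 0, 0],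
    ![0, -1, 0, 0],
    ![-1, 0, 0, 0],
    ![-1, 0, 0, 0],
    ![-1, 0, 0, 0],
    ![-1, 0, 0, 0]]

theorem S_R : ∀ s : Fin 7, s = 0 ∨ s = 3 ∨ s = 6 → ∃ s', ∀ m, R s m = S s' m := by decide +kernel

theorem S_succ : ∀ i, ∃ i', ∀ m, ∑ j, S i j * Th j m = S i' m := by decide +kernel

theorem S_root : ∀ s, ∃ r : Fin 24, ∀ i : Fin 4, vec chevD4 4 r.val i = S s i := by decide +kernel

theorem grpOK : GrpOK U := by decide +kernel

theorem reflOK : ReflOK Am U S := by decide +kernel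

theorem spanOK : SpanOK U S C := by decide +kernel

theorem moveOK : MoveOK U S X := by decide +kernel

theorem GS_0 (x : ℤ) : Gq B x (S 0) = 1 + x + x ^ 2 := by
  rw [Gq_coef B x (S 0) ![1, 1, 1, 0] (by decide +kernel)]
  simp [Fin.sum_univ_succ]
  try ring

theorem GS_1 (x : ℤ) : Gq B x (S 1) = -1 + x ^ 3 := by
  rw [Gq_coef B x (S 1) ![-1, 0, 0, 1] (by decide +kernel)]
  simp [Fin.sum_univ_succ]
  try ring

theorem GS_2 (x : ℤ) : Gq B x (S 2) = x + x ^ 2 + x ^ 3 := by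
  rw [Gq_coef B x (S 2) ![0, 1, 1, 1] (by decide +kernel)]
  simp [Fin.sum_univ_succ]
  try ring

theorem GS_3 (x : ℤ) : Gq B x (S 3) = -1 - x - x ^ 2 := by
  rw [Gq_coef B x (S 3) ![-1, -1, -1, 0] (by decide +kernel)]
  simp [Fin.sum_univ_succ]
  try ring

theorem GS_4 (x : ℤ) : Gq B x (S 4) = 1 - x ^ 3 := by
  rw [Gq_coef B x (S 4) ![1, 0, 0, -1] (by decide +kernel)]
  simp [Fin.sum_univ_succ]
  try ring

theorem GS_5 (x : ℤ) : Gq B x (S 5) = -x - x ^ 2 - x ^ 3 := by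
  rw [Gq_coef B x (S 5) ![0, -1, -1, -1] (by decide +kernel)]
  simp [Fin.sum_univ_succ]
  try ring


end Cfsg.Agent.H129.DataD4T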