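import Cfsg.Agent.H129.WData

/-!
# Data of a torus of type E7 (helper129)
-/

set_option autoImplicit false

namespace Cfsg.Agent.H129.DataE7

open Cfsg.Agent.H129.TorusTw Cfsg.Agent.H129.WData Cfsg.Agent.ChevalleyStructure.CoxeterGeomTypes
open Cfsg.Lie Cfsg.Lie.ChevalleyDatum

/-- the Cartan matrix -/
def Am : Mat 7 := ![![2, 0, -1, 0, 0, 0, 0],
    ![0, 2, 0, -1, 0, 0, 0],
    ![-1, 0, 2, -1, 0, 0, 0],
    ![0, -1, -1, 2, -1, 0, 0],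
    ![0, 0, 0, -1, 2, -1, 0],
    ![0, 0, 0, 0, -1, 2, -1],
    ![0, 0, 0, 0, 0, -1, 2]]

/-- the partial products -/
def chain : List (Fin 7 × Mat 7) := [
    (2, ![![-1, 0, -1, -1, 0, 0, 0],
      ![0, 0, 0, 1, 1, 1, 0],
      ![1, 1, 2, 2, 1, 1, 0],
      ![0, 0, 0, 0, 0, 0, 1],
      ![0, -1, -1, -2, -1, -1, -1],
      ![0, 1, 0, 1, 0, 0, 0],
      ![0, 0, 1, 1, 1, 0, 0]]),
    (5, ![![-1, 0, -1, -1, 0, 0, 0],
      ![0, 0, 1, 1, 1, 1, 0],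
      ![1, 1, 1, 2, 1, 1, 0],
      ![0, 0, 0, 0, 0, 0, 1],
      ![0, -1, -1, -2, -1, -1, -1],
      ![0, 1, 1, 1, 0, 0, 0],
      ![0, 0, 0, 1, 1, 0, 0]]),
    (3, ![![-1, 0, -1, -1, 0, 0, 0],
      ![0, 0, 1, 1, 1, 0, 0],
      ![1, 1, 1, 2, 1, 0, 0],
      ![0, 0, 0, 0, 0, 1, 1],
      ![0, -1, -1, -2, -1, -1, -1],
      ![0, 1, 1, 1, 0, 0, 0],
      ![0, 0, 0, 1, 1, 1, 0]]),
    (4, ![![-1, 0, -1, 0, 0, 0, 0],
      ![0, 0, 1, 1, 1, 0, 0],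
      ![1, 1, 1, 1, 1, 0, 0],
      ![0, 0, 0, 0, 0, 1, 1],
      ![0, -1, -1, -1, -1, -1, -1],
      ![0, 1, 1, 1, 0, 0, 0],
      ![0, 0, 0, 0, 1, 1, 0]]),
    (2, ![![-1, 0, -1, 0, 0, 0, 0],
      ![0, 0, 1, 1, 0, 0, 0],
      ![1, 1, 1, 1, 0, 0, 0],
      ![0, 0, 0, 0, 1, 1, 1],
      ![0, -1, -1, -1, -1, -1, -1],
      ![0, 1, 1, 1, 1, 0, 0],
      ![0, 0, 0, 0, 0, 1, 0]]),
    (6, ![![-1, 0, 0, 0, 0, 0, 0],
      ![0, 0, 0, 1, 0, 0, 0],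
      ![1, 1, 1, 1, 0, 0, 0],
      ![0, 0, 0, 0, 1, 1, 1],
      ![0, -1, 0, -1, -1, -1, -1],
      ![0, 1, 0, 1, 1, 0, 0],
      ![0, 0, 0, 0, 0, 1, 0]]),
    (1, ![![-1, 0, 0, 0, 0, 0, 0],
      ![0, 0, 0, 1, 0, 0, 0],
      ![1, 1, 1, 1, 0, 0, 0],
      ![0, 0, 0, 0, 1, 1, 0],
      ![0, -1, 0, -1, -1, -1, 0],
      ![0, 1, 0, 1, 1, 0, 0],
      ![0, 0, 0, 0, 0, 1, 1]]),
    (5, ![![-1, 0, 0, 0, 0, 0, 0],
      ![0, 1, 0, 1, 0, 0, 0],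
      ![1, 0, 1, 1, 0, 0, 0],
      ![0, 0, 0, 0, 1, 1, 0],
      ![0, 0, 0, -1, -1, -1, 0],
      ![0, 0, 0, 1, 1, 0, 0],
      ![0, 0, 0, 0, 0, 1, 1]]),
    (3, ![![-1, 0, 0, 0, 0, 0, 0],
      ![0, 1, 0, 1, 0, 0, 0],
      ![1, 0, 1, 1, 0, 0, 0],
      ![0, 0, 0, 0, 1, 0, 0],
      ![0, 0, 0, -1, -1, 0, 0],
      ![0, 0, 0, 1, 1, 1, 0],
      ![0, 0, 0, 0, 0, 0, 1]]),
    (4, ![![-1, 0, 0, 0, 0, 0, 0],
      ![0, 1, 0, 0, 0, 0, 0],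
      ![1, 0, 1, 0, 0, 0, 0],
      ![0, 0, 0, 1, 1, 0, 0],
      ![0, 0, 0, 0, -1, 0, 0],
      ![0, 0, 0, 0, 1, 1, 0],
      ![0, 0, 0, 0, 0, 0, 1]]),
    (0, ![![-1, 0, 0, 0, 0, 0, 0],
      ![0, 1, 0, 0, 0, 0, 0],
      ![1, 0, 1, 0, 0, 0, 0],
      ![0, 0, 0, 1, 0, 0, 0],
      ![0, 0, 0, 0, 1, 0, 0],
      ![0, 0, 0, 0, 0, 1, 0],
      ![0, 0, 0, 0, 0, 0, 1]])]

/-- the matrix of `θ` -/
def Th : Mat 7 := ![![-1, 0, -1, -1, 0, 0, 0],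
    ![0, 0, 0, 1, 1, 1, 0],
    ![1, 1, 2, 2, 1, 1, 0],
    ![0, 0, 0, 0, 0, 0, 1],
    ![0, -1, -1, -2, -1, -1, -1],
    ![0, 1, 0, 1, 0, 0, 0],
    ![0, 0, 1, 1, 1, 0, 0]]

/-- the basis -/
def V : Mat 7 := ![![0, 1, 1, 2, 1, 0, 0],
    ![1, 0, 1, 1, 1, 1, 1],
    ![0, 1, 1, 1, 1, 0, 0],
    ![1, 0, 1, 1, 1, 1, 0],
    ![0, 1, 0, 0, 0, 0, 0],
    ![0, 0, 0, 1, 1, 1, 0],
    ![0, 0, -1, -1, -1, -1, 0]]

/-- the coordinates -/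
def B : Mat 7 := ![![0, 0, 0, 1, 0, 0, 1],
    ![0, 0, 0, 0, 1, 0, 0],
    ![0, 0, 0, 0, 0, -1, -1],
    ![1, 0, -1, 0, 0, 0, 0],
    ![-1, 0, 2, 0, -1, 1, 1],
    ![0, 0, -1, 0, 1, 0, -1],
    ![0, 1, 0, -1, 0, 0, 0]]

/-- the polynomial -/
def c : Fin 7 → ℤ := ![1, 0, -1, 1, 1, -1, 0]

/-- the representatives of the orbits of `θ` on the roots -/
def R : Fin 11 → Fin 7 → ℤ := ![![-2, -2, -3, -4, -3, -2, -1],
    ![1, 1, 2, 3, 2, 1, 1],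
    ![-1, -2, -2, -3, -2, -1, -1],
    ![-1, -2, -2, -3, -2, -1, 0],
    ![-1, -1, -2, -3, -2, -1, -1],
    ![-1, -1, -2, -3, -2, -1, 0],
    ![0, 0, 0, 1, 0, 0, 0],
    ![0, 0, 0, -1, 0, 0, 0],
    ![0, 1, 1, 2, 1, 0, 0],
    ![-1, 0, -1, -1, -1, -1, -1],
    ![0, -1, 0, -1, 0, 0, 0]]

/-- the values of the functional on the representatives -/
def G : Fin 11 → Fin 7 → ℤ := ![![-1, -1, 0, -1, -1, 0, 0],
    ![1, 1, 0, 0, 0, 0, 0],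
    ![-1, -1, 0, 0, -1, 0, 0],
    ![-1, 0, 0, -1, -1, 0, 0],
    ![-1, -1, 0, 0, 0, 0, 0],
    ![-1, 0, 0, -1, 0, 0, 0],
    ![1, 0, -1, 0, 0, 0, 0],
    ![-1, 0, 1, 0, 0, 0, 0],
    ![1, 0, 0, 0, 0, 0, 0],
    ![0, -1, 0, 0, 0, 0, 0],
    ![-1, 0, 1, 0, -1, 0, 0]]

/-- predecessor -/
def prv (r : ℕ) : ℕ := Nat.mod (Nat.shiftRight 0x7c6f797d6e7572785300566d74714a494d777b7a58555c7370764c57545b204b5a6369663b37005f5e622d68656c40613a363f132c4f4e520067646b393545384844121916002b2f2e516a3e47431c00111815501b1f1e3c464217141a23325d22290031070d0a2128250302063034330c091000002a0500000f00040e00 (8 * r)) 256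

/-- depth -/
def dep (r : ℕ) : ℕ := Nat.mod (Nat.shiftRight 0x6050807070507060400060601020406050809080905080703070601030b040309070a080b080005040203060409030404050203050405070009080a0b020101050a0a030a00070401050902060903000204060a01040b0b080b020a0803030a0b0200070203010905090209010a060a02010b00000b0100000701080b00 (8 * r)) 256

theorem hA : ∀ i j, Am i j = cartanOf chevE7 7 i j := by decide +kernel

theorem chainOK : ChainOK Am chain := by decide +kernel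

theorem hd_eq : hd chain = Th := rfl

theorem cycOK : CycOK 7 Th V B c := by decide +kernel

theorem rootOK : RootOK chevE7 7 Th R prv dep := by decide +kernel

theorem coefOK : ∀ s i, ∑ j, R s j * B j i = G s i := by decide +kernel

theorem fN_eq (x : ℤ) : fN c x = 1 - x ^ 2 + x ^ 3 + x ^ 4 - x ^ 5 + x ^ 7 := by
  unfold fN c
  simp [Fin.sum_univ_succ]
  ring

theorem G_0 (x : ℤ) : Gq B x (R 0) = -1 - x - x ^ 3 - x ^ 4 := by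
  rw [Gq_coef B x (R 0) (G 0) (coefOK 0)]
  unfold G
  simp [Fin.sum_univ_succ]
  try ring

theorem bez_0 (x : ℤ) : (3 + x ^ 2 + 2 * x ^ 3) * (1 - x ^ 2 + x ^ 4) + (1 - x - x ^ 2 + 2 * x ^ 3) * (-1 - x - x ^ 3 - x ^ 4) = 2 := by
  ring

theorem G_1 (x : ℤ) : Gq B x (R 1) = 1 + x := by
  rw [Gq_coef B x (R 1) (G 1) (coefOK 1)]
  unfold G
  simp [Fin.sum_univ_succ]
  try ring

theorem bez_1 (x : ℤ) : (1) * (1 - x ^ 2 + x ^ 4) + (x ^ 2 - x ^ 3) * (1 + x) = 1 := by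
  ring

theorem G_2 (x : ℤ) : Gq B x (R 2) = -1 - x - x ^ 4 := by
  rw [Gq_coef B x (R 2) (G 2) (coefOK 2)]
  unfold G
  simp [Fin.sum_univ_succ]
  try ring

theorem bez_2 (x : ℤ) : (1 - x + x ^ 2) * (1 - x ^ 2 + x ^ 4) + (-x + x ^ 2) * (-1 - x - x ^ 4) = 1 := by
  ring

theorem G_3 (x : ℤ) : Gq B x (R 3) = -1 - x ^ 3 - x ^ 4 := by
  rw [Gq_coef B x (R 3) (G 3) (coefOK 3)]
  unfold G
  simp [Fin.sum_univ_succ]
  try ring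

theorem bez_3 (x : ℤ) : (x) * (1 - x ^ 2 + x ^ 4) + (-1 + x) * (-1 - x ^ 3 - x ^ 4) = 1 := by
  ring

theorem G_4 (x : ℤ) : Gq B x (R 4) = -1 - x := by
  rw [Gq_coef B x (R 4) (G 4) (coefOK 4)]
  unfold G
  simp [Fin.sum_univ_succ]
  try ring

theorem bez_4 (x : ℤ) : (1) * (1 - x ^ 2 + x ^ 4) + (-x ^ 2 + x ^ 3) * (-1 - x) = 1 := by
  ring

theorem G_5 (x : ℤ) : Gq B x (R 5) = -1 - x ^ 3 := by
  rw [Gq_coef B x (R 5) (G 5) (coefOK 5)]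
  unfold G
  simp [Fin.sum_univ_succ]
  try ring

theorem bez_5 (x : ℤ) : (1 + x ^ 2) * (1 - x ^ 2 + x ^ 4) + (-1 + x ^ 3) * (-1 - x ^ 3) = 2 := by
  ring

theorem G_6 (x : ℤ) : Gq B x (R 6) = 1 - x ^ 2 := by
  rw [Gq_coef B x (R 6) (G 6) (coefOK 6)]
  unfold G
  simp [Fin.sum_univ_succ]
  try ring

theorem bez_6 (x : ℤ) : (1) * (1 - x ^ 2 + x ^ 4) + (x ^ 2) * (1 - x ^ 2) = 1 := by
  ring

theorem G_7 (x : ℤ) : Gq B x (R 7) = -1 + x ^ 2 := by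
  rw [Gq_coef B x (R 7) (G 7) (coefOK 7)]
  unfold G
  simp [Fin.sum_univ_succ]
  try ring

theorem bez_7 (x : ℤ) : (1) * (1 - x ^ 2 + x ^ 4) + (-x ^ 2) * (-1 + x ^ 2) = 1 := by
  ring

theorem G_8 (x : ℤ) : Gq B x (R 8) = 1 := by
  rw [Gq_coef B x (R 8) (G 8) (coefOK 8)]
  unfold G
  simp [Fin.sum_univ_succ]
  try ring

theorem bez_8 (x : ℤ) : (0) * (1 - x ^ 2 + x ^ 4) + (1) * (1) = 1 := by
  ring

theorem G_9 (x : ℤ) : Gq B x (R 9) = -x := by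
  rw [Gq_coef B x (R 9) (G 9) (coefOK 9)]
  unfold G
  simp [Fin.sum_univ_succ]
  try ring

theorem bez_9 (x : ℤ) : (1) * (1 - x ^ 2 + x ^ 4) + (-x + x ^ 3) * (-x) = 1 := by
  ring

theorem G_10 (x : ℤ) : Gq B x (R 10) = -1 + x ^ 2 - x ^ 4 := by
  rw [Gq_coef B x (R 10) (G 10) (coefOK 10)]
  unfold G
  simp [Fin.sum_univ_succ]
  try ring

/-- Common divisors of `f(x)` and the value of `Gq` on a representative. -/
theorem dvd_of_G {x r : ℤ} (h : r ∣ 1 - x ^ 2 + x ^ 4) (s : Fin 11) (hs10 : s ≠ 10) (hs : r ∣ Gq B x (R s)) :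
    r ∣ 1 ∨ r ∣ 2 := by
  have key : ∀ {a b g y : ℤ}, a * (1 - x ^ 2 + x ^ 4) + b * g = y → r ∣ g → r ∣ y := fun e hg => by
    rw [← e]
    exact dvd_add (h.mul_left _) (hg.mul_left _)
  fin_cases s
  · exact Or.inr (key (bez_0 x) (by rw [← G_0]; exact hs))
  · exact Or.inl (key (bez_1 x) (by rw [← G_1]; exact hs))
  · exact Or.inl (key (bez_2 x) (by rw [← G_2]; exact hs))
  · exact Or.inl (key (bez_3 x) (by rw [← G_3]; exact hs))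
  · exact Or.inl (key (bez_4 x) (by rw [← G_4]; exact hs))
  · exact Or.inr (key (bez_5 x) (by rw [← G_5]; exact hs))
  · exact Or.inl (key (bez_6 x) (by rw [← G_6]; exact hs))
  · exact Or.inl (key (bez_7 x) (by rw [← G_7]; exact hs))
  · exact Or.inl (key (bez_8 x) (by rw [← G_8]; exact hs))
  · exact Or.inl (key (bez_9 x) (by rw [← G_9]; exact hs))
  · exact absurd rfl hs10
/-- the exceptional orbit -/
def S10 : Fin 6 → Fin 7 → ℤ := ![![0, -1, 0, -1, 0, 0, 0],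
    ![0, 0, 0, -1, -1, -1, -1],
    ![0, 0, 0, 0, 0, 1, 0],
    ![0, 1, 0, 1, 0, 0, 0],
    ![0, 0, 0, 1, 1, 1, 1],
    ![0, 0, 0, 0, 0, -1, 0]]

theorem S10_zero : S10 0 = R 10 := rfl

theorem S10_succ : ∀ i m, ∑ j, S10 i j * Th j m = S10 (i + 1) m := by decide +kernel

theorem S10_tab : ∀ i j, (∀ m, S10 j m = S10 i m) ∨ (∀ m, S10 j m = - S10 i m) ∨
    ∑ m, S10 i m * ∑ n, Am m n * S10 j n = 0 := by decide +kernel

theorem GS10_0 (x : ℤ) : Gq B x (S10 0) = -1 + x ^ 2 - x ^ 4 := by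
  rw [Gq_coef B x (S10 0) ![-1, 0, 1, 0, -1, 0, 0] (by decide +kernel)]
  simp [Fin.sum_univ_succ]
  try ring

theorem GS10_1 (x : ℤ) : Gq B x (S10 1) = -x + x ^ 3 - x ^ 5 := by
  rw [Gq_coef B x (S10 1) ![0, -1, 0, 1, 0, -1, 0] (by decide +kernel)]
  simp [Fin.sum_univ_succ]
  try ring

theorem GS10_2 (x : ℤ) : Gq B x (S10 2) = -x ^ 2 + x ^ 4 - x ^ 6 := by
  rw [Gq_coef B x (S10 2) ![0, 0, -1, 0, 1, 0, -1] (by decide +kernel)]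
  simp [Fin.sum_univ_succ]
  try ring

theorem GS10_3 (x : ℤ) : Gq B x (S10 3) = 1 - x ^ 2 + x ^ 4 := by
  rw [Gq_coef B x (S10 3) ![1, 0, -1, 0, 1, 0, 0] (by decide +kernel)]
  simp [Fin.sum_univ_succ]
  try ring

theorem GS10_4 (x : ℤ) : Gq B x (S10 4) = x - x ^ 3 + x ^ 5 := by
  rw [Gq_coef B x (S10 4) ![0, 1, 0, -1, 0, 1, 0] (by decide +kernel)]
  simp [Fin.sum_univ_succ]
  try ring

theorem GS10_5 (x : ℤ) : Gq B x (S10 5) = x ^ 2 - x ^ 4 + x ^ 6 := by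
  rw [Gq_coef B x (S10 5) ![0, 0, 1, 0, -1, 0, 1] (by decide +kernel)]
  simp [Fin.sum_univ_succ]
  try ring


end Cfsg.Agent.H129.DataE7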