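import Cfsg.Agent.H129.SuzT

/-!
# Data of the torus of order `4x⁴ + 4x³ + 2x² + 2x + 1` of `²F₄(2x²)` (helper129)
-/

set_option autoImplicit false

namespace Cfsg.Agent.H129.DataSzp

open Cfsg.Agent.H129.WData Cfsg.Agent.H129.SuzT Cfsg.Agent.H493.F4Tor Cfsg.Agent.ChevalleyStructure.CoxeterGeomTypes
open Cfsg.Lie Cfsg.Lie.ChevalleyDatum

/-- the Cartan matrix -/
def Am : Mat 4 := ![![2, -1, 0, 0],
    ![-1, 2, -2, 0],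
    ![0, -1, 2, -1],
    ![0, 0, -1, 2]]

/-- the partial products -/
def chain : List (Fin 4 × Mat 4) := [
    (2, ![![0, 1, 1, 0],
      ![-1, -2, -2, -1],
      ![0, 0, 1, 1],
      ![2, 4, 2, 1]]),
    (0, ![![0, 1, 0, 0],
      ![-1, -2, -1, -1],
      ![0, 0, 0, 1],
      ![2, 4, 3, 1]]),
    (1, ![![1, 1, 0, 0],
      ![-1, -2, -1, -1],
      ![0, 0, 0, 1],
      ![2, 4, 3, 1]]),
    (2, ![![1, 0, 0, 0],
      ![-1, -1, -1, -1],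
      ![0, 0, 0, 1],
      ![2, 4, 3, 1]]),
    (3, ![![1, 0, 0, 0],
      ![-1, -1, -1, -1],
      ![0, 0, 1, 1],
      ![2, 4, 2, 1]]),
    (1, ![![1, 0, 0, 0],
      ![-1, -1, -1, 0],
      ![0, 0, 1, 0],
      ![2, 4, 2, 1]]),
    (2, ![![1, 1, 0, 0],
      ![-1, -2, -1, 0],
      ![0, 2, 1, 0],
      ![2, 2, 2, 1]]),
    (0, ![![1, 1, 1, 0],
      ![-1, -2, -1, 0],
      ![0, 2, 1, 0],
      ![2, 2, 1, 1]]),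
    (1, ![![0, 1, 1, 0],
      ![-1, -2, -1, 0],
      ![2, 2, 1, 0],
      ![0, 2, 1, 1]]),
    (2, ![![0, 1, 1, 0],
      ![-1, -1, -1, 0],
      ![2, 2, 1, 0],
      ![0, 0, 1, 1]]),
    (0, ![![0, 1, 0, 0],
      ![-1, -1, 0, 0],
      ![2, 2, 1, 0],
      ![0, 0, 0, 1]]),
    (1, ![![1, 1, 0, 0],
      ![0, -1, 0, 0],
      ![0, 2, 1, 0],
      ![0, 0, 0, 1]])]

/-- the images of the simple roots -/
def Th : Fin 4 → Fin 4 → ℤ := ![![2, 4, 2, 1],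
    ![0, 0, 1, 1],
    ![-1, -2, -2, -1],
    ![0, 1, 1, 0]]

/-- the vector -/
def v : Fin 4 → ℤ := ![0, -1, 0, 0]

/-- the functional -/
def L (x : ℤ) : Fin 4 → ℤ := ![1 + 2 * x + 2 * x ^ 2, -1, 2 + 4 * x ^ 3, -2 - 2 * x - 4 * x ^ 3]

/-- the certificate -/
def S (x : ℤ) : Fin 4 → Fin 4 → ℤ := ![![0, -1 - x, -1, -1],
    ![0, 0, 0, 0],
    ![1, 1 - 2 * x ^ 2, 2 - 2 * x, 2 - 2 * x],
    ![-1, 2 * x ^ 2, -2 + 2 * x, -2 + 2 * x]]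

/-- the certificate -/
def A (x : ℤ) : Fin 4 → ℤ := ![-1 - x, -1 + 2 * x ^ 2 + 2 * x ^ 3, -2 + 2 * x ^ 2, -1 + 2 * x ^ 2]

theorem hAm : ∀ i j, Am i j = cartanOf chevF4 4 i j := by decide +kernel

theorem chainOK : ChainOK Am chain := by decide +kernel

theorem hTh : ∀ j, hd chain (rv j) = Th j := by decide +kernel

theorem hL0 (x : ℤ) : ∑ i, rowM Th x 0 i * L x i = (1 + 2 * x + 2 * x ^ 2 + 4 * x ^ 3 + 4 * x ^ 4) * (0) := by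
  simp [rowM, Th, L, eN, Fin.sum_univ_succ]
  try ring

theorem hL1 (x : ℤ) : ∑ i, rowM Th x 1 i * L x i = (1 + 2 * x + 2 * x ^ 2 + 4 * x ^ 3 + 4 * x ^ 4) * (0) := by
  simp [rowM, Th, L, eN, Fin.sum_univ_succ]
  try ring

theorem hL2 (x : ℤ) : ∑ i, rowM Th x 2 i * L x i = (1 + 2 * x + 2 * x ^ 2 + 4 * x ^ 3 + 4 * x ^ 4) * (-1) := by
  simp [rowM, Th, L, eN, Fin.sum_univ_succ]
  try ring

theorem hL3 (x : ℤ) : ∑ i, rowM Th x 3 i * L x i = (1 + 2 * x + 2 * x ^ 2 + 4 * x ^ 3 + 4 * x ^ 4) * (1) := by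
  simp [rowM, Th, L, eN, Fin.sum_univ_succ]
  try ring

theorem hL (x : ℤ) (j : Fin 4) : 1 + 2 * x + 2 * x ^ 2 + 4 * x ^ 3 + 4 * x ^ 4 ∣ ∑ i, rowM Th x j i * L x i := by
  fin_cases j
  · exact ⟨_, hL0 x⟩
  · exact ⟨_, hL1 x⟩
  · exact ⟨_, hL2 x⟩
  · exact ⟨_, hL3 x⟩

theorem hv (x : ℤ) : ∑ i, v i * L x i = 1 := by
  simp [v, L, Fin.sum_univ_succ]
  try ring

theorem hS00 (x : ℤ) : (1 : ℤ) = L x 0 * v 0 + ∑ j, S x 0 j * rowM Th x j 0 := by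
  simp [rowM, Th, L, eN, v, S, Fin.sum_univ_succ]
  try ring

theorem hS01 (x : ℤ) : (0 : ℤ) = L x 0 * v 1 + ∑ j, S x 0 j * rowM Th x j 1 := by
  simp [rowM, Th, L, eN, v, S, Fin.sum_univ_succ]
  try ring

theorem hS02 (x : ℤ) : (0 : ℤ) = L x 0 * v 2 + ∑ j, S x 0 j * rowM Th x j 2 := by
  simp [rowM, Th, L, eN, v, S, Fin.sum_univ_succ]
  try ring

theorem hS03 (x : ℤ) : (0 : ℤ) = L x 0 * v 3 + ∑ j, S x 0 j * rowM Th x j 3 := by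
  simp [rowM, Th, L, eN, v, S, Fin.sum_univ_succ]
  try ring

theorem hS10 (x : ℤ) : (0 : ℤ) = L x 1 * v 0 + ∑ j, S x 1 j * rowM Th x j 0 := by
  simp [rowM, Th, L, eN, v, S, Fin.sum_univ_succ]
  try ring

theorem hS11 (x : ℤ) : (1 : ℤ) = L x 1 * v 1 + ∑ j, S x 1 j * rowM Th x j 1 := by
  simp [rowM, Th, L, eN, v, S, Fin.sum_univ_succ]
  try ring

theorem hS12 (x : ℤ) : (0 : ℤ) = L x 1 * v 2 + ∑ j, S x 1 j * rowM Th x j 2 := by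
  simp [rowM, Th, L, eN, v, S, Fin.sum_univ_succ]
  try ring

theorem hS13 (x : ℤ) : (0 : ℤ) = L x 1 * v 3 + ∑ j, S x 1 j * rowM Th x j 3 := by
  simp [rowM, Th, L, eN, v, S, Fin.sum_univ_succ]
  try ring

theorem hS20 (x : ℤ) : (0 : ℤ) = L x 2 * v 0 + ∑ j, S x 2 j * rowM Th x j 0 := by
  simp [rowM, Th, L, eN, v, S, Fin.sum_univ_succ]
  try ring

theorem hS21 (x : ℤ) : (0 : ℤ) = L x 2 * v 1 + ∑ j, S x 2 j * rowM Th x j 1 := by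
  simp [rowM, Th, L, eN, v, S, Fin.sum_univ_succ]
  try ring

theorem hS22 (x : ℤ) : (1 : ℤ) = L x 2 * v 2 + ∑ j, S x 2 j * rowM Th x j 2 := by
  simp [rowM, Th, L, eN, v, S, Fin.sum_univ_succ]
  try ring

theorem hS23 (x : ℤ) : (0 : ℤ) = L x 2 * v 3 + ∑ j, S x 2 j * rowM Th x j 3 := by
  simp [rowM, Th, L, eN, v, S, Fin.sum_univ_succ]
  try ring

theorem hS30 (x : ℤ) : (0 : ℤ) = L x 3 * v 0 + ∑ j, S x 3 j * rowM Th x j 0 := by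
  simp [rowM, Th, L, eN, v, S, Fin.sum_univ_succ]
  try ring

theorem hS31 (x : ℤ) : (0 : ℤ) = L x 3 * v 1 + ∑ j, S x 3 j * rowM Th x j 1 := by
  simp [rowM, Th, L, eN, v, S, Fin.sum_univ_succ]
  try ring

theorem hS32 (x : ℤ) : (0 : ℤ) = L x 3 * v 2 + ∑ j, S x 3 j * rowM Th x j 2 := by
  simp [rowM, Th, L, eN, v, S, Fin.sum_univ_succ]
  try ring

theorem hS33 (x : ℤ) : (1 : ℤ) = L x 3 * v 3 + ∑ j, S x 3 j * rowM Th x j 3 := by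
  simp [rowM, Th, L, eN, v, S, Fin.sum_univ_succ]
  try ring

theorem hS (x : ℤ) (i a : Fin 4) : (if i = a then 1 else 0) = L x i * v a + ∑ j, S x i j * rowM Th x j a := by
  fin_cases i <;> fin_cases a
  · exact hS00 x
  · exact hS01 x
  · exact hS02 x
  · exact hS03 x
  · exact hS10 x
  · exact hS11 x
  · exact hS12 x
  · exact hS13 x
  · exact hS20 x
  · exact hS21 x
  · exact hS22 x
  · exact hS23 x
  · exact hS30 x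
  · exact hS31 x
  · exact hS32 x
  · exact hS33 x

theorem hA0 (x : ℤ) : (1 + 2 * x + 2 * x ^ 2 + 4 * x ^ 3 + 4 * x ^ 4) * v 0 = ∑ j, A x j * rowM Th x j 0 := by
  simp [rowM, Th, eN, v, A, Fin.sum_univ_succ]
  try ring

theorem hA1 (x : ℤ) : (1 + 2 * x + 2 * x ^ 2 + 4 * x ^ 3 + 4 * x ^ 4) * v 1 = ∑ j, A x j * rowM Th x j 1 := by
  simp [rowM, Th, eN, v, A, Fin.sum_univ_succ]
  try ring

theorem hA2 (x : ℤ) : (1 + 2 * x + 2 * x ^ 2 + 4 * x ^ 3 + 4 * x ^ 4) * v 2 = ∑ j, A x j * rowM Th x j 2 := by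
  simp [rowM, Th, eN, v, A, Fin.sum_univ_succ]
  try ring

theorem hA3 (x : ℤ) : (1 + 2 * x + 2 * x ^ 2 + 4 * x ^ 3 + 4 * x ^ 4) * v 3 = ∑ j, A x j * rowM Th x j 3 := by
  simp [rowM, Th, eN, v, A, Fin.sum_univ_succ]
  try ring

theorem hA (x : ℤ) (a : Fin 4) : (1 + 2 * x + 2 * x ^ 2 + 4 * x ^ 3 + 4 * x ^ 4) * v a = ∑ j, A x j * rowM Th x j a := by
  fin_cases a
  · exact hA0 x
  · exact hA1 x
  · exact hA2 x
  · exact hA3 x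

theorem G_0 (x : ℤ) : La (L x) (RT 0) = -2 - 2 * x - 4 * x ^ 3 := by
  rw [show RT 0 = ![0, 0, 0, 1] from rfl]
  simp [La, L, Fin.sum_univ_succ]
  try ring

theorem bez_0 (x : ℤ) : (3 - 2 * x + 4 * x ^ 2) * (1 + 2 * x + 2 * x ^ 2 + 4 * x ^ 3 + 4 * x ^ 4) + (1 + x + 2 * x ^ 2 + 4 * x ^ 3) * (-2 - 2 * x - 4 * x ^ 3) = 1 := by
  ring

theorem G_1 (x : ℤ) : La (L x) (RT 1) = 2 + 4 * x ^ 3 := by
  rw [show RT 1 = ![0, 0, 1, 0] from rfl]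
  simp [La, L, Fin.sum_univ_succ]
  try ring

theorem bez_1 (x : ℤ) : (1 - 2 * x + 2 * x ^ 2) * (1 + 2 * x + 2 * x ^ 2 + 4 * x ^ 3 + 4 * x ^ 4) + (-2 * x ^ 3) * (2 + 4 * x ^ 3) = 1 := by
  ring

theorem G_2 (x : ℤ) : La (L x) (RT 2) = -2 * x := by
  rw [show RT 2 = ![0, 0, 1, 1] from rfl]
  simp [La, L, Fin.sum_univ_succ]
  try ring

theorem bez_2 (x : ℤ) : (1) * (1 + 2 * x + 2 * x ^ 2 + 4 * x ^ 3 + 4 * x ^ 4) + (1 + x + 2 * x ^ 2 + 2 * x ^ 3) * (-2 * x) = 1 := by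
  ring

theorem G_3 (x : ℤ) : La (L x) (RT 3) = -1 := by
  rw [show RT 3 = ![0, 1, 0, 0] from rfl]
  simp [La, L, Fin.sum_univ_succ]
  try ring

theorem bez_3 (x : ℤ) : (0) * (1 + 2 * x + 2 * x ^ 2 + 4 * x ^ 3 + 4 * x ^ 4) + (-1) * (-1) = 1 := by
  ring

theorem G_4 (x : ℤ) : La (L x) (RT 4) = 1 + 4 * x ^ 3 := by
  rw [show RT 4 = ![0, 1, 1, 0] from rfl]
  simp [La, L, Fin.sum_univ_succ]
  try ring

theorem bez_4 (x : ℤ) : (2 - 4 * x + 4 * x ^ 2) * (1 + 2 * x + 2 * x ^ 2 + 4 * x ^ 3 + 4 * x ^ 4) + (-1 - 4 * x ^ 3) * (1 + 4 * x ^ 3) = 1 := by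
  ring

theorem G_5 (x : ℤ) : La (L x) (RT 5) = -1 - 2 * x := by
  rw [show RT 5 = ![0, 1, 1, 1] from rfl]
  simp [La, L, Fin.sum_univ_succ]
  try ring

theorem bez_5 (x : ℤ) : (4) * (1 + 2 * x + 2 * x ^ 2 + 4 * x ^ 3 + 4 * x ^ 4) + (3 + 2 * x + 4 * x ^ 2 + 8 * x ^ 3) * (-1 - 2 * x) = 1 := by
  ring

theorem G_6 (x : ℤ) : La (L x) (RT 6) = 4 * x ^ 3 := by
  rw [show RT 6 = ![0, 2, 1, 0] from rfl]
  simp [La, L, Fin.sum_univ_succ]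
  try ring

theorem bez_6 (x : ℤ) : (1 - 2 * x + 2 * x ^ 2) * (1 + 2 * x + 2 * x ^ 2 + 4 * x ^ 3 + 4 * x ^ 4) + (-1 - 2 * x ^ 3) * (4 * x ^ 3) = 1 := by
  ring

theorem G_7 (x : ℤ) : La (L x) (RT 7) = -2 - 2 * x := by
  rw [show RT 7 = ![0, 2, 1, 1] from rfl]
  simp [La, L, Fin.sum_univ_succ]
  try ring

theorem bez_7 (x : ℤ) : (1) * (1 + 2 * x + 2 * x ^ 2 + 4 * x ^ 3 + 4 * x ^ 4) + (x + 2 * x ^ 3) * (-2 - 2 * x) = 1 := by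
  ring

theorem G_8 (x : ℤ) : La (L x) (RT 8) = -2 * x + 4 * x ^ 3 := by
  rw [show RT 8 = ![0, 2, 2, 1] from rfl]
  simp [La, L, Fin.sum_univ_succ]
  try ring

theorem bez_8 (x : ℤ) : (1 - 4 * x + 4 * x ^ 2) * (1 + 2 * x + 2 * x ^ 2 + 4 * x ^ 3 + 4 * x ^ 4) + (-1 - x - 4 * x ^ 3) * (-2 * x + 4 * x ^ 3) = 1 := by
  ring

theorem G_9 (x : ℤ) : La (L x) (RT 9) = 1 + 2 * x + 2 * x ^ 2 := by
  rw [show RT 9 = ![1, 0, 0, 0] from rfl]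
  simp [La, L, Fin.sum_univ_succ]
  try ring

theorem bez_9 (x : ℤ) : (-1 - 2 * x) * (1 + 2 * x + 2 * x ^ 2 + 4 * x ^ 3 + 4 * x ^ 4) + (2 + 2 * x ^ 2 + 4 * x ^ 3) * (1 + 2 * x + 2 * x ^ 2) = 1 := by
  ring

theorem G_10 (x : ℤ) : La (L x) (RT 10) = 2 * x + 2 * x ^ 2 := by
  rw [show RT 10 = ![1, 1, 0, 0] from rfl]
  simp [La, L, Fin.sum_univ_succ]
  try ring

theorem bez_10 (x : ℤ) : (1) * (1 + 2 * x + 2 * x ^ 2 + 4 * x ^ 3 + 4 * x ^ 4) + (-1 - 2 * x ^ 2) * (2 * x + 2 * x ^ 2) = 1 := by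
  ring

theorem G_11 (x : ℤ) : La (L x) (RT 11) = 2 + 2 * x + 2 * x ^ 2 + 4 * x ^ 3 := by
  rw [show RT 11 = ![1, 1, 1, 0] from rfl]
  simp [La, L, Fin.sum_univ_succ]
  try ring

theorem bez_11 (x : ℤ) : (3 + 4 * x ^ 2) * (1 + 2 * x + 2 * x ^ 2 + 4 * x ^ 3 + 4 * x ^ 4) + (-1 - 2 * x - 2 * x ^ 2 - 4 * x ^ 3) * (2 + 2 * x + 2 * x ^ 2 + 4 * x ^ 3) = 1 := by
  ring

theorem G_12 (x : ℤ) : La (L x) (RT 12) = 2 * x ^ 2 := by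
  rw [show RT 12 = ![1, 1, 1, 1] from rfl]
  simp [La, L, Fin.sum_univ_succ]
  try ring

theorem bez_12 (x : ℤ) : (1 - 2 * x) * (1 + 2 * x + 2 * x ^ 2 + 4 * x ^ 3 + 4 * x ^ 4) + (1 + 2 * x ^ 2 + 4 * x ^ 3) * (2 * x ^ 2) = 1 := by
  ring

theorem G_13 (x : ℤ) : La (L x) (RT 13) = 1 + 2 * x + 2 * x ^ 2 + 4 * x ^ 3 := by
  rw [show RT 13 = ![1, 2, 1, 0] from rfl]
  simp [La, L, Fin.sum_univ_succ]
  try ring

theorem bez_13 (x : ℤ) : (3 + 4 * x ^ 2) * (1 + 2 * x + 2 * x ^ 2 + 4 * x ^ 3 + 4 * x ^ 4) + (-2 - 2 * x - 2 * x ^ 2 - 4 * x ^ 3) * (1 + 2 * x + 2 * x ^ 2 + 4 * x ^ 3) = 1 := by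
  ring

theorem G_14 (x : ℤ) : La (L x) (RT 14) = -1 + 2 * x ^ 2 := by
  rw [show RT 14 = ![1, 2, 1, 1] from rfl]
  simp [La, L, Fin.sum_univ_succ]
  try ring

theorem bez_14 (x : ℤ) : (3 - 4 * x) * (1 + 2 * x + 2 * x ^ 2 + 4 * x ^ 3 + 4 * x ^ 4) + (2 + 2 * x + 2 * x ^ 2 + 8 * x ^ 3) * (-1 + 2 * x ^ 2) = 1 := by
  ring

theorem G_15 (x : ℤ) : La (L x) (RT 15) = 1 + 2 * x ^ 2 + 4 * x ^ 3 := by
  rw [show RT 15 = ![1, 2, 2, 1] from rfl]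
  simp [La, L, Fin.sum_univ_succ]
  try ring

theorem bez_15 (x : ℤ) : (1 - 2 * x) * (1 + 2 * x + 2 * x ^ 2 + 4 * x ^ 3 + 4 * x ^ 4) + (2 * x ^ 2) * (1 + 2 * x ^ 2 + 4 * x ^ 3) = 1 := by
  ring

theorem G_16 (x : ℤ) : La (L x) (RT 16) = 2 * x ^ 2 + 4 * x ^ 3 := by
  rw [show RT 16 = ![1, 3, 2, 1] from rfl]
  simp [La, L, Fin.sum_univ_succ]
  try ring

theorem bez_16 (x : ℤ) : (1 - 2 * x + 8 * x ^ 2) * (1 + 2 * x + 2 * x ^ 2 + 4 * x ^ 3 + 4 * x ^ 4) + (-3 - 2 * x - 2 * x ^ 2 - 8 * x ^ 3) * (2 * x ^ 2 + 4 * x ^ 3) = 1 := by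
  ring

theorem G_17 (x : ℤ) : La (L x) (RT 17) = 2 + 4 * x + 4 * x ^ 2 + 4 * x ^ 3 := by
  rw [show RT 17 = ![2, 2, 1, 0] from rfl]
  simp [La, L, Fin.sum_univ_succ]
  try ring

theorem bez_17 (x : ℤ) : (5 + 2 * x + 6 * x ^ 2) * (1 + 2 * x + 2 * x ^ 2 + 4 * x ^ 3 + 4 * x ^ 4) + (-2 - 2 * x - 2 * x ^ 2 - 6 * x ^ 3) * (2 + 4 * x + 4 * x ^ 2 + 4 * x ^ 3) = 1 := by
  ring

theorem G_18 (x : ℤ) : La (L x) (RT 18) = 2 * x + 4 * x ^ 2 := by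
  rw [show RT 18 = ![2, 2, 1, 1] from rfl]
  simp [La, L, Fin.sum_univ_succ]
  try ring

theorem bez_18 (x : ℤ) : (1 - 6 * x) * (1 + 2 * x + 2 * x ^ 2 + 4 * x ^ 3 + 4 * x ^ 4) + (2 + x + 2 * x ^ 2 + 6 * x ^ 3) * (2 * x + 4 * x ^ 2) = 1 := by
  ring

theorem G_19 (x : ℤ) : La (L x) (RT 19) = 2 + 2 * x + 4 * x ^ 2 + 4 * x ^ 3 := by
  rw [show RT 19 = ![2, 2, 2, 1] from rfl]
  simp [La, L, Fin.sum_univ_succ]
  try ring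

theorem bez_19 (x : ℤ) : (1) * (1 + 2 * x + 2 * x ^ 2 + 4 * x ^ 3 + 4 * x ^ 4) + (-x) * (2 + 2 * x + 4 * x ^ 2 + 4 * x ^ 3) = 1 := by
  ring

theorem G_20 (x : ℤ) : La (L x) (RT 20) = 1 + 2 * x + 4 * x ^ 2 + 4 * x ^ 3 := by
  rw [show RT 20 = ![2, 3, 2, 1] from rfl]
  simp [La, L, Fin.sum_univ_succ]
  try ring

theorem bez_20 (x : ℤ) : (2 + 4 * x ^ 2) * (1 + 2 * x + 2 * x ^ 2 + 4 * x ^ 3 + 4 * x ^ 4) + (-1 - 2 * x - 4 * x ^ 3) * (1 + 2 * x + 4 * x ^ 2 + 4 * x ^ 3) = 1 := by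
  ring

theorem G_21 (x : ℤ) : La (L x) (RT 21) = 2 * x + 4 * x ^ 2 + 4 * x ^ 3 := by
  rw [show RT 21 = ![2, 4, 2, 1] from rfl]
  simp [La, L, Fin.sum_univ_succ]
  try ring

theorem bez_21 (x : ℤ) : (1 + 2 * x + 4 * x ^ 2) * (1 + 2 * x + 2 * x ^ 2 + 4 * x ^ 3 + 4 * x ^ 4) + (-2 - x - 2 * x ^ 2 - 4 * x ^ 3) * (2 * x + 4 * x ^ 2 + 4 * x ^ 3) = 1 := by
  ring

theorem G_22 (x : ℤ) : La (L x) (RT 22) = 2 + 2 * x + 4 * x ^ 2 + 8 * x ^ 3 := by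
  rw [show RT 22 = ![2, 4, 3, 1] from rfl]
  simp [La, L, Fin.sum_univ_succ]
  try ring

theorem bez_22 (x : ℤ) : (3 - 2 * x + 4 * x ^ 2) * (1 + 2 * x + 2 * x ^ 2 + 4 * x ^ 3 + 4 * x ^ 4) + (-1 - x - 2 * x ^ 3) * (2 + 2 * x + 4 * x ^ 2 + 8 * x ^ 3) = 1 := by
  ring

theorem G_23 (x : ℤ) : La (L x) (RT 23) = 4 * x ^ 2 + 4 * x ^ 3 := by
  rw [show RT 23 = ![2, 4, 3, 2] from rfl]
  simp [La, L, Fin.sum_univ_succ]
  try ring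

theorem bez_23 (x : ℤ) : (1 - 2 * x - 2 * x ^ 2) * (1 + 2 * x + 2 * x ^ 2 + 4 * x ^ 3 + 4 * x ^ 4) + (1 + 2 * x ^ 2 + 2 * x ^ 3) * (4 * x ^ 2 + 4 * x ^ 3) = 1 := by
  ring

/-- Common divisors of `N` and the value of the functional on a root. -/
theorem dvd_of_G {x r : ℤ} (h : r ∣ 1 + 2 * x + 2 * x ^ 2 + 4 * x ^ 3 + 4 * x ^ 4) (s : Fin 24) (hs : r ∣ La (L x) (RT s)) :
    r ∣ 1 := by
  have key : ∀ {a b g y : ℤ}, a * (1 + 2 * x + 2 * x ^ 2 + 4 * x ^ 3 + 4 * x ^ 4) + b * g = y → r ∣ g → r ∣ y := fun e hg => by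
    rw [← e]
    exact dvd_add (h.mul_left _) (hg.mul_left _)
  fin_cases s
  · exact key (bez_0 x) (by rw [← G_0]; exact hs)
  · exact key (bez_1 x) (by rw [← G_1]; exact hs)
  · exact key (bez_2 x) (by rw [← G_2]; exact hs)
  · exact key (bez_3 x) (by rw [← G_3]; exact hs)
  · exact key (bez_4 x) (by rw [← G_4]; exact hs)
  · exact key (bez_5 x) (by rw [← G_5]; exact hs)
  · exact key (bez_6 x) (by rw [← G_6]; exact hs)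
  · exact key (bez_7 x) (by rw [← G_7]; exact hs)
  · exact key (bez_8 x) (by rw [← G_8]; exact hs)
  · exact key (bez_9 x) (by rw [← G_9]; exact hs)
  · exact key (bez_10 x) (by rw [← G_10]; exact hs)
  · exact key (bez_11 x) (by rw [← G_11]; exact hs)
  · exact key (bez_12 x) (by rw [← G_12]; exact hs)
  · exact key (bez_13 x) (by rw [← G_13]; exact hs)
  · exact key (bez_14 x) (by rw [← G_14]; exact hs)
  · exact key (bez_15 x) (by rw [← G_15]; exact hs)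
  · exact key (bez_16 x) (by rw [← G_16]; exact hs)
  · exact key (bez_17 x) (by rw [← G_17]; exact hs)
  · exact key (bez_18 x) (by rw [← G_18]; exact hs)
  · exact key (bez_19 x) (by rw [← G_19]; exact hs)
  · exact key (bez_20 x) (by rw [← G_20]; exact hs)
  · exact key (bez_21 x) (by rw [← G_21]; exact hs)
  · exact key (bez_22 x) (by rw [← G_22]; exact hs)
  · exact key (bez_23 x) (by rw [← G_23]; exact hs)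

end Cfsg.Agent.H129.DataSzp
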