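import Cfsg.Agent.H129.CommDiag
import Cfsg.Agent.H129.CycCard
import Cfsg.Agent.H436.Ppd

/-!
# `E₇(q)`: the tori of order `q⁷ + 1` and `(q + 1)(q⁶ - q³ + 1)` (helper129)

`e7_no_common` : an element of prime order `t`, `t ∣ q + 1`, does not commute with elements of both orders `r` and `s`,
`r`, `s` primitive prime divisors of `q¹⁴ - 1` and `q¹⁸ - 1`.
-/

set_option autoImplicit false
set_option linter.unusedSectionVars false

namespace Cfsg.Agent.H129.E7Common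

open CoxeterSystem Cfsg Cfsg.Lie Cfsg.Lie.ChevalleyDatum
open Cfsg.Agent.ChevalleyStructure Cfsg.Agent.ChevalleyStructure.Elts Cfsg.Agent.ChevalleyStructure.CoxeterGeom
  Cfsg.Agent.ChevalleyStructure.CoxeterGeomTypes Cfsg.Agent.ChevalleyStructure.NPerm
open Cfsg.Agent.Tits.Roots Cfsg.Agent.Tits.Core Cfsg.Agent.Nodes Cfsg.Agent.Nodes.Reps Cfsg.Agent.Nodes.BNOf
  Cfsg.Agent.Nodes.RGDChev Cfsg.Agent.Nodes.Bruhat Cfsg.Agent.Nodes.SubComb Cfsg.Agent.Nodes.Coroot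
open Cfsg.Agent.KFacts.RgdField Cfsg.Agent.KFacts.RgdChevCoord Cfsg.Agent.BpExc.TorCent Cfsg.Agent.BpExc.TorChev
open Cfsg.Agent.GpExc.Field Cfsg.Agent.BpExc.Tow Cfsg.Agent.BpExc.TowChev Cfsg.Agent.BpExc.Fr
  Cfsg.Agent.BpExc.LangFr Cfsg.Agent.LangThm Cfsg.Agent.BpExc Cfsg.Agent.H129.TorusChar Cfsg.Agent.H129.TorusCent
  Cfsg.Agent.H129.TorusTw Cfsg.Agent.H129.TorusMain Cfsg.Agent.H129.TorusUntw Cfsg.Agent.H129.TorAct
  Cfsg.Agent.H129.WData Cfsg.Agent.H129.UntwTwo Cfsg.Agent.H129.CycT Cfsg.Agent.H129.CycCard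
  Cfsg.Agent.H129.RealT Cfsg.Agent.H129.CommDiag Cfsg.Agent.H436

universe u

/-! ### arithmetic -/

theorem gq_neg_one {l : ℕ} (B : Mat l) {t : ℕ} {q : ℤ} (h : (t : ℤ) ∣ q + 1) (y : Fin l → ℤ) :
    (t : ℤ) ∣ Gq B q y - Gq B (-1) y := by
  unfold Gq
  rw [← Finset.sum_sub_distrib]
  refine Finset.dvd_sum fun j _ => ?_
  rw [← mul_sub, ← Finset.sum_sub_distrib]
  refine Dvd.dvd.mul_left (Finset.dvd_sum fun i _ => ?_) _
  rw [← mul_sub]
  refine Dvd.dvd.mul_left ?_ _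
  have h1 := sub_dvd_pow_sub_pow q (-1) (i : ℕ)
  rw [sub_neg_eq_add] at h1
  exact h.trans h1

theorem dvd_iff_neg_one {l : ℕ} (B : Mat l) {t : ℕ} {q : ℤ} (h : (t : ℤ) ∣ q + 1) (y : Fin l → ℤ) :
    (t : ℤ) ∣ Gq B q y ↔ (t : ℤ) ∣ Gq B (-1) y :=
  (dvd_iff_dvd_of_dvd_sub (gq_neg_one B h y))

theorem prim_sub_one {q e r : ℕ} (h : Prim q e r) : e ∣ r - 1 := by
  have : Fact r.Prime := ⟨h.prime⟩
  refine (h.dvd_iff (r - 1)).1 ?_
  have h1 : ((q : ZMod r)) ≠ 0 := by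
    rw [Ne, ZMod.natCast_eq_zero_iff]
    exact h.not_dvd
  have h2 := ZMod.pow_card_sub_one_eq_one h1
  have hq : 1 ≤ q ^ (r - 1) := Nat.one_le_pow _ _ (Nat.pos_of_ne_zero fun h0 => h.not_dvd (h0 ▸ dvd_zero r))
  rw [← ZMod.natCast_eq_zero_iff, Nat.cast_sub hq, Nat.cast_pow, Nat.cast_one, h2, sub_self]

theorem prim_lt {q e r : ℕ} (h : Prim q e r) : e < r := by
  have h1 := h.prime.two_le
  have h2 := Nat.le_of_dvd (by omega) (prim_sub_one h)
  omega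

theorem prim_fourteen {q r : ℕ} (h : Prim q 14 r) :
    (r : ℤ) ∣ 1 - (q : ℤ) + (q : ℤ) ^ 2 - (q : ℤ) ^ 3 + (q : ℤ) ^ 4 - (q : ℤ) ^ 5 + (q : ℤ) ^ 6 := by
  have h1 : (r : ℤ) ∣ (q : ℤ) ^ 7 + 1 := by
    have := h.dvd_add (m := 7) (by norm_num) (by norm_num)
    exact_mod_cast this
  have h2 : ¬ (r : ℤ) ∣ (q : ℤ) + 1 := by
    intro h3
    have h4 := h.not_dvd_add (m := 1) (by norm_num)
    rw [pow_one] at h4
    exact h4 (by exact_mod_cast h3)
  have hr : Prime (r : ℤ) := Nat.prime_iff_prime_int.1 h.prime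
  have e1 : (q : ℤ) ^ 7 + 1 = ((q : ℤ) + 1) *
      (1 - (q : ℤ) + (q : ℤ) ^ 2 - (q : ℤ) ^ 3 + (q : ℤ) ^ 4 - (q : ℤ) ^ 5 + (q : ℤ) ^ 6) := by ring
  rw [e1] at h1
  exact (hr.dvd_or_dvd h1).resolve_left h2

theorem prim_eighteen {q r : ℕ} (h : Prim q 18 r) : (r : ℤ) ∣ 1 - (q : ℤ) ^ 3 + (q : ℤ) ^ 6 := by
  have h1 : (r : ℤ) ∣ (q : ℤ) ^ 9 + 1 := by
    have := h.dvd_add (m := 9) (by norm_num) (by norm_num)
    exact_mod_cast this
  have h2 : ¬ (r : ℤ) ∣ (q : ℤ) ^ 3 + 1 := by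
    intro h3
    have h4 := h.not_dvd_add (m := 3) (by norm_num)
    exact h4 (by exact_mod_cast h3)
  have hr : Prime (r : ℤ) := Nat.prime_iff_prime_int.1 h.prime
  have e1 : (q : ℤ) ^ 9 + 1 = ((q : ℤ) ^ 3 + 1) * (1 - (q : ℤ) ^ 3 + (q : ℤ) ^ 6) := by ring
  rw [e1] at h1
  exact (hr.dvd_or_dvd h1).resolve_left h2

/-! ### the numbers of roots -/

theorem count_14 : (Finset.univ.filter fun s : Fin chevE7.nroots =>
    Gq DataE7m.B (-1) (vec chevE7 7 s) = 1 ∨ Gq DataE7m.B (-1) (vec chevE7 7 s) = -1).card = 70 := by decide +kernel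

theorem count_18 : (Finset.univ.filter fun s : Fin chevE7.nroots =>
    Gq DataE7h.B (-1) (vec chevE7 7 s) ≠ 0).card = 54 := by decide +kernel

/-! ### the diagonal forms -/

variable {F : Type u} [Field F] [Fintype F] {q : ℕ}

theorem diag_14 (hq : Fintype.card F = q) {r : ℕ} (hr : Prim q 14 r) {a x : ↥(chevE7.group F)} {t : ℕ} (ht : t.Prime)
    (ha : orderOf a = t) (hx : orderOf x = r) (hax : Commute a x) :
    ∃ g t' : ↥(chevE7.group (AlgebraicClosure F)), t' ∈ TT chevE7 (AlgebraicClosure F) ∧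
      emb typeE7.inList (algebraMap F (AlgebraicClosure F)) a = g * t' * g⁻¹ ∧
      ∀ y, cX typeE7 t' y = 1 ↔ (t : ℤ) ∣ Gq DataE7m.B (q : ℤ) y := by
  have := finite_W7
  have h := prim_fourteen hr
  have hlt := prim_lt hr
  obtain ⟨m, hm⟩ : ∃ m : ℕ, (m : ℤ) = (q : ℤ) ^ 7 + 1 := ⟨q ^ 7 + 1, by push_cast; ring⟩
  refine exists_diag typeE7 CoxeterMatrix.E₇.toCoxeterSystem (by norm_num) hq TorusChar.invC_E7 (by norm_num)
    DataE7m.hA DataE7m.chainOK DataE7m.cycOK DataE7m.rootOK (N := m) (by rw [DataE7m.fN_eq, hm]; ring)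
    (UntwData.coprime_of_eq (a := (q : ℤ) ^ 6) (by rw [hm]; ring)) (Or.inl rfl) hr.prime
    (dvd_of_int h (w := (q : ℤ) + 1) (by rw [hm]; ring)) (fun h2 => by
      have := Nat.le_of_dvd (by norm_num) h2; omega)
    (not_dvd_W7 hr.prime (by omega) (by omega) (by omega) (by omega)) (fun s hs => ?_) ht ha hx hax
  rcases DataE7m.dvd_of_G h s hs with h | h | h
  · exact not_one hr.prime h
  · exact not_prime hr.prime Nat.prime_two (by omega) h
  · exact not_prime hr.prime (by norm_num : (7 : ℕ).Prime) (by omega) h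

theorem diag_18 (hq : Fintype.card F = q) {r : ℕ} (hr : Prim q 18 r) {a x : ↥(chevE7.group F)} {t : ℕ} (ht : t.Prime)
    (ha : orderOf a = t) (hx : orderOf x = r) (hax : Commute a x) :
    ∃ g t' : ↥(chevE7.group (AlgebraicClosure F)), t' ∈ TT chevE7 (AlgebraicClosure F) ∧
      emb typeE7.inList (algebraMap F (AlgebraicClosure F)) a = g * t' * g⁻¹ ∧
      ∀ y, cX typeE7 t' y = 1 ↔ (t : ℤ) ∣ Gq DataE7h.B (q : ℤ) y := by
  have := finite_W7
  have h := prim_eighteen hr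
  have hlt := prim_lt hr
  obtain ⟨m, hm⟩ : ∃ m : ℕ, (m : ℤ) = (1 - (q : ℤ) ^ 3 + (q : ℤ) ^ 6) * ((q : ℤ) + 1) := by
    have h2 : 0 ≤ (1 - (q : ℤ) ^ 3 + (q : ℤ) ^ 6) * ((q : ℤ) + 1) := by
      have h3 : 0 ≤ (q : ℤ) := Int.natCast_nonneg q
      have h4 : 0 ≤ 1 - (q : ℤ) ^ 3 + (q : ℤ) ^ 6 := by nlinarith [sq_nonneg ((q : ℤ) ^ 3 - 1), sq_nonneg ((q : ℤ) ^ 3)]
      positivity
    exact ⟨_, Int.toNat_of_nonneg h2⟩
  refine exists_diag typeE7 CoxeterMatrix.E₇.toCoxeterSystem (by norm_num) hq TorusChar.invC_E7 (by norm_num)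
    DataE7h.hA DataE7h.chainOK DataE7h.cycOK DataE7h.rootOK (N := m) (by rw [DataE7h.fN_eq, hm]; ring)
    (UntwData.coprime_of_eq (a := 1 - (q : ℤ) ^ 2 - (q : ℤ) ^ 3 + (q : ℤ) ^ 5 + (q : ℤ) ^ 6) (by rw [hm]; ring))
    (Or.inl rfl) hr.prime (dvd_of_int h hm) (fun h2 => by
      have := Nat.le_of_dvd (by norm_num) h2; omega)
    (not_dvd_W7 hr.prime (by omega) (by omega) (by omega) (by omega)) (fun s hs => ?_) ht ha hx hax
  rcases DataE7h.dvd_of_G h s hs with h | h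
  · exact not_one hr.prime h
  · exact not_prime hr.prime Nat.prime_three (by omega) h

/-- **No common neighbour.** -/
theorem e7_no_common {F : Type u} [Field F] [Fintype F] {t r s : ℕ} (ht : t.Prime) (htq : t ∣ Fintype.card F + 1)
    (hr : Prim (Fintype.card F) 14 r) (hs : Prim (Fintype.card F) 18 s) {a x y : ↥(chevE7.group F)}
    (ha : orderOf a = t) (hx : orderOf x = r) (hy : orderOf y = s) (h1 : Commute a x) (h2 : Commute a y) :
    False := by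
  obtain ⟨g1, t1, ht1, e1, hv1⟩ := diag_14 rfl hr ht ha hx h1
  obtain ⟨g2, t2, ht2, e2, hv2⟩ := diag_18 rfl hs ht ha hy h2
  have htz : (t : ℤ) ∣ ((Fintype.card F : ℕ) : ℤ) + 1 := by exact_mod_cast htq
  have k1 := congrArg (fun g : ↥(chevE7.group (AlgebraicClosure F)) =>
    (((g : GL chevE7.Idx (AlgebraicClosure F)) : Matrix chevE7.Idx chevE7.Idx (AlgebraicClosure F)) - 1).rank) (e1.symm.trans e2)
  simp only [Subgroup.coe_mul, Subgroup.coe_inv] at k1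
  rw [rank_conj, rank_conj, rank_sub_one typeE7 ht1, rank_sub_one typeE7 ht2] at k1
  classical
  have c1 : 70 ≤ Nat.card {s : Fin chevE7.nroots // cX typeE7 t1 (vec chevE7 7 s) ≠ 1} := by
    rw [← count_14, Nat.card_eq_fintype_card, ← Fintype.card_coe]
    refine Fintype.card_le_of_injective (fun s => ⟨s.1, ?_⟩) ?_
    · have hs' := (Finset.mem_filter.1 s.2).2
      rw [Ne, hv1, dvd_iff_neg_one _ htz]
      rcases hs' with h | h
      · rw [h]
        exact not_one ht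
      · rw [h, dvd_neg]
        exact not_one ht
    · intro a b hab
      exact Subtype.ext (congrArg (fun z : {s : Fin chevE7.nroots // cX typeE7 t1 (vec chevE7 7 s) ≠ 1} => z.1) hab)
  have c2 : Nat.card {s : Fin chevE7.nroots // cX typeE7 t2 (vec chevE7 7 s) ≠ 1} ≤ 54 := by
    rw [← count_18, Nat.card_eq_fintype_card, ← Fintype.card_coe]
    refine Fintype.card_le_of_injective (fun s => ⟨s.1, Finset.mem_filter.2 ⟨Finset.mem_univ _, ?_⟩⟩) ?_
    · intro h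
      apply s.2
      rw [hv2, dvd_iff_neg_one _ htz, h]
      exact dvd_zero _
    · intro a b hab
      exact Subtype.ext (congrArg (fun z : ↥(Finset.univ.filter fun s : Fin chevE7.nroots =>
        Gq DataE7h.B (-1) (vec chevE7 7 s) ≠ 0) => z.1) hab)
  rw [k1] at c1
  omega

end Cfsg.Agent.H129.E7Common
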