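import Cfsg.Agent.H129.IsoSpor
import Cfsg.Agent.H94.AltAC
import Cfsg.Agent.H94.RankOne
import Cfsg.Agent.H182.CentAll
import Cfsg.Agent.H182.CentU
import Cfsg.Agent.S0254

/-!
# Rows of S2377: alternating, classical (except `PSL`), Suzuki and Ree groups (helper129)
-/

set_option autoImplicit false
set_option linter.unusedSectionVars false

namespace Cfsg.Agent.H129.Isolated

open Cfsg Subgroup Equiv
open Cfsg.Agent.H94.PG Cfsg.Agent.H182.Cent Cfsg.Agent

/-- `A₆ ≅ PSL₂(9)` is an exception -/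
theorem exc_alt_six : Exc ↥(alternatingGroup (Fin 6)) := by
  right
  have : Fact (Nat.Prime 3) := ⟨Nat.prime_three⟩
  have : Finite (GaloisField 3 2) := Nat.finite_of_card_ne_zero (by rw [GaloisField.card 3 2 (by norm_num)]; norm_num)
  let ft : Fintype (GaloisField 3 2) := Fintype.ofFinite _
  have hc : Fintype.card (GaloisField 3 2) = 9 := by
    rw [← Nat.card_eq_fintype_card, GaloisField.card 3 2 (by norm_num)]
    norm_num
  obtain ⟨e⟩ := Cfsg.Agent.S0254.result (F := GaloisField 3 2) hc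
  exact ⟨GaloisField 3 2, inferInstance, ft, by rw [hc]; decide, by rw [hc]; norm_num, ⟨e.symm⟩⟩

/-- an odd prime not connected to `2` -/
theorem le_of_not_conn {α : Type*} [Fintype α] [DecidableEq α] {s : ℕ} (hs : s.Prime) (hs2 : s ≠ 2)
    (hsn : s ≤ Fintype.card α) (hn : ¬ Conn (alternatingGroup α) s 2) : Fintype.card α ≤ s + 3 := by
  have hsodd : Odd s := hs.odd_of_ne_two hs2
  have hs3 := hs.two_le
  obtain ⟨y, hy⟩ := (Perm.exists_with_cycleType_iff α (m := {s})).2 ⟨by simpa using hsn, by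
    intro a ha
    rw [Multiset.mem_singleton] at ha
    omega⟩
  have hyo : orderOf y = s := by
    rw [← Perm.lcm_cycleType, hy]
    simp
  have hyA : y ∈ alternatingGroup α := by
    rw [Perm.mem_alternatingGroup, Perm.sign_of_cycleType, hy]
    simp only [Multiset.sum_singleton, Multiset.card_singleton]
    exact (hsodd.add_odd odd_one).neg_one_pow
  by_contra hcon
  push Not at hcon
  have h1 := not_four_dvd (x := ⟨y, hyA⟩) (by rw [Subgroup.orderOf_mk, hyo]; exact hs)
    (by rw [Subgroup.orderOf_mk, hyo]; exact hn)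
  apply h1
  change 4 ∣ Nat.card (centralizer ({y} : Set (Perm α)))
  rw [Perm.nat_card_centralizer, hy]
  apply Dvd.dvd.mul_right
  apply Dvd.dvd.mul_right
  have h2 : 4 ≤ Fintype.card α - ({s} : Multiset ℕ).sum := by
    rw [Multiset.sum_singleton]; omega
  exact (by decide : 4 ∣ Nat.factorial 4).trans (Nat.factorial_dvd_factorial h2)

/-- **the alternating groups** -/
theorem row_alt {K : Type*} [Group K] [Finite K] (h : IsAlternating K) : Row K := by
  obtain ⟨n, hn5, ⟨e⟩⟩ := h
  refine Row.congr e.symm ?_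
  by_cases hn6 : n = 6
  · subst hn6
    exact fun r hr hd hn => Or.inr ⟨(alt_AC (Fin 6)).good r hr hd hn, exc_alt_six⟩
  intro r hr hd hn
  obtain ⟨T, h1, h2, h3⟩ := (alt_AC (Fin n)).good r hr hd hn
  refine Or.inl ⟨T, h1, ?_, h3⟩
  let ci : CommGroup ↥T := { (inferInstance : Group ↥T) with mul_comm := fun a b => Subtype.ext (h2 a a.2 b b.2).eq }
  refine isCyclic_of_squarefree (G := ↥T) ?_
  rw [Nat.squarefree_iff_prime_squarefree]
  intro p hp hpp
  have h4 : p * p ∣ Nat.card ↥(alternatingGroup (Fin n)) := hpp.trans (Subgroup.card_subgroup_dvd_card T)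
  have h5 : ¬ Conn ↥(alternatingGroup (Fin n)) p 2 := fun hc =>
    hn (((prime_iff hr h1 h2 h3 hp).1 ((dvd_mul_right p p).trans hpp)).2.trans hc)
  have hp2 : p ≠ 2 := by
    rintro rfl
    exact h5 Relation.ReflTransGen.refl
  have h6 : p ^ 2 ∣ n.factorial := by
    have h7 : Nat.card ↥(alternatingGroup (Fin n)) ∣ Nat.card (Perm (Fin n)) := Subgroup.card_subgroup_dvd_card _
    rw [Nat.card_perm, Nat.card_fin] at h7
    rw [sq]
    exact h4.trans h7
  have hpn : p ≤ n := (hp.dvd_factorial).1 ((dvd_pow_self p two_ne_zero).trans h6)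
  have h7 := le_of_not_conn (α := Fin n) hp hp2 (by rw [Fintype.card_fin]; exact hpn) h5
  rw [Fintype.card_fin] at h7
  have h8 : 2 * p ≤ n := by
    by_contra hlt
    push Not at hlt
    have hp3 : 3 ≤ p := by have := hp.two_le; omega
    have hlog : Nat.log p n < 2 := Nat.log_lt_of_lt_pow (by omega) (by nlinarith)
    rw [hp.pow_dvd_factorial_iff hlog] at h6
    have h9 : ∑ i ∈ Finset.Ico 1 2, n / p ^ i = n / p := by simp
    rw [h9] at h6
    have h10 : n / p < 2 := (Nat.div_lt_iff_lt_mul hp.pos).2 (by omega)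
    omega
  have hp3 : p = 3 := by
    have := hp.two_le
    omega
  omega

/-- **the classical groups except `PSL`** -/
theorem row_classical {K : Type*} [Group K] [Finite K]
    (h : IsPSp K ∨ IsPSU K ∨ IsPOmegaOdd K ∨ IsPOmegaPlus K ∨ IsPOmegaMinus K) : Row K := by
  apply Row.of_near
  intro r hr hd hn
  rcases h with h | h | h | h | h
  · exact hasCyc (Or.inl h) hr hd hn
  · exact hasCyc_of_isPSU h hr hd hn
  · exact hasCyc (Or.inr (Or.inl h)) hr hd hn
  · exact hasCyc (Or.inr (Or.inr (Or.inl h))) hr hd hn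
  · exact hasCyc (Or.inr (Or.inr (Or.inr h))) hr hd hn

theorem row_sz {K : Type*} [Group K] [Finite K] (h : Lie.IsoSuzuki K) : Row K :=
  Row.of_near fun _ hr hd hn => H94.RankOne.sz_cyc h hr hd hn

theorem row_ree {K : Type*} [Group K] [Finite K] (h : Lie.IsoRee K) : Row K :=
  Row.of_near fun _ hr hd hn => H94.RankOne.ree_cyc h hr hd hn

end Cfsg.Agent.H129.Isolated
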