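import Cfsg.Agent.H129.IsoSpor
import Cfsg.Agent.H129.IsoAlt
import Cfsg.Agent.H129.IsoTw
import Cfsg.Agent.H129.IsoPSL
import Cfsg.Prelude.Def_Classification2

/-!
# The rows of all known simple groups (helper129)
-/

set_option autoImplicit false

namespace Cfsg.Agent.H129.IsoAll

open Cfsg Cfsg.Agent.H129.Isolated Cfsg.Agent.H129.IsoTw

/-- The row of a known simple group. -/
theorem row_known {S : Type*} [Group S] [Finite S] (hS : ¬ IsMulCommutative S) (h : IsKnownSimple' S) : Row S := by
  rcases h with h | h | h | h | h | h | h | h | h | h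
  · exfalso
    have f : Fact (Nat.card S).Prime := ⟨h⟩
    have hc : IsCyclic S := isCyclic_of_prime_card (p := Nat.card S) rfl
    exact hS (isMulCommutative_iff.2 fun a b => (IsCyclic.commGroup (α := S)).mul_comm a b)
  · exact row_alt h
  · exact IsoPSL.row_isPSL h
  · exact row_classical (Or.inl h)
  · exact row_classical (Or.inr (Or.inl h))
  · exact row_classical (Or.inr (Or.inr (Or.inl h)))
  · exact row_classical (Or.inr (Or.inr (Or.inr (Or.inl h))))
  · exact row_classical (Or.inr (Or.inr (Or.inr (Or.inr h))))
  · rcases h with h | h | h | h | h | h | h | h | h | h | h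
    · exact row_isoChevG2 h
    · exact row_isoF4 h
    · exact row_isoChevE6 h
    · exact row_isoE7 h
    · exact row_isoE8 h
    · exact row_iso2E6 h
    · exact row_iso3D4 h
    · exact row_sz h
    · exact row_ree h
    · exact row_iso2F4 h
    · exact row_tits h
  · exact row_sporadic h

end Cfsg.Agent.H129.IsoAll
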