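import Cfsg.Agent.H129.Isolated
import Cfsg.Agent.H94.Sp.AC

/-!
# Rows of S2377: the sporadic groups and the Tits group (helper129)
-/

set_option autoImplicit false
set_option linter.unusedSectionVars false

namespace Cfsg.Agent.H129.Isolated

open Cfsg Subgroup
open Cfsg.Agent.H94.PG Cfsg.Agent.H94.PG.Sp Cfsg.Agent.H182.Cent Cfsg.Agent

/-- a finite abelian group of squarefree order is cyclic -/
theorem isCyclic_of_squarefree {G : Type*} [CommGroup G] [Finite G] (h : Squarefree (Nat.card G)) : IsCyclic G := by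
  rw [IsCyclic.iff_exponent_eq_card]
  refine Nat.dvd_antisymm Group.exponent_dvd_nat_card ?_
  rw [← Nat.prod_primeFactors_of_squarefree h]
  refine Finset.prod_primes_dvd _ (fun p hp => (Nat.prime_of_mem_primeFactors hp).prime) fun p hp => ?_
  have hpp := Nat.prime_of_mem_primeFactors hp
  have : Fact p.Prime := ⟨hpp⟩
  obtain ⟨x, hx⟩ := exists_prime_orderOf_dvd_card' (G := G) p (Nat.dvd_of_mem_primeFactors hp)
  rw [← hx]
  exact Monoid.order_dvd_exponent x

/-- the row of a group whose primes not connected to `2` divide the order once -/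
theorem row_of' {G : Type*} [Group G] [Finite G] (N : ℕ) (R : List ℕ) (hN : Nat.card G = N)
    (hconn : ∀ r, r.Prime → r ∣ N → r ∉ R → Conn G r 2) (hsq : ∀ r ∈ R, ¬ r * r ∣ N) (hac : AC G) : Row G := by
  subst hN
  intro r hr hd hn
  obtain ⟨T, h1, h2, h3⟩ := hac.good r hr hd hn
  refine Or.inl ⟨T, h1, ?_, h3⟩
  let ci : CommGroup ↥T := { (inferInstance : Group ↥T) with mul_comm := fun a b => Subtype.ext (h2 a a.2 b b.2).eq }
  refine isCyclic_of_squarefree (G := ↥T) ?_
  rw [Nat.squarefree_iff_prime_squarefree]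
  intro p hp hpp
  have h4 : p * p ∣ Nat.card G := hpp.trans (Subgroup.card_subgroup_dvd_card T)
  have h5 : ¬ Conn G p 2 := fun hc => hn (((prime_iff hr h1 h2 h3 hp).1 ((dvd_mul_right p p).trans hpp)).2.trans hc)
  by_cases h6 : p ∈ R
  · exact hsq p h6 h4
  · exact h5 (hconn p hp ((dvd_mul_right p p).trans h4) h6)

theorem row_m11 {K : Type*} [Group K] [Finite K] (h : Spor.IsoM11 K) : Row K :=
  row_of' 7920 [5, 11] (NotCT.Orders.m11 h)
    (fun r hr hd hR => (nr_m11' h hr hd hR).conn) (by decide +kernel) (ac_m11 h)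

theorem row_m12 {K : Type*} [Group K] [Finite K] (h : Spor.IsoM12 K) : Row K :=
  row_of' 95040 [11] (NotCT.Orders.m12 h)
    (fun r hr hd hR => (nr_m12' h hr hd hR).conn) (by decide +kernel) (ac_m12 h)

theorem row_m22 {K : Type*} [Group K] [Finite K] (h : Spor.IsoM22 K) : Row K :=
  row_of' 443520 [5, 7, 11] (NotCT.Orders.m22 h)
    (fun r hr hd hR => (nr_m22' h hr hd hR).conn) (by decide +kernel) (ac_m22 h)

theorem row_m23 {K : Type*} [Group K] [Finite K] (h : Spor.IsoM23 K) : Row K :=
  row_of' 10200960 [11, 23] (NotCT.Orders.m23 h)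
    (fun r hr hd hR => by
      by_cases h5 : r = 5
      · subst h5; exact conn_five_m23 h
      · exact (nr_m23' h hr hd (by simpa [h5] using hR)).conn) (by decide +kernel) (ac_m23 h)

theorem row_m24 {K : Type*} [Group K] [Finite K] (h : Spor.IsoM24 K) : Row K :=
  row_of' 244823040 [11, 23] (NotCT.Orders.m24 h)
    (fun r hr hd hR => (nr_m24' h hr hd hR).conn) (by decide +kernel) (ac_m24 h)

theorem row_j1 {K : Type*} [Group K] [Finite K] (h : Spor.IsoJ1 K) : Row K :=
  row_of' 175560 [7, 11, 19] (NotCT.Orders.j1 h)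
    (fun r hr hd hR => (nr_j1 h hr hd hR).conn) (by decide +kernel) (ac_j1 h)

theorem row_j2 {K : Type*} [Group K] [Finite K] (h : Spor.IsoJ2 K) : Row K :=
  row_of' 604800 [7] (NotCT.Orders.j2 h)
    (fun r hr hd hR => (nr_j2 h hr hd hR).conn) (by decide +kernel) (ac_j2 h)

theorem row_j3 {K : Type*} [Group K] [Finite K] (h : Spor.IsoJ3 K) : Row K :=
  row_of' 50232960 [17, 19] (NotCT.Orders.j3 h)
    (fun r hr hd hR => (nr_j3 h hr hd hR).conn) (by decide +kernel) (ac_j3 h)

theorem row_j4 {K : Type*} [Group K] [Finite K] (h : Spor.IsoJ4 K) : Row K :=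
  row_of' 86775571046077562880 [23, 29, 31, 37, 43] (NotCT.Orders.j4 h)
    (fun r hr hd hR => (nr_j4 h hr hd hR).conn) (by decide +kernel) (ac_j4 h)

theorem row_hs {K : Type*} [Group K] [Finite K] (h : Spor.IsoHS K) : Row K :=
  row_of' 44352000 [7, 11] (NotCT.Orders.hs h)
    (fun r hr hd hR => (nr_hs h hr hd hR).conn) (by decide +kernel) (ac_hs h)

theorem row_mcl {K : Type*} [Group K] [Finite K] (h : Spor.IsoMcL K) : Row K :=
  row_of' 898128000 [11] (NotCT.Orders.mcl h)
    (fun r hr hd hR => (nr_mcl h hr hd hR).conn) (by decide +kernel) (ac_mcl h)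

theorem row_suz {K : Type*} [Group K] [Finite K] (h : Spor.IsoSuz K) : Row K :=
  row_of' 448345497600 [11, 13] (NotCT.Orders.suz h)
    (fun r hr hd hR => (nr_suz h hr hd hR).conn) (by decide +kernel) (ac_suz h)

theorem row_ly {K : Type*} [Group K] [Finite K] (h : Spor.IsoLy K) : Row K :=
  row_of' 51765179004000000 [31, 37, 67] (NotCT.Orders.ly h)
    (fun r hr hd hR => (nr_ly h hr hd hR).conn) (by decide +kernel) (ac_ly h)

theorem row_he {K : Type*} [Group K] [Finite K] (h : Spor.IsoHe K) : Row K :=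
  row_of' 4030387200 [17] (NotCT.Orders.he h)
    (fun r hr hd hR => (nr_he h hr hd hR).conn) (by decide +kernel) (ac_he h)

theorem row_ru {K : Type*} [Group K] [Finite K] (h : Spor.IsoRu K) : Row K :=
  row_of' 145926144000 [29] (NotCT.Orders.ru h)
    (fun r hr hd hR => (nr_ru h hr hd hR).conn) (by decide +kernel) (ac_ru h)

theorem row_on {K : Type*} [Group K] [Finite K] (h : Spor.IsoON K) : Row K :=
  row_of' 460815505920 [11, 19, 31] (NotCT.Orders.on h)
    (fun r hr hd hR => (nr_on h hr hd hR).conn) (by decide +kernel) (ac_on h)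

theorem row_co1 {K : Type*} [Group K] [Finite K] (h : Spor.IsoCo1 K) : Row K :=
  row_of' 4157776806543360000 [23] (NotCT.Orders.co1 h)
    (fun r hr hd hR => (nr_co1 h hr hd hR).conn) (by decide +kernel) (ac_co1 h)

theorem row_co2 {K : Type*} [Group K] [Finite K] (h : Spor.IsoCo2 K) : Row K :=
  row_of' 42305421312000 [11, 23] (NotCT.Orders.co2 h)
    (fun r hr hd hR => (nr_co2 h hr hd hR).conn) (by decide +kernel) (ac_co2 h)

theorem row_co3 {K : Type*} [Group K] [Finite K] (h : Spor.IsoCo3 K) : Row K :=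
  row_of' 495766656000 [23] (NotCT.Orders.co3 h)
    (fun r hr hd hR => (nr_co3 h hr hd hR).conn) (by decide +kernel) (ac_co3 h)

theorem row_fi22 {K : Type*} [Group K] [Finite K] (h : Spor.IsoFi22 K) : Row K :=
  row_of' 64561751654400 [13] (NotCT.Orders.fi22 h)
    (fun r hr hd hR => (nr_fi22 h hr hd hR).conn) (by decide +kernel) (ac_fi22 h)

theorem row_fi23 {K : Type*} [Group K] [Finite K] (h : Spor.IsoFi23 K) : Row K :=
  row_of' 4089470473293004800 [17, 23] (NotCT.Orders.fi23 h)
    (fun r hr hd hR => (nr_fi23 h hr hd hR).conn) (by decide +kernel) (ac_fi23 h)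

theorem row_fi24 {K : Type*} [Group K] [Finite K] (h : Spor.IsoFi24' K) : Row K :=
  row_of' 1255205709190661721292800 [17, 23, 29] (NotCT.Orders.fi24 h)
    (fun r hr hd hR => (nr_fi24 h hr hd hR).conn) (by decide +kernel) (ac_fi24 h)

theorem row_hn {K : Type*} [Group K] [Finite K] (h : Spor.IsoHN K) : Row K :=
  row_of' 273030912000000 [19] (NotCT.Orders.hn h)
    (fun r hr hd hR => (nr_hn h hr hd hR).conn) (by decide +kernel) (ac_hn h)

theorem row_th {K : Type*} [Group K] [Finite K] (h : Spor.IsoTh K) : Row K :=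
  row_of' 90745943887872000 [13, 19, 31] (NotCT.Orders.th h)
    (fun r hr hd hR => (nr_th h hr hd hR).conn) (by decide +kernel) (ac_th h)

theorem row_b {K : Type*} [Group K] [Finite K] (h : Spor.IsoB K) : Row K :=
  row_of' 4154781481226426191177580544000000 [31, 47] (NotCT.Orders.b h)
    (fun r hr hd hR => (nr_b h hr hd hR).conn) (by decide +kernel) (ac_b h)

theorem row_m {K : Type*} [Group K] [Finite K] (h : Spor.IsoM K) : Row K :=
  row_of' 808017424794512875886459904961710757005754368000000000 [29, 41, 59, 71] (NotCT.Orders.m h)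
    (fun r hr hd hR => (nr_m h hr hd hR).conn) (by decide +kernel) (ac_m h)

theorem row_tits {K : Type*} [Group K] [Finite K] (h : Lie.IsoTits K) : Row K :=
  row_of' 17971200 [13] (NotCT.Orders.tits h)
    (fun r hr hd hR => (nr_tits h hr hd hR).conn) (by decide +kernel) (ac_tits h)

/-- **the sporadic groups** -/
theorem row_sporadic {K : Type*} [Group K] [Finite K] (h : IsSporadicGroup K) : Row K := by
  rcases h with h | h | h | h | h | h | h | h | h | h | h | h | h | h | h | h | h | h | h | h | h | h | h | h | h | h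
  · exact row_m11 h
  · exact row_m12 h
  · exact row_m22 h
  · exact row_m23 h
  · exact row_m24 h
  · exact row_j1 h
  · exact row_j2 h
  · exact row_j3 h
  · exact row_j4 h
  · exact row_co1 h
  · exact row_co2 h
  · exact row_co3 h
  · exact row_mcl h
  · exact row_hs h
  · exact row_suz h
  · exact row_he h
  · exact row_ru h
  · exact row_on h
  · exact row_ly h
  · exact row_fi22 h
  · exact row_fi23 h
  · exact row_fi24 h
  · exact row_hn h
  · exact row_th h
  · exact row_b h
  · exact row_m h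

end Cfsg.Agent.H129.Isolated
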