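import Cfsg.Agent.H376.Cyc.Def
import Cfsg.Agent.H129.CycRow
import Cfsg.Agent.H129.CycCardF
import Cfsg.Agent.H94.RankOne
import Cfsg.Agent.S0205
import Cfsg.Agent.S0324
import Cfsg.Agent.S0333
import Cfsg.Agent.S1054
import Cfsg.Agent.S1055
import Cfsg.Agent.S1070
import Cfsg.Agent.S1071
import Cfsg.Agent.S1072
import Cfsg.Agent.S1073
import Cfsg.Agent.S1074
import Cfsg.Agent.S1159
import Cfsg.Agent.OddCyclic.ClaimC.SzIso

/-!
# S3441, `LF` for the exceptional groups with an isolated torus (helper129, task 4356)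
-/

set_option autoImplicit false
set_option linter.unusedSectionVars false

namespace Cfsg.Agent.H129.LFExc

open Cfsg Cfsg.Lie Subgroup
open Cfsg.Agent.H376.Cyc Cfsg.Agent.H129.CycT Cfsg.Agent.H129 Cfsg.Agent.H129.TorAct Cfsg.Agent.H129.CycCard

universe u v w

/-! ### generalities -/

theorem LF_congr {G H : Type*} [Group G] [Group H] (e : G ≃* H) (h : LF G) : LF H := by
  have ho : ∀ n : ℕ, (∃ x : H, orderOf x = n) → ∃ x : G, orderOf x = n := by
    rintro n ⟨x, hx⟩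
    exact ⟨e.symm x, by rw [← hx]; exact orderOf_injective e.symm.toMonoidHom e.symm.injective x⟩
  have hc := Nat.card_congr e.toEquiv
  refine ⟨?_, fun r hr hr2 hrH => ?_⟩
  · obtain ⟨p, h1, h2, h3, h4⟩ := h.two
    exact ⟨p, h1, h2, hc ▸ h3, fun h5 => h4 (ho _ h5)⟩
  · obtain ⟨t, h1, h2, h3, h4⟩ := h.odd r hr hr2 (hc ▸ hrH)
    exact ⟨t, h1, h2, hc ▸ h3, fun h5 => h4 (ho _ h5)⟩

theorem LF_congr' {G H : Type*} [Group G] [Group H] (e : H ≃* G) (h : LF G) : LF H := LF_congr e.symm h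

/-- no elements of order `r s`, `r` isolated -/
theorem not_order {G : Type*} [Group G] [Finite G] {m r s : ℕ} (h : CycExact G m) (hr : r.Prime) (hrm : r ∣ m)
    (hsm : ¬ s ∣ m) : ¬ ∃ x : G, orderOf x = r * s := by
  rintro ⟨x, hx⟩
  obtain ⟨T, h1, h2, h3⟩ := h
  have hs0 : s ≠ 0 := by
    rintro rfl
    rw [mul_zero] at hx
    exact (orderOf_pos x).ne' hx
  have hy : orderOf (x ^ s) = r := by
    rw [orderOf_pow' x hs0, hx, Nat.gcd_eq_right (Dvd.intro_left r rfl), Nat.mul_div_cancel _ (Nat.pos_of_ne_zero hs0)]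
  obtain ⟨g, -, hg⟩ := centralizer_conj h1 hr (h2 ▸ hrm) (fun y hy hyr => (h3 y hy (by
    rintro rfl
    rw [orderOf_one] at hyr
    exact hr.one_lt.ne hyr)).le) hy
  have h4 := (hg x).1 (by rw [Subgroup.mem_centralizer_singleton_iff]; exact (Commute.self_pow x s).eq)
  have h5 := orderOf_dvd_natCard (⟨_, h4⟩ : ↥T)
  rw [Subgroup.orderOf_mk, h2] at h5
  have h6 : orderOf (g * x * g⁻¹) = r * s := by
    rw [← hx]
    exact orderOf_injective (MulAut.conj g).toMonoidHom (MulAut.conj g).injective x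
  rw [h6] at h5
  exact hsm ((dvd_mul_left s r).trans h5)

theorem two_dvd {G : Type*} [Group G] [Finite G] (h : IsSimpleGroup G ∧ ¬ IsMulCommutative G) : 2 ∣ Nat.card G := by
  by_contra h1
  have := h.1
  have hodd : Odd (Nat.card G) := by rw [← Nat.not_even_iff_odd, even_iff_two_dvd]; exact h1
  exact h.2 ⟨⟨IsSimpleGroup.comm_iff_isSolvable.2 (Cfsg.Agent.S0205.result hodd)⟩⟩

theorem five_le {p : ℕ} (hp : p.Prime) (h2 : p ≠ 2) (h3 : p ≠ 3) : 5 ≤ p := by
  have h4 := hp.two_le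
  have h5 : p ≠ 4 := by rintro rfl; exact absurd hp (by norm_num)
  omega

theorem lf_of_exact {G : Type*} [Group G] [Finite G] {m : ℕ} (h : CycExact G m) (h1 : m ≠ 1) (h2 : ¬ 2 ∣ m)
    (h3 : ¬ 3 ∣ m) (hG : 2 ∣ Nat.card G) : LF G := by
  obtain ⟨p, hp, hpm⟩ := Nat.exists_prime_and_dvd h1
  have hmG : m ∣ Nat.card G := by
    obtain ⟨T, -, h5, -⟩ := h
    rw [← h5]
    exact Subgroup.card_subgroup_dvd_card T
  refine LF.of_isolated (π := fun r => r ∣ m) hp (five_le hp ?_ ?_) (hpm.trans hmG) hpm hG h2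
    fun r s hr hs h4 h5 => not_order h hr h4 h5
  · rintro rfl; exact h2 hpm
  · rintro rfl; exact h3 hpm

/-- the arithmetic of the polynomials -/
theorem arith {N : ℕ} {z : ℤ} (hN : (N : ℤ) = z) (h2 : (z : ZMod 2) ≠ 0) (h3 : (z : ZMod 3) ≠ 0) :
    ¬ 2 ∣ N ∧ ¬ 3 ∣ N := by
  constructor
  · intro h
    apply h2
    rw [← hN, Int.cast_natCast]
    exact (ZMod.natCast_eq_zero_iff N 2).2 h
  · intro h
    apply h3
    rw [← hN, Int.cast_natCast]
    exact (ZMod.natCast_eq_zero_iff N 3).2 h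

variable {F : Type v} [Field F] [Fintype F]

/-! ### the untwisted groups -/

theorem lf_g2 (h : 3 ≤ Fintype.card F) : LF ↥(chevG2.group F) := by
  have hq : (3 : ℤ) ≤ (Fintype.card F : ℤ) := by exact_mod_cast h
  have hs := two_dvd (S1055.result (F := F) (by
    classical
    by_contra hcon
    push Not at hcon
    have h1 : Finset.univ ⊆ ({0, 1} : Finset F) := by
      intro a _
      rw [Finset.mem_insert, Finset.mem_singleton]
      by_cases h2 : a = 0
      · exact Or.inl h2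
      · exact Or.inr (hcon a h2)
    have h2 := Finset.card_le_card h1
    have h3 := Finset.card_le_two (a := (0 : F)) (b := 1)
    rw [Finset.card_univ] at h2
    omega))
  obtain ⟨N, hN⟩ : ∃ N : ℕ, (N : ℤ) = 1 + (Fintype.card F : ℤ) + (Fintype.card F : ℤ) ^ 2 :=
    ⟨1 + Fintype.card F + Fintype.card F ^ 2, by push_cast; ring⟩
  obtain ⟨N', hN'⟩ : ∃ N : ℕ, (N : ℤ) = 1 - (Fintype.card F : ℤ) + (Fintype.card F : ℤ) ^ 2 := by
    have h2 : 0 ≤ 1 - (Fintype.card F : ℤ) + (Fintype.card F : ℤ) ^ 2 := by nlinarith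
    exact ⟨_, Int.toNat_of_nonneg h2⟩
  by_cases h1 : ((Fintype.card F : ℤ) : ZMod 3) = 1
  · obtain ⟨h2, h3⟩ := arith hN' (by
      push_cast
      generalize ((Fintype.card F : ℕ) : ZMod 2) = x
      revert x; decide) (by
      rw [Int.cast_natCast] at h1
      push_cast
      rw [h1]
      decide)
    exact lf_of_exact (exact_G2_6 rfl hN' h3) (by rintro rfl; push_cast at hN'; nlinarith) h2 h3 hs
  · obtain ⟨h2, h3⟩ := arith hN (by
      push_cast
      generalize ((Fintype.card F : ℕ) : ZMod 2) = x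
      revert x; decide) (by
      rw [Int.cast_natCast] at h1
      push_cast
      generalize ((Fintype.card F : ℕ) : ZMod 3) = x at h1
      revert h1; revert x; decide)
    exact lf_of_exact (exact_G2_3 rfl hN h3) (by rintro rfl; push_cast at hN; nlinarith) h2 h3 hs

theorem two_le_card : (2 : ℤ) ≤ (Fintype.card F : ℤ) := by exact_mod_cast Fintype.one_lt_card

theorem n12 {q : ℤ} (hq : 2 ≤ q) : ∃ N : ℕ, (N : ℤ) = 1 - q ^ 2 + q ^ 4 ∧ N ≠ 1 ∧ ¬ 2 ∣ N ∧ ¬ 3 ∣ N := by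
  have h0 : 1 < 1 - q ^ 2 + q ^ 4 := by nlinarith [mul_pos (by linarith : 0 < q) (by linarith : 0 < q), sq_nonneg (q ^ 2 - 1)]
  obtain ⟨N, hN⟩ : ∃ N : ℕ, (N : ℤ) = 1 - q ^ 2 + q ^ 4 := ⟨_, Int.toNat_of_nonneg (by linarith)⟩
  obtain ⟨h2, h3⟩ := arith hN (by
      push_cast
      generalize (q : ZMod 2) = x
      revert x; decide) (by
      push_cast
      generalize (q : ZMod 3) = x
      revert x; decide)
  exact ⟨N, hN, by rintro rfl; push_cast at hN; linarith, h2, h3⟩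

theorem lf_f4 : LF ↥(chevF4.group F) := by
  obtain ⟨N, hN, h1, h2, h3⟩ := n12 (two_le_card (F := F))
  exact lf_of_exact (exact_F4_12 rfl hN) h1 h2 h3 (two_dvd (S1054.result _ (by simp)))

theorem lf_e8 : LF ↥(chevE8.group F) := by
  have hq := two_le_card (F := F)
  generalize hqq : (Fintype.card F : ℤ) = q at hq
  have h0 : 1 < 1 - q ^ 4 + q ^ 8 := by
    have h4 : 16 ≤ q ^ 4 := by
      calc (16 : ℤ) = 2 ^ 4 := by norm_num
        _ ≤ q ^ 4 := pow_le_pow_left₀ (by norm_num) hq 4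
    have e : q ^ 8 = q ^ 4 * q ^ 4 := by ring
    rw [e]
    nlinarith
  obtain ⟨N, hN⟩ : ∃ N : ℕ, (N : ℤ) = 1 - q ^ 4 + q ^ 8 := ⟨_, Int.toNat_of_nonneg (by linarith)⟩
  obtain ⟨h2, h3⟩ := arith hN (by
      push_cast
      generalize (q : ZMod 2) = x
      revert x; decide) (by
      push_cast
      generalize (q : ZMod 3) = x
      revert x; decide)
  subst hqq
  exact lf_of_exact (exact_E8_24 rfl hN) (by rintro rfl; push_cast at hN h0; linarith) h2 h3
    (two_dvd (S1054.result _ (by simp)))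

/-- division by `(3, x)` -/
theorem div_three {N d : ℕ} {z : ℤ} (hN : (N : ℤ) = z) (hd : d = 1 ∨ d = 3) (hdN : d ∣ N) (h2 : (z : ZMod 2) ≠ 0)
    (h9 : (z : ZMod 9) ≠ 0) (h31 : d = 1 → (z : ZMod 3) ≠ 0) (h3 : 3 < z) :
    N / d ≠ 1 ∧ ¬ 2 ∣ N / d ∧ ¬ 3 ∣ N / d := by
  obtain ⟨m, rfl⟩ := hdN
  have hd0 : 0 < d := by rcases hd with rfl | rfl <;> norm_num
  rw [Nat.mul_div_cancel_left _ hd0]
  refine ⟨?_, ?_, ?_⟩
  · rintro rfl
    rw [mul_one] at hN
    rcases hd with rfl | rfl <;> · push_cast at hN; omega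
  · intro h
    apply h2
    rw [← hN, Int.cast_natCast]
    exact (ZMod.natCast_eq_zero_iff _ 2).2 (h.mul_left _)
  · intro h
    rcases hd with rfl | rfl
    · apply h31 rfl
      rw [← hN, Int.cast_natCast]
      exact (ZMod.natCast_eq_zero_iff _ 3).2 (h.mul_left _)
    · apply h9
      rw [← hN, Int.cast_natCast]
      exact (ZMod.natCast_eq_zero_iff _ 9).2 (by
        rw [show (9 : ℕ) = 3 * 3 by norm_num]
        exact mul_dvd_mul_left 3 h)

theorem gcd_three (x : ℕ) : Nat.gcd 3 x = 1 ∨ Nat.gcd 3 x = 3 :=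
  (Nat.dvd_prime Nat.prime_three).1 (Nat.gcd_dvd_left 3 x)

theorem lf_e6 : LF ↥(chevE6.group F) := by
  have hq2 : 2 ≤ Fintype.card F := Fintype.one_lt_card
  obtain ⟨N, hN⟩ : ∃ N : ℕ, (N : ℤ) = 1 + (Fintype.card F : ℤ) ^ 3 + (Fintype.card F : ℤ) ^ 6 :=
    ⟨1 + Fintype.card F ^ 3 + Fintype.card F ^ 6, by push_cast; ring⟩
  have hN' : N = 1 + Fintype.card F ^ 3 + Fintype.card F ^ 6 := by
    apply Nat.cast_injective (R := ℤ)
    rw [hN]; push_cast; ring
  have hmod : ∀ x : ZMod 3, x - 1 ≠ 0 → 1 + x ^ 3 + x ^ 6 ≠ 0 := by decide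
  have hmod' : ∀ x : ZMod 3, x - 1 = 0 → 1 + x ^ 3 + x ^ 6 = 0 := by decide
  have hcast : ((Fintype.card F - 1 : ℕ) : ZMod 3) = (Fintype.card F : ZMod 3) - 1 := by
    rw [Nat.cast_sub (by omega), Nat.cast_one]
  obtain ⟨h1, h2, h3⟩ := div_three hN (gcd_three (Fintype.card F - 1)) (by
      rcases gcd_three (Fintype.card F - 1) with h | h
      · rw [h]; exact one_dvd _
      · rw [h, ← ZMod.natCast_eq_zero_iff, hN']
        have h4 : 3 ∣ Fintype.card F - 1 := by rw [← h]; exact Nat.gcd_dvd_right _ _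
        rw [← ZMod.natCast_eq_zero_iff, hcast] at h4
        push_cast
        exact hmod' _ h4) (by
      push_cast
      generalize ((Fintype.card F : ℕ) : ZMod 2) = x
      revert x; decide) (by
      push_cast
      generalize ((Fintype.card F : ℕ) : ZMod 9) = x
      revert x; decide) (fun h => by
      push_cast
      apply hmod
      intro h4
      rw [← hcast, ZMod.natCast_eq_zero_iff] at h4
      have : 3 ∣ Nat.gcd 3 (Fintype.card F - 1) := Nat.dvd_gcd dvd_rfl h4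
      rw [h] at this
      omega) (by
      rw [← hN, hN']
      have : 2 ^ 3 ≤ Fintype.card F ^ 3 := Nat.pow_le_pow_left hq2 3
      push_cast
      have h8 : (2 : ℤ) ^ 3 ≤ (Fintype.card F : ℤ) ^ 3 := by exact_mod_cast this
      have h6 : 0 ≤ (Fintype.card F : ℤ) ^ 6 := by positivity
      linarith)
  exact lf_of_exact (exact_E6_9 rfl hN) h1 h2 h3 (two_dvd (S1054.result _ (by simp)))

/-! ### the twisted groups -/

theorem lf_te6 {T : Type w} [Group T] (h : Lie.Iso2E6 T) : LF T := by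
  obtain ⟨K, _, _, q, hq, hK, ⟨e⟩⟩ := h
  refine LF_congr e.symm ?_
  have hq2 : 2 ≤ q := hq.two_le
  have hq3 : (8 : ℤ) ≤ (q : ℤ) ^ 3 := by
    have : 2 ^ 3 ≤ q ^ 3 := Nat.pow_le_pow_left hq2 3
    have h8 : (2 : ℤ) ^ 3 ≤ (q : ℤ) ^ 3 := by exact_mod_cast this
    linarith
  have hpos : 3 < 1 - (q : ℤ) ^ 3 + (q : ℤ) ^ 6 := by
    have e : (q : ℤ) ^ 6 = (q : ℤ) ^ 3 * (q : ℤ) ^ 3 := by ring
    rw [e]
    nlinarith
  obtain ⟨N, hN⟩ : ∃ N : ℕ, (N : ℤ) = 1 - (q : ℤ) ^ 3 + (q : ℤ) ^ 6 := ⟨_, Int.toNat_of_nonneg (by linarith)⟩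
  have hmod : ∀ x : ZMod 3, x + 1 ≠ 0 → 1 - x ^ 3 + x ^ 6 ≠ 0 := by decide
  have hmod' : ∀ x : ZMod 3, x + 1 = 0 → 1 - x ^ 3 + x ^ 6 = 0 := by decide
  have hcast : ((q + 1 : ℕ) : ZMod 3) = (q : ZMod 3) + 1 := by push_cast; ring
  obtain ⟨h1, h2, h3⟩ := div_three hN (gcd_three (q + 1)) (by
      rcases gcd_three (q + 1) with h | h
      · rw [h]; exact one_dvd _
      · rw [h, ← Int.natCast_dvd_natCast, hN]
        have h4 : 3 ∣ q + 1 := by rw [← h]; exact Nat.gcd_dvd_right _ _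
        rw [← ZMod.natCast_eq_zero_iff, hcast] at h4
        rw [← ZMod.intCast_zmod_eq_zero_iff_dvd]
        push_cast
        exact hmod' _ h4) (by
      push_cast
      generalize (q : ZMod 2) = x
      revert x; decide) (by
      push_cast
      generalize (q : ZMod 9) = x
      revert x; decide) (fun h => by
      push_cast
      apply hmod
      intro h4
      rw [← hcast, ZMod.natCast_eq_zero_iff] at h4
      have : 3 ∣ Nat.gcd 3 (q + 1) := Nat.dvd_gcd dvd_rfl h4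
      rw [h] at this
      omega) hpos
  exact lf_of_exact (exact_tE6_18 hq hK hN) h1 h2 h3 (two_dvd (S1070.result hq hK))

theorem lf_td4 {T : Type w} [Group T] (h : Lie.Iso3D4 T) : LF T := by
  obtain ⟨K, _, _, q, hq, hK, ⟨e⟩⟩ := h
  refine LF_congr e.symm ?_
  obtain ⟨N, hN, h1, h2, h3⟩ := n12 (q := q) (by exact_mod_cast hq.two_le)
  exact lf_of_exact (exact_tD4_12 hq hK hN) h1 h2 h3 (two_dvd (S1071.result hq hK))

theorem lf_tf4 {T : Type w} [Group T] (h : Lie.Iso2F4 T) : LF T := by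
  obtain ⟨K, _, _, m, hm, hK, ⟨e⟩⟩ := h
  refine LF_congr e.symm ?_
  have ha : (0 : ℤ) < 2 ^ m := by positivity
  obtain ⟨N, hN⟩ : ∃ N : ℕ, (N : ℤ) = 1 + 2 * (2 ^ m) + 2 * (2 ^ m) ^ 2 + 4 * (2 ^ m) ^ 3 + 4 * (2 ^ m) ^ 4 :=
    ⟨1 + 2 * (2 ^ m) + 2 * (2 ^ m) ^ 2 + 4 * (2 ^ m) ^ 3 + 4 * (2 ^ m) ^ 4, by push_cast; ring⟩
  obtain ⟨h2, h3⟩ := arith hN (by
      push_cast
      generalize (2 ^ m : ZMod 2) = x
      revert x; decide) (by
      push_cast
      have h4 : (2 ^ m : ZMod 3) ≠ 0 := pow_ne_zero _ (by decide)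
      generalize (2 ^ m : ZMod 3) = x at h4
      revert h4; revert x; decide)
  exact lf_of_exact (exact_tF4_plus hK hN) (by
    rintro rfl
    push_cast at hN
    have : 0 < 2 * (2 ^ m : ℤ) + 2 * (2 ^ m) ^ 2 + 4 * (2 ^ m) ^ 3 + 4 * (2 ^ m) ^ 4 := by positivity
    linarith) h2 h3 (two_dvd (S1072.result hm hK))

theorem lf_sz {T : Type w} [Group T] (h : Lie.IsoSuzuki T) : LF T := by
  obtain ⟨K, _, _, m, hm, hK, ⟨e⟩⟩ := h
  obtain ⟨f⟩ := OddCyclic.ClaimC.SzIso.iso hm hK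
  refine LF_congr (f.trans e.symm) ?_
  have hf : Finite (Cfsg.Sz K m) := inferInstance
  obtain ⟨U, h1, h2, h3, -⟩ := S0333.result hm hK (2 ^ (2 * m + 1) + 2 ^ (m + 1) + 1) (by simp)
  have hcard := S0324.result hm hK
  refine lf_of_exact ⟨U, h1, h2, h3⟩ ?_ ?_ ?_ ?_
  · have h4 : 0 < 2 ^ (2 * m + 1) := by positivity
    generalize 2 ^ (2 * m + 1) = a at h4 ⊢
    generalize 2 ^ (m + 1) = b
    omega
  · rw [pow_succ, pow_succ]
    omega
  · have e1 : 2 ^ (2 * m + 1) = 2 * (2 ^ m * 2 ^ m) := by ring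
    have e2 : 2 ^ (m + 1) = 2 * 2 ^ m := by ring
    rw [e1, e2, ← ZMod.natCast_eq_zero_iff]
    push_cast
    have h4 : (2 ^ m : ZMod 3) ≠ 0 := pow_ne_zero _ (by decide)
    generalize (2 ^ m : ZMod 3) = x at h4
    revert h4; revert x; decide
  · rw [hcard]
    refine Dvd.dvd.mul_right (Dvd.dvd.mul_right ?_ _) _
    rw [← pow_mul]
    exact dvd_pow_self 2 (by omega)

theorem lf_ree {T : Type w} [Group T] (h : Lie.IsoRee T) : LF T := by
  obtain ⟨K, _, _, m, hm, hK, ⟨e⟩⟩ := h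
  refine LF_congr e.symm ?_
  have h1 : 3 ^ (2 * m + 1) + 3 ^ (m + 1) + 1 ≠ 1 := by
    have h4 : 0 < 3 ^ (2 * m + 1) := by positivity
    generalize 3 ^ (2 * m + 1) = a at h4 ⊢
    generalize 3 ^ (m + 1) = b
    omega
  obtain ⟨p, hp, hpk⟩ := Nat.exists_prime_and_dvd h1
  obtain ⟨h2, h3, -, -⟩ := H94.RankOne.arith hm hp (Or.inr hpk)
  have h4 : p ∣ Nat.card ↥(twistedG2 K (3 ^ m)) := by
    obtain ⟨g, hg⟩ := (S1159.result hm hK p).2 (Or.inr (Or.inr (Or.inr (Or.inr (Or.inr hpk)))))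
    rw [← hg]
    exact orderOf_dvd_natCard g
  refine LF.of_isolated (π := fun r => r ∣ 3 ^ (2 * m + 1) + 3 ^ (m + 1) + 1) hp (five_le hp h2 h3) h4 hpk
    (two_dvd (S1073.result hm hK)) ?_ ?_
  · intro h
    exact (H94.RankOne.arith hm Nat.prime_two (Or.inr h)).1 rfl
  · intro r s hr hs hrk hsk hx
    obtain ⟨h5, h6, h7, h8⟩ := H94.RankOne.arith hm hr (Or.inr hrk)
    rcases (S1159.result hm hK (r * s)).1 hx with h | h | h | h | h | h
    · have : r ∣ 2 * 3 := (dvd_mul_right r s).trans h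
      rcases hr.dvd_mul.1 this with h | h
      · exact h5 ((Nat.prime_dvd_prime_iff_eq hr Nat.prime_two).1 h)
      · exact h6 ((Nat.prime_dvd_prime_iff_eq hr Nat.prime_three).1 h)
    · have : r ∣ 3 * 3 := (dvd_mul_right r s).trans h
      rcases hr.dvd_mul.1 this with h | h <;> exact h6 ((Nat.prime_dvd_prime_iff_eq hr Nat.prime_three).1 h)
    · exact h7 ((dvd_mul_right r s).trans h)
    · refine h8 ((dvd_mul_right r s).trans (h.trans ?_))
      exact Nat.div_dvd_of_dvd (by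
        have : 3 ^ (2 * m + 1) % 2 = 1 := by rw [Nat.pow_mod]; norm_num
        omega)
    · have h9 : r ∣ 3 ^ (2 * m + 1) - 3 ^ (m + 1) + 1 := (dvd_mul_right r s).trans h
      have hle : 3 ^ (m + 1) ≤ 3 ^ (2 * m + 1) := Nat.pow_le_pow_right (by norm_num) (by omega)
      have h10 : r ∣ 2 * 3 ^ (m + 1) := by
        have e1 : 2 * 3 ^ (m + 1) = (3 ^ (2 * m + 1) + 3 ^ (m + 1) + 1) - (3 ^ (2 * m + 1) - 3 ^ (m + 1) + 1) := by omega
        rw [e1]
        exact Nat.dvd_sub hrk h9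
      rcases hr.dvd_mul.1 h10 with h | h
      · exact h5 ((Nat.prime_dvd_prime_iff_eq hr Nat.prime_two).1 h)
      · exact h6 ((Nat.prime_dvd_prime_iff_eq hr Nat.prime_three).1 (hr.dvd_of_dvd_pow h))
    · exact hsk ((dvd_mul_left s r).trans h)

/-- the Tits group -/
theorem lf_tits {T : Type w} [Group T] (h : Lie.IsoTits T) : LF T := by
  obtain ⟨e⟩ := h
  refine LF_congr' (G := TitsGroup) (H := T) e ?_
  have hcard := S1074.result.2.2.2
  have hfin : Finite TitsGroup := Nat.finite_of_card_ne_zero (by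
    rw [hcard]
    exact mul_ne_zero (mul_ne_zero (mul_ne_zero (by norm_num) (by norm_num)) (by norm_num)) (by norm_num))
  have hex : CycExact ↥(twistedF4 (ZMod 2) (2 ^ 0)) 13 := exact_tF4_plus (m := 0) (by simp) (by norm_num)
  refine LF.of_isolated (π := fun r => r ∣ 13) (p := 13) (by norm_num) (by norm_num)
    (by rw [hcard]; exact dvd_mul_left _ _) dvd_rfl
    (by rw [hcard, mul_assoc, mul_assoc]; exact Dvd.dvd.mul_right (dvd_pow_self 2 (by norm_num)) _) (by norm_num) ?_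
  rintro r s hr hs hr13 hs13 ⟨x, hx⟩
  refine not_order hex hr hr13 hs13 ⟨(x : ↥(twistedF4 (ZMod 2) 1)), ?_⟩
  rw [Subgroup.orderOf_coe, hx]

end Cfsg.Agent.H129.LFExc
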