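import Cfsg.Agent.H129.WForm

/-!
# Reflection subgroups given by a table of matrices (helper129)
-/

set_option autoImplicit false
set_option linter.unusedSectionVars false

namespace Cfsg.Agent.H129.StabTab

open CoxeterSystem Cfsg Cfsg.Lie Cfsg.Lie.ChevalleyDatum
open Cfsg.Agent.ChevalleyStructure Cfsg.Agent.ChevalleyStructure.CoxeterGeom
  Cfsg.Agent.ChevalleyStructure.CoxeterGeomTypes
open Cfsg.Agent.Tits.Roots Cfsg.Agent.Tits.Core Cfsg.Agent.Nodes Cfsg.Agent.Nodes.Reps Cfsg.Agent.Nodes.BNOf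
  Cfsg.Agent.Nodes.RGDChev Cfsg.Agent.Nodes.Bruhat Cfsg.Agent.Nodes.SubComb Cfsg.Agent.Nodes.Coroot
open Cfsg.Agent.H129.TorusChar Cfsg.Agent.H129.TorusCent Cfsg.Agent.H129.TorusTw Cfsg.Agent.H129.TorusMain
  Cfsg.Agent.H129.WData Cfsg.Agent.H129.WForm

variable {D : ChevalleyDatum} {l : ℕ} {M : CoxeterMatrix (Fin l)} (hp : IsType D l M)
  {W : Type*} [Group W] (cs : CoxeterSystem M W)

/-- the matrices form a group -/
def GrpOK {l n : ℕ} (U : Fin n → Mat l) : Prop :=
  (∃ i, ∀ a m, U i a m = if a = m then 1 else 0) ∧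
  (∀ i j, ∃ k, ∀ a m, U k a m = ∑ b, U j a b * U i b m) ∧
  (∀ i, ∃ j, ∀ a m, ∑ b, U j a b * U i b m = if a = m then 1 else 0)

instance decGrpOK {l n : ℕ} (U : Fin n → Mat l) : Decidable (GrpOK U) := by
  unfold GrpOK; infer_instance

/-- The linear map of a Weyl group element on a vector. -/
theorem rep_eq {w : W} {T : Mat l} (h : ∀ a, rep cs hp.isCartan w (sr a) = T a) (x : Fin l → ℤ) :
    rep cs hp.isCartan w x = ∑ b, x b • T b := by
  conv_lhs => rw [IsMC.eq_sum_sr x]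
  rw [map_sum]
  refine Finset.sum_congr rfl fun j _ => ?_
  rw [map_zsmul, h j]

/-- The elements of `W` acting by one of the matrices. -/
def tabV {n : ℕ} {U : Fin n → Mat l} (hU : GrpOK U) : Subgroup W where
  carrier := {w | ∃ i, ∀ a, rep cs hp.isCartan w (sr a) = U i a}
  one_mem' := by
    obtain ⟨i, hi⟩ := hU.1
    refine ⟨i, fun a => ?_⟩
    rw [map_one, Module.End.one_apply]
    funext m
    rw [hi]
    by_cases hm : a = m
    · subst hm; rw [if_pos rfl, sr_self]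
    · rw [if_neg hm, sr_ne (Ne.symm hm)]
  mul_mem' := by
    rintro v w ⟨i, hi⟩ ⟨j, hj⟩
    obtain ⟨k, hk⟩ := hU.2.1 i j
    refine ⟨k, fun a => ?_⟩
    rw [rep_mul_apply, hj, rep_eq hp cs hi]
    funext m
    rw [hk, Finset.sum_apply]
    exact Finset.sum_congr rfl fun b _ => by rw [Pi.smul_apply, smul_eq_mul]
  inv_mem' := by
    rintro w ⟨i, hi⟩
    obtain ⟨j, hj⟩ := hU.2.2 i
    refine ⟨j, fun a => ?_⟩
    have h1 : rep cs hp.isCartan w (U j a) = sr a := by
      rw [rep_eq hp cs hi]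
      funext m
      rw [Finset.sum_apply]
      have e : ∑ b, (U j a b • U i b) m = ∑ b, U j a b * U i b m :=
        Finset.sum_congr rfl fun b _ => by rw [Pi.smul_apply, smul_eq_mul]
      rw [e, hj]
      by_cases hm : a = m
      · subst hm; rw [if_pos rfl, sr_self]
      · rw [if_neg hm, sr_ne (Ne.symm hm)]
    rw [← h1, rep_inv_apply]

theorem mem_tabV {n : ℕ} {U : Fin n → Mat l} (hU : GrpOK U) {w : W} :
    w ∈ tabV hp cs hU ↔ ∃ i, ∀ a, rep cs hp.isCartan w (sr a) = U i a := Iff.rfl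

/-- the matrices contain the reflections in the vectors `S s` -/
def ReflOK {l n m : ℕ} (A : Mat l) (U : Fin n → Mat l) (S : Fin m → Fin l → ℤ) : Prop :=
  ∀ s, ∃ i, ∀ j a, U i j a = (if j = a then 1 else 0) - (∑ b, S s b * A b j) * S s a

instance decReflOK {l n m : ℕ} (A : Mat l) (U : Fin n → Mat l) (S : Fin m → Fin l → ℤ) :
    Decidable (ReflOK A U S) := by
  unfold ReflOK; infer_instance

theorem refl_mem [Finite W] {A : Mat l} (hA : ∀ i j, A i j = cartanOf D l i j) {i0 : Fin l} {dep : Fin l → ℕ}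
    (hd : ConnOK A i0 dep) {n m : ℕ} {U : Fin n → Mat l} (hU : GrpOK U) {S : Fin m → Fin l → ℤ}
    (hR : ReflOK A U S) {s : Fin m} (hs : IsRoot cs hp.isCartan (S s)) :
    ∃ v i, S s = rep cs hp.isCartan v (sr i) ∧ rfl' cs v i ∈ tabV hp cs hU := by
  obtain ⟨v, i, e⟩ := id hs
  obtain ⟨i', hi'⟩ := hR s
  refine ⟨v, i, e, i', fun j => ?_⟩
  rw [rep_rfl'_eq, ← e, cpr_eq hp cs hA hd _ hs]
  funext a
  rw [hi', Pi.sub_apply, Pi.smul_apply, smul_eq_mul]
  have e1 : ∑ i, S s i * ∑ j', A i j' * (sr j : Fin l → ℤ) j' = ∑ b, S s b * A b j := by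
    refine Finset.sum_congr rfl fun b _ => ?_
    rw [Finset.sum_eq_single j]
    · rw [sr_self, mul_one]
    · intro c _ hc
      rw [sr_ne hc, mul_zero]
    · intro hj
      exact absurd (Finset.mem_univ j) hj
  rw [e1]
  by_cases hja : j = a
  · subst hja; rw [if_pos rfl, sr_self]
  · rw [if_neg hja, sr_ne (Ne.symm hja)]

/-- the matrices are the identity modulo the span of the `S s` -/
def SpanOK {l n m : ℕ} (U : Fin n → Mat l) (S : Fin m → Fin l → ℤ) (C : Fin n → Fin l → Fin m → ℤ) : Prop :=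
  ∀ i j a, U i j a - (if j = a then 1 else 0) = ∑ s, C i j s * S s a

instance decSpanOK {l n m : ℕ} (U : Fin n → Mat l) (S : Fin m → Fin l → ℤ) (C : Fin n → Fin l → Fin m → ℤ) :
    Decidable (SpanOK U S C) := by
  unfold SpanOK; infer_instance

theorem sub_mem {n m : ℕ} {U : Fin n → Mat l} (hU : GrpOK U) {S : Fin m → Fin l → ℤ}
    {C : Fin n → Fin l → Fin m → ℤ} (hC : SpanOK U S C) {X : Set (Fin l → ℤ)} (hX : ∀ s, S s ∈ X) {v : W}
    (hv : v ∈ tabV hp cs hU) (x : Fin l → ℤ) : rep cs hp.isCartan v x - x ∈ AddSubgroup.closure X := by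
  obtain ⟨i, hi⟩ := hv
  have h1 : ∀ j, U i j - sr j ∈ AddSubgroup.closure X := by
    intro j
    have e : U i j - sr j = ∑ s, C i j s • S s := by
      funext a
      rw [Finset.sum_apply, Pi.sub_apply]
      have e1 : (sr j : Fin l → ℤ) a = if j = a then 1 else 0 := by
        by_cases hja : j = a
        · subst hja; rw [if_pos rfl, sr_self]
        · rw [if_neg hja, sr_ne (Ne.symm hja)]
      rw [e1, hC]
      exact Finset.sum_congr rfl fun s _ => by rw [Pi.smul_apply, smul_eq_mul]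
    rw [e]
    exact sum_mem fun s _ => zsmul_mem (AddSubgroup.subset_closure (hX s)) _
  have e : rep cs hp.isCartan v x - x = ∑ j, x j • (U i j - sr j) := by
    rw [rep_eq hp cs hi]
    conv_lhs => rw [IsMC.eq_sum_sr x]
    rw [← Finset.sum_sub_distrib]
    refine Finset.sum_congr rfl fun j _ => ?_
    rw [smul_sub]
    congr 2
    conv_rhs => rw [IsMC.eq_sum_sr x]
  rw [e]
  exact sum_mem fun j _ => zsmul_mem (h1 j) _

/-- every matrix but the identity moves a vector by some `S s` -/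
def MoveOK {l n m : ℕ} (U : Fin n → Mat l) (S : Fin m → Fin l → ℤ) (X : Fin n → Fin l → ℤ) : Prop :=
  ∀ i, (∀ a m, U i a m = if a = m then 1 else 0) ∨ ∃ s, ∀ a, ∑ j, X i j * U i j a - X i a = S s a

instance decMoveOK {l n m : ℕ} (U : Fin n → Mat l) (S : Fin m → Fin l → ℤ) (X : Fin n → Fin l → ℤ) :
    Decidable (MoveOK U S X) := by
  unfold MoveOK; infer_instance

theorem exists_move [Finite W] {n m : ℕ} {U : Fin n → Mat l} (hU : GrpOK U) {S : Fin m → Fin l → ℤ}
    {X : Fin n → Fin l → ℤ} (hX : MoveOK U S X) {v : W} (hv : v ∈ tabV hp cs hU) (hv1 : v ≠ 1) :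
    ∃ x s, rep cs hp.isCartan v x - x = S s := by
  obtain ⟨i, hi⟩ := hv
  rcases hX i with h1 | ⟨s, hs⟩
  · exfalso
    apply hv1
    refine ChevalleyStructure.CoxeterGeom.eq_one_of_fix cs hp.isCartan v fun a => ?_
    have h2 := hi a
    have e : (sr a : Fin l → ℤ) = Pi.single a 1 := rfl
    rw [← e, h2]
    funext m
    rw [h1]
    by_cases hm : a = m
    · subst hm; rw [if_pos rfl, sr_self]
    · rw [if_neg hm, sr_ne (Ne.symm hm)]
  · refine ⟨X i, s, ?_⟩
    rw [rep_eq hp cs hi]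
    funext a
    rw [← hs a, Pi.sub_apply, Finset.sum_apply]
    rfl

end Cfsg.Agent.H129.StabTab
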