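import Cfsg.Agent.H129.TorusCent

/-!
# Twisted tori (helper129)

`θ` an endomorphism of the lattice `ℤ^l`, `V i = θ^i V 0` a basis, `f(θ) = 0` on `V 0`, `f(x) = x^l + ∑ c_i x^i`
(`Cyc`).  `G q x` is the functional with `G q (V i) = q^i`, `fN c q = f(q)`.

* `eq_zpow` : `t` with `cX t (θ x) = cX t x ^ q`: `cX t x = u ^ G q x`, `u = cX t (V 0)`, `u ^ f(q) = 1`;
* `exists_of_pow` : every `u` with `u ^ f(q) = 1` occurs;
* `exists_gen` : the group of these `t` is cyclic of order `f(q)`.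
-/

set_option autoImplicit false
set_option linter.unusedSectionVars false

namespace Cfsg.Agent.H129.TorusTw

open CoxeterSystem Cfsg Cfsg.Lie Cfsg.Lie.ChevalleyDatum
open Cfsg.Agent.ChevalleyStructure Cfsg.Agent.ChevalleyStructure.Elts Cfsg.Agent.ChevalleyStructure.CoxeterGeom
  Cfsg.Agent.ChevalleyStructure.CoxeterGeomTypes Cfsg.Agent.ChevalleyStructure.NPerm
open Cfsg.Agent.Tits.Roots Cfsg.Agent.Tits.Core Cfsg.Agent.Nodes Cfsg.Agent.Nodes.Reps Cfsg.Agent.Nodes.BNOf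
  Cfsg.Agent.Nodes.RGDChev Cfsg.Agent.Nodes.Bruhat Cfsg.Agent.Nodes.SubComb Cfsg.Agent.Nodes.Coroot
open Cfsg.Agent.KFacts.RgdField Cfsg.Agent.KFacts.RgdChevCoord Cfsg.Agent.BpExc.TorCent Cfsg.Agent.BpExc.TorChev
open Cfsg.Agent.GpExc.Field Cfsg.Agent.BpExc.Tow Cfsg.Agent.BpExc.TowChev Cfsg.Agent.BpExc.Fr
  Cfsg.Agent.BpExc.LangFr Cfsg.Agent.LangThm Cfsg.Agent.BpExc Cfsg.Agent.H129.TorusChar

universe u

/-! ### the lattice -/

/-- A cyclic lattice with its basis `V i = θ^i V 0`, the coordinates `B` and the polynomial `c`. -/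
structure Cyc (l : ℕ) (θ : (Fin l → ℤ) →+ (Fin l → ℤ)) (V B : Fin l → Fin l → ℤ) (c : Fin l → ℤ) : Prop where
  span : ∀ j, (sr j : Fin l → ℤ) = ∑ i, B j i • V i
  dual : ∀ i i', ∑ j, V i j * B j i' = if i = i' then 1 else 0
  succ : ∀ i i' : Fin l, (i' : ℕ) = i + 1 → θ (V i) = V i'
  last : ∀ i : Fin l, (i : ℕ) + 1 = l → θ (V i) = - ∑ j, c j • V j

/-- The value `f(q)`. -/
def fN {l : ℕ} (c : Fin l → ℤ) (q : ℤ) : ℤ := q ^ l + ∑ i, c i * q ^ (i : ℕ)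

/-- The functional `V i ↦ q ^ i`. -/
def Gq {l : ℕ} (B : Fin l → Fin l → ℤ) (q : ℤ) (x : Fin l → ℤ) : ℤ := ∑ j, x j * ∑ i, B j i * q ^ (i : ℕ)

theorem Gq_add {l : ℕ} (B : Fin l → Fin l → ℤ) (q : ℤ) (x y : Fin l → ℤ) : Gq B q (x + y) = Gq B q x + Gq B q y := by
  unfold Gq
  rw [← Finset.sum_add_distrib]
  exact Finset.sum_congr rfl fun j _ => by rw [Pi.add_apply, add_mul]

theorem Gq_zero {l : ℕ} (B : Fin l → Fin l → ℤ) (q : ℤ) : Gq B q 0 = 0 := by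
  unfold Gq
  exact Finset.sum_eq_zero fun j _ => by rw [Pi.zero_apply, zero_mul]

/-- `Gq` as an additive homomorphism -/
def GqH {l : ℕ} (B : Fin l → Fin l → ℤ) (q : ℤ) : (Fin l → ℤ) →+ ℤ where
  toFun := Gq B q
  map_zero' := Gq_zero B q
  map_add' := Gq_add B q

theorem GqH_apply {l : ℕ} (B : Fin l → Fin l → ℤ) (q : ℤ) (x : Fin l → ℤ) : GqH B q x = Gq B q x := rfl

namespace Cyc

variable {l : ℕ} {θ : (Fin l → ℤ) →+ (Fin l → ℤ)} {V B : Fin l → Fin l → ℤ} {c : Fin l → ℤ} (h : Cyc l θ V B c)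

include h

theorem eq_sum (x : Fin l → ℤ) : x = ∑ i, (∑ j, x j * B j i) • V i := by
  calc x = ∑ j, x j • (sr j : Fin l → ℤ) := IsMC.eq_sum_sr x
    _ = ∑ j, ∑ i, (x j * B j i) • V i := by
      refine Finset.sum_congr rfl fun j _ => ?_
      rw [h.span j, Finset.smul_sum]
      exact Finset.sum_congr rfl fun i _ => smul_smul _ _ _
    _ = ∑ i, (∑ j, x j * B j i) • V i := by
      rw [Finset.sum_comm]
      exact Finset.sum_congr rfl fun i _ => (Finset.sum_smul).symm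

theorem G_V (q : ℤ) (i : Fin l) : Gq B q (V i) = q ^ (i : ℕ) := by
  unfold Gq
  calc ∑ j, V i j * ∑ i', B j i' * q ^ (i' : ℕ) = ∑ j, ∑ i', V i j * B j i' * q ^ (i' : ℕ) := by
        refine Finset.sum_congr rfl fun j _ => ?_
        rw [Finset.mul_sum]
        exact Finset.sum_congr rfl fun i' _ => (mul_assoc _ _ _).symm
    _ = ∑ i', (∑ j, V i j * B j i') * q ^ (i' : ℕ) := by
        rw [Finset.sum_comm]
        exact Finset.sum_congr rfl fun i' _ => (Finset.sum_mul _ _ _).symm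
    _ = q ^ (i : ℕ) := by
        rw [Finset.sum_eq_single i]
        · rw [h.dual, if_pos rfl, one_mul]
        · intro i' _ hi
          rw [h.dual, if_neg (Ne.symm hi), zero_mul]
        · intro hi
          exact absurd (Finset.mem_univ i) hi

theorem G_last (q : ℤ) (i : Fin l) (hi : (i : ℕ) + 1 = l) : Gq B q (θ (V i)) = q ^ l - fN c q := by
  have h1 : Gq B q (θ (V i)) = GqH B q (θ (V i)) := rfl
  rw [h1, h.last i hi, map_neg, map_sum]
  have h2 : ∀ j ∈ Finset.univ, GqH B q (c j • V j) = c j * q ^ (j : ℕ) := fun j _ => by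
    rw [map_zsmul, GqH_apply, h.G_V, smul_eq_mul]
  rw [Finset.sum_congr rfl h2]
  unfold fN
  ring

theorem G_succ (q : ℤ) (i : Fin l) (hi : (i : ℕ) + 1 < l) : Gq B q (θ (V i)) = q ^ ((i : ℕ) + 1) := by
  rw [h.succ i ⟨(i : ℕ) + 1, hi⟩ rfl, h.G_V]

/-- `G (θ x) ≡ q G x` modulo `f(q)`. -/
theorem dvd_G (q : ℤ) (x : Fin l → ℤ) : fN c q ∣ Gq B q (θ x) - q * Gq B q x := by
  have h1 : Gq B q (θ x) - q * Gq B q x = ((GqH B q).comp θ - (AddMonoidHom.mulLeft q).comp (GqH B q)) x := rfl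
  rw [h1, h.eq_sum x, map_sum]
  refine Finset.dvd_sum fun i _ => ?_
  rw [map_zsmul, smul_eq_mul]
  refine Dvd.dvd.mul_left ?_ _
  show fN c q ∣ Gq B q (θ (V i)) - q * Gq B q (V i)
  rw [h.G_V]
  rcases Nat.lt_or_ge ((i : ℕ) + 1) l with hi | hi
  · rw [h.G_succ q i hi, pow_succ, mul_comm q, sub_self]
    exact dvd_zero _
  · have hi' : (i : ℕ) + 1 = l := by have := i.2; omega
    have e : q ^ l = q ^ (i : ℕ) * q := by rw [← pow_succ, hi']
    rw [h.G_last q i hi', e]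
    exact ⟨-1, by ring⟩

section Char

variable {k : Type u} [Field k] {φ : (Fin l → ℤ) → k} (hφ : IsMC φ) {q : ℕ}

include hφ

/-- the values on the basis -/
theorem phi_V (hl : 0 < l) (hθ : ∀ x, φ (θ x) = φ x ^ q) (i : Fin l) : φ (V i) = φ (V ⟨0, hl⟩) ^ q ^ (i : ℕ) := by
  obtain ⟨i, hi⟩ := i
  induction i with
  | zero => rw [pow_zero, pow_one]
  | succ i ih =>
    have h1 := ih (by omega)
    rw [← h.succ ⟨i, by omega⟩ ⟨i + 1, hi⟩ rfl, hθ, h1, ← pow_mul, pow_succ]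

/-- **The values of a character.** -/
theorem eq_zpow (hl : 0 < l) (hθ : ∀ x, φ (θ x) = φ x ^ q) (x : Fin l → ℤ) :
    φ x = φ (V ⟨0, hl⟩) ^ Gq B q x := by
  have h0 := hφ.ne_zero (V ⟨0, hl⟩)
  conv_lhs => rw [h.eq_sum x]
  rw [hφ.sum_smul]
  have h1 : Gq B (q : ℤ) x = ∑ i, (∑ j, x j * B j i) * (q : ℤ) ^ (i : ℕ) := by
    unfold Gq
    calc ∑ j, x j * ∑ i', B j i' * (q : ℤ) ^ (i' : ℕ) = ∑ j, ∑ i', x j * B j i' * (q : ℤ) ^ (i' : ℕ) := by
          refine Finset.sum_congr rfl fun j _ => ?_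
          rw [Finset.mul_sum]
          exact Finset.sum_congr rfl fun i' _ => (mul_assoc _ _ _).symm
      _ = _ := by
          rw [Finset.sum_comm]
          exact Finset.sum_congr rfl fun i' _ => (Finset.sum_mul _ _ _).symm
  rw [h1]
  have h2 : ∀ s : Finset (Fin l), φ (V ⟨0, hl⟩) ^ (∑ i ∈ s, (∑ j, x j * B j i) * (q : ℤ) ^ (i : ℕ)) =
      ∏ i ∈ s, φ (V ⟨0, hl⟩) ^ ((∑ j, x j * B j i) * (q : ℤ) ^ (i : ℕ)) := by
    classical
    intro s
    induction s using Finset.induction_on with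
    | empty => rw [Finset.sum_empty, Finset.prod_empty, zpow_zero]
    | insert a s ha ih => rw [Finset.sum_insert ha, Finset.prod_insert ha, zpow_add₀ h0, ih]
  rw [h2]
  refine Finset.prod_congr rfl fun i _ => ?_
  rw [h.phi_V hφ hl hθ i, ← zpow_natCast, ← zpow_mul, mul_comm, Nat.cast_pow]

theorem zpow_fN (hl : 0 < l) (hθ : ∀ x, φ (θ x) = φ x ^ q) : φ (V ⟨0, hl⟩) ^ fN c q = 1 := by
  have h0 := hφ.ne_zero (V ⟨0, hl⟩)
  have h1 := hθ (V ⟨l - 1, by omega⟩)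
  have h2 := h.phi_V hφ hl hθ ⟨l - 1, by omega⟩
  rw [h.eq_zpow hφ hl hθ (θ _), h.G_last q ⟨l - 1, by omega⟩ (by show l - 1 + 1 = l; omega), h2, ← pow_mul,
    ← pow_succ, ← zpow_natCast, Nat.cast_pow] at h1
  have e : (⟨l - 1, by omega⟩ : Fin l).val + 1 = l := by show l - 1 + 1 = l; omega
  rw [e, zpow_sub₀ h0, div_eq_iff (zpow_ne_zero _ h0)] at h1
  exact (mul_eq_left₀ (zpow_ne_zero _ h0)).1 h1.symm

omit hφ in
/-- **Every solution of `u ^ f(q) = 1` gives a character.** -/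
theorem char_of_pow {q : ℕ} {u : k} (hu0 : u ≠ 0) (hu : u ^ fN c q = 1) :
    IsMC (fun x => u ^ Gq B q x) ∧ ∀ x, u ^ Gq B q (θ x) = (u ^ Gq B q x) ^ q := by
  refine ⟨⟨by show u ^ Gq B q 0 = 1; rw [Gq_zero, zpow_zero], fun x y => ?_⟩, fun x => ?_⟩
  · show u ^ Gq B q (x + y) = u ^ Gq B q x * u ^ Gq B q y
    rw [Gq_add, zpow_add₀ hu0]
  · obtain ⟨m, hm⟩ := h.dvd_G q x
    have e : Gq B q (θ x) = fN c q * m + Gq B q x * q := by rw [← hm]; ring
    rw [e, zpow_add₀ hu0, zpow_mul, hu, one_zpow, one_mul, zpow_mul, zpow_natCast]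

end Char

end Cyc

/-! ### the twisted torus -/

section Torus

variable {D : ChevalleyDatum} {l : ℕ} {M : CoxeterMatrix (Fin l)} (hp : IsType D l M) {k : Type u} [Field k]
  {θ : (Fin l → ℤ) →+ (Fin l → ℤ)} {V B : Fin l → Fin l → ℤ} {c : Fin l → ℤ} (h : Cyc l θ V B c)

include h in
/-- **The group of the `t` with `cX t (θ x) = cX t x ^ q` is cyclic of order `f(q)`.** -/
theorem exists_gen (hl : 0 < l) [IsAlgClosed k] {d : ℕ} {B' : Fin l → Fin l → ℤ} (hB : InvC D l d B') (hd : d ≠ 0)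
    {q N : ℕ} (hN : fN c q = N) (hN0 : (N : k) ≠ 0) :
    ∃ t ∈ TT D k, (∀ x, cX hp t (θ x) = cX hp t x ^ q) ∧ orderOf t = N ∧
      (∃ u : k, IsPrimitiveRoot u N ∧ ∀ x, cX hp t x = u ^ Gq B q x) ∧
      ∀ s ∈ TT D k, (∀ x, cX hp s (θ x) = cX hp s x ^ q) → s ∈ Subgroup.zpowers t := by
  have hNne : NeZero (N : k) := ⟨hN0⟩
  have hNpos : 0 < N := Nat.pos_of_ne_zero fun h0 => hN0 (by rw [h0, Nat.cast_zero])
  have hNne' : NeZero N := ⟨hNpos.ne'⟩
  obtain ⟨u, hu⟩ := HasEnoughRootsOfUnity.exists_primitiveRoot k N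
  have hu0 : u ≠ 0 := hu.ne_zero hNpos.ne'
  have huN : u ^ fN c q = 1 := by rw [hN, zpow_natCast]; exact hu.pow_eq_one
  obtain ⟨h1, h2⟩ := h.char_of_pow (k := k) (q := q) hu0 huN
  obtain ⟨t, ht, h3⟩ := exists_cX hp hB hd h1 (fun i => IsAlgClosed.exists_pow_nat_eq _ (Nat.pos_of_ne_zero hd))
  have hθ : ∀ x, cX hp t (θ x) = cX hp t x ^ q := fun x => by rw [h3, h3]; exact h2 x
  have hV : cX hp t (V ⟨0, hl⟩) = u := by
    rw [h3]
    show u ^ Gq B q (V ⟨0, hl⟩) = u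
    rw [h.G_V, pow_zero, zpow_one]
  have hcyc : ∀ s ∈ TT D k, (∀ x, cX hp s (θ x) = cX hp s x ^ q) → s ∈ Subgroup.zpowers t := by
    intro s hs hsθ
    have h4 := h.zpow_fN (isMC_cX hp hs) hl hsθ
    rw [hN, zpow_natCast] at h4
    obtain ⟨n, -, hn⟩ := hu.eq_pow_of_pow_eq_one h4
    have e : s = t ^ n := by
      refine cX_inj hp hs (pow_mem ht n) fun i => ?_
      rw [cX_pow hp ht, h.eq_zpow (isMC_cX hp hs) hl hsθ, h.eq_zpow (isMC_cX hp ht) hl hθ, hV, ← hn,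
        ← zpow_natCast, ← zpow_natCast, ← zpow_mul, ← zpow_mul, mul_comm]
    rw [e]
    exact Subgroup.npow_mem_zpowers t n
  refine ⟨t, ht, hθ, ?_, ⟨u, hu, h3⟩, hcyc⟩
  have h5 : ∀ n : ℕ, t ^ n = 1 ↔ u ^ n = 1 := by
    intro n
    constructor
    · intro h6
      have h7 := cX_pow hp ht n (V ⟨0, hl⟩)
      rw [h6, cX_one, hV] at h7
      exact h7.symm
    · intro h6
      refine cX_inj hp (pow_mem ht n) (one_mem _) fun i => ?_
      rw [cX_pow hp ht, cX_one, h3, ← zpow_natCast, ← zpow_mul, mul_comm, zpow_mul, zpow_natCast, h6, one_zpow]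
  apply Nat.dvd_antisymm
  · rw [orderOf_dvd_iff_pow_eq_one, h5]
    exact hu.pow_eq_one
  · apply hu.dvd_of_pow_eq_one
    rw [← h5]
    exact pow_orderOf_eq_one t

end Torus

end Cfsg.Agent.H129.TorusTw
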