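import Cfsg.Agent.H129.WData

/-!
# The invariant form of the simply laced types on explicit vectors (helper129)

* `form_sr_eq` : the simple roots have the same length;
* `cpr_eq` : `⟨x, y^∨⟩ = ∑ y_i ⟨x, α_i^∨⟩`;
* `orth_of` : `Orth` for a set of roots contained in a table of vectors orthogonal up to sign.
-/

set_option autoImplicit false
set_option linter.unusedSectionVars false

namespace Cfsg.Agent.H129.WForm

open CoxeterSystem Cfsg Cfsg.Lie Cfsg.Lie.ChevalleyDatum
open Cfsg.Agent.ChevalleyStructure Cfsg.Agent.ChevalleyStructure.CoxeterGeom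
  Cfsg.Agent.ChevalleyStructure.CoxeterGeomTypes
open Cfsg.Agent.Tits.Roots Cfsg.Agent.Tits.Core Cfsg.Agent.Nodes Cfsg.Agent.Nodes.Reps Cfsg.Agent.Nodes.BNOf
  Cfsg.Agent.Nodes.RGDChev Cfsg.Agent.Nodes.Bruhat Cfsg.Agent.Nodes.SubComb Cfsg.Agent.Nodes.Coroot
open Cfsg.Agent.H129.TorusCent Cfsg.Agent.H129.WData

variable {D : ChevalleyDatum} {l : ℕ} {M : CoxeterMatrix (Fin l)} (hp : IsType D l M)
  {W : Type*} [Group W] [Finite W] (cs : CoxeterSystem M W)

theorem pairing_sr {A : Fin l → Fin l → ℤ} (i j : Fin l) : pairing A i (sr j) = A i j := by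
  unfold pairing
  rw [Finset.sum_eq_single j]
  · rw [sr_self, mul_one]
  · intro b _ hb
    rw [sr_ne hb, mul_zero]
  · intro hj
    exact absurd (Finset.mem_univ j) hj

/-- the check: the Dynkin diagram is connected and simply laced -/
def ConnOK {l : ℕ} (A : Mat l) (i0 : Fin l) (dep : Fin l → ℕ) : Prop :=
  ∀ i, i = i0 ∨ ∃ j, dep j < dep i ∧ A i j = A j i ∧ A i j ≠ 0

instance decConnOK {l : ℕ} (A : Mat l) (i0 : Fin l) (dep : Fin l → ℕ) : Decidable (ConnOK A i0 dep) := by
  unfold ConnOK; infer_instance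

theorem form_sr_eq [Fintype W] {A : Mat l} (hA : ∀ i j, A i j = cartanOf D l i j) {i0 : Fin l} {dep : Fin l → ℕ}
    (hd : ConnOK A i0 dep) (i : Fin l) :
    form cs hp.isCartan (sr i) (sr i) = form cs hp.isCartan (sr i0) (sr i0) := by
  have key : ∀ (n : ℕ) (i : Fin l), dep i = n →
      form cs hp.isCartan (sr i) (sr i) = form cs hp.isCartan (sr i0) (sr i0) := by
    intro n
    induction n using Nat.strong_induction_on with
    | _ n ih =>
      intro i hi
      rcases hd i with rfl | ⟨j, h1, h2, h3⟩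
      · rfl
      · rw [← ih _ (by rw [← hi]; exact h1) j rfl]
        have h4 := two_form cs hp.isCartan i (sr j)
        have h5 := two_form cs hp.isCartan j (sr i)
        rw [pairing_sr, ← hA] at h4 h5
        rw [form_comm, ← h2] at h5
        have h6 : A i j * form cs hp.isCartan (sr i) (sr i) = A i j * form cs hp.isCartan (sr j) (sr j) := by
          rw [← h4, ← h5]
        exact mul_left_cancel₀ h3 h6
  exact key _ i rfl

theorem cpr_eq {A : Mat l} (hA : ∀ i j, A i j = cartanOf D l i j) {i0 : Fin l} {dep : Fin l → ℕ}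
    (hd : ConnOK A i0 dep) (x : Fin l → ℤ) {y : Fin l → ℤ} (hy : IsRoot cs hp.isCartan y) :
    cpr cs hp.isCartan x y = ∑ i, y i * ∑ j, A i j * x j := by
  have := Fintype.ofFinite W
  apply cpr_eq_of_form cs hp.isCartan hy
  have h1 : form cs hp.isCartan y y = form cs hp.isCartan (sr i0) (sr i0) := by
    obtain ⟨w, i, rfl⟩ := hy
    rw [form_rep, form_sr_eq hp cs hA hd]
  rw [h1, form_eq_sum, Finset.mul_sum, Finset.sum_mul]
  refine Finset.sum_congr rfl fun i _ => ?_
  have h2 := two_form cs hp.isCartan i x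
  rw [form_sr_eq hp cs hA hd i] at h2
  have h3 : pairing (cartanOf D l) i x = ∑ j, A i j * x j := by
    unfold pairing
    exact Finset.sum_congr rfl fun j _ => by rw [hA]
  rw [← h3]
  linear_combination (y i) * h2

/-- the check: the vectors are orthogonal or equal up to sign -/
def TabOK {l m : ℕ} (A : Mat l) (S : Fin m → Fin l → ℤ) : Prop :=
  ∀ a b, (∀ i, S b i = S a i) ∨ (∀ i, S b i = - S a i) ∨ ∑ i, S a i * ∑ j, A i j * S b j = 0

instance decTabOK {l m : ℕ} (A : Mat l) (S : Fin m → Fin l → ℤ) : Decidable (TabOK A S) := by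
  unfold TabOK; infer_instance

theorem orth_of {A : Mat l} (hA : ∀ i j, A i j = cartanOf D l i j) {i0 : Fin l} {dep : Fin l → ℕ}
    (hd : ConnOK A i0 dep) {m : ℕ} {S : Fin m → Fin l → ℤ} (hS : TabOK A S) {X : Set (Fin l → ℤ)}
    (hX : ∀ a ∈ X, IsRoot cs hp.isCartan a) (hXS : ∀ a ∈ X, ∃ s, a = S s) : Orth hp cs X := by
  intro a ha
  have hra := hX a ha
  obtain ⟨v, i, e⟩ := id hra
  refine ⟨v, i, e, fun b hb => ?_⟩
  rw [rep_rfl'_eq, ← e]
  have hrb := hX b hb
  obtain ⟨s, hs⟩ := hXS a ha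
  obtain ⟨s', hs'⟩ := hXS b hb
  rcases hS s s' with h1 | h1 | h1
  · have e' : b = a := by rw [hs, hs']; exact funext h1
    right
    rw [e', cpr_self cs _ hra]
    module
  · have e' : b = -a := by rw [hs, hs']; exact funext h1
    right
    rw [e', cpr_neg cs _ _ hra, cpr_self cs _ hra]
    module
  · left
    rw [cpr_eq hp cs hA hd b hra, hs, hs', h1, zero_smul, sub_zero]

end Cfsg.Agent.H129.WForm
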